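import Mathlib
import Cfsg.Agent.Helper22.BlkSubsec2
import Cfsg.Agent.Helper24.CharBasic
import Cfsg.Agent.Helper24.CharLinear
import Cfsg.Agent.Helper5.BlkCen

/-!
helper24: generic lemmas for blocks with a defect group of order two (central involutions,
splitting a sum along the `2`-sections of `1` and of an involution).
-/

set_option autoImplicit false

namespace Cfsg.Agent.Helper24

open Cfsg Cfsg.Agent.Helper22 Cfsg.Agent.Helper5

universe u

section Central

variable {H : Type u} [Group H]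

theorem d1_odd_mul (z : H) (hz : orderOf z = 2) (hzc : ∀ h : H, z * h = h * z) (y : H)
    (hy : ¬ 2 ∣ orderOf y) : 2 ∣ orderOf (z * y) := by
  by_contra h
  have hc : Commute z y := hzc y
  have h1 : (z * y) ^ orderOf (z * y) = 1 := pow_orderOf_eq_one _
  rw [hc.mul_pow] at h1
  have hodd : orderOf (z * y) % 2 = 1 := by omega
  have hz2 : z ^ 2 = 1 := by rw [← hz]; exact pow_orderOf_eq_one z
  have hzm : z ^ orderOf (z * y) = z := by
    rw [← Nat.mod_add_div (orderOf (z * y)) 2, hodd, pow_add, pow_mul, hz2, one_pow, mul_one,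
      pow_one]
  rw [hzm] at h1
  have hzy : z ∈ Subgroup.zpowers y := by
    have h2 : z = (y ^ orderOf (z * y))⁻¹ := eq_inv_of_mul_eq_one_left h1
    rw [h2]
    exact Subgroup.inv_mem _ (Subgroup.pow_mem _ (Subgroup.mem_zpowers y) _)
  have h3 := orderOf_dvd_of_mem_zpowers hzy
  rw [hz] at h3
  exact hy h3

theorem d1_ppart_notMem (z : H) (hz : orderOf z = 2) (h u : H)
    (h2 : 2 ∣ orderOf h) (h2' : 2 ∣ orderOf (z * h)) (hu : IsPPart 2 h u) :
    u ∉ Subgroup.zpowers z := by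
  intro hmem
  obtain ⟨y, huy, hcomm, -, hy⟩ := hu
  obtain ⟨n, hn⟩ := Subgroup.mem_zpowers_iff.mp hmem
  have hz2 : z ^ 2 = 1 := by rw [← hz]; exact pow_orderOf_eq_one z
  have hn2 : z ^ (n % 2) = u := by
    have h3 := zpow_mod_orderOf z n
    rw [hz] at h3
    rw [← hn]
    exact_mod_cast h3
  rcases Int.emod_two_eq_zero_or_one n with h0 | h0
  · rw [h0, zpow_zero] at hn2
    rw [← hn2, one_mul] at huy
    rw [huy] at hy
    exact hy h2
  · rw [h0, zpow_one] at hn2
    rw [← hn2] at huy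
    have h3 : z * h = y := by
      rw [← huy, ← mul_assoc, ← sq, hz2, one_mul]
    rw [h3] at h2'
    exact hy h2'

theorem d1_sum_split [Fintype H] (z : H) (hz : orderOf z = 2) (hzc : ∀ h : H, z * h = h * z)
    (f : H → ℂ) (hf : ∀ h : H, 2 ∣ orderOf h → 2 ∣ orderOf (z * h) → f h = 0) :
    ∑ h : H, f h = ∑ y ∈ Finset.univ.filter (fun y : H => ¬ 2 ∣ orderOf y),
      (f y + f (z * y)) := by
  classical
  have hz2 : z ^ 2 = 1 := by rw [← hz]; exact pow_orderOf_eq_one z
  have hzz : ∀ h : H, z * (z * h) = h := fun h => by rw [← mul_assoc, ← sq, hz2, one_mul]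
  have e1 : ∑ y ∈ Finset.univ.filter (fun y : H => ¬ 2 ∣ orderOf y), f (z * y)
      = ∑ h : H, if 2 ∣ orderOf h then f h else 0 := by
    rw [Finset.sum_filter]
    rw [← Equiv.sum_comp (Equiv.mulLeft z)
      (fun y : H => if ¬ 2 ∣ orderOf y then f (z * y) else 0)]
    refine Finset.sum_congr rfl fun h _ => ?_
    show (if ¬ 2 ∣ orderOf (z * h) then f (z * (z * h)) else 0)
      = if 2 ∣ orderOf h then f h else 0
    rw [hzz h]
    by_cases h1 : 2 ∣ orderOf (z * h)
    · rw [if_neg (not_not.mpr h1)]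
      by_cases h2 : 2 ∣ orderOf h
      · rw [if_pos h2, hf h h2 h1]
      · rw [if_neg h2]
    · rw [if_pos h1]
      have h3 := d1_odd_mul z hz hzc (z * h) h1
      rw [hzz h] at h3
      rw [if_pos h3]
  rw [Finset.sum_add_distrib, e1, Finset.sum_filter, ← Finset.sum_add_distrib]
  refine Finset.sum_congr rfl fun h _ => ?_
  by_cases h2 : 2 ∣ orderOf h
  · rw [if_neg (not_not.mpr h2), if_pos h2, zero_add]
  · rw [if_pos h2, if_neg h2, add_zero]

theorem d1_central_scalar (ψ : IrrCharacter H) (z : H) (hz : ∀ w : H, z * w = w * z) :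
    ∃ c : ℂ, ∀ g : H, ψ.1 (z * g) = c * ψ.1 g := by
  obtain ⟨n, ρ, hρ, hχ⟩ := ψ.2
  haveI : ρ.IsIrreducible := hρ
  obtain ⟨c, hc⟩ : ∃ c : ℂ, ρ z = c • LinearMap.id := by
    refine ⟨_, eq_smul_of_comm_of_irreducible ρ (ρ z) (fun x => ?_)⟩
    show ρ z * ρ x = ρ x * ρ z
    rw [← map_mul, ← map_mul, hz]
  refine ⟨c, fun g => ?_⟩
  rw [← hχ]
  show LinearMap.trace ℂ (Fin n → ℂ) (ρ (z * g)) = c * LinearMap.trace ℂ (Fin n → ℂ) (ρ g)
  have h4 : ρ (z * g) = c • ρ g := by
    rw [map_mul, hc]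
    apply LinearMap.ext
    intro v
    simp
  rw [h4, map_smul, smul_eq_mul]

theorem d1_central_sign (ψ : IrrCharacter H) (z : H) (hz2 : z * z = 1)
    (hz : ∀ w : H, z * w = w * z) :
    (∀ g : H, ψ.1 (z * g) = ψ.1 g) ∨ (∀ g : H, ψ.1 (z * g) = - ψ.1 g) := by
  obtain ⟨c, hc⟩ := d1_central_scalar ψ z hz
  have ha : ψ.1 z = c * ψ.1 1 := by have h := hc 1; rwa [mul_one] at h
  have hb : ψ.1 1 = c * ψ.1 z := by have h := hc z; rwa [hz2] at h
  have h0 : ψ.1 1 ≠ 0 := Cfsg.Agent.Helper24.irr_one_ne_zero ψ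
  have hcc : c * c = 1 := by
    rw [ha, ← mul_assoc] at hb
    have h1 : (c * c - 1) * ψ.1 1 = 0 := by rw [sub_mul, one_mul, ← hb, sub_self]
    rcases mul_eq_zero.mp h1 with h | h
    · exact sub_eq_zero.mp h
    · exact absurd h h0
  rcases mul_self_eq_one_iff.mp hcc with h | h
  · left; intro g; rw [hc g, h, one_mul]
  · right; intro g; rw [hc g, h, neg_one_mul]

end Central

open Classical in
/-- a class function vanishing outside the `2`-sections of `1` and of the involution `x`,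
summed over `G`. -/
theorem d1_section_sum {G : Type u} [Group G] [Fintype G] (x : G) (hx : orderOf x = 2)
    (Φ : G → ℂ) (hΦ : ∀ g t : G, Φ (t * g * t⁻¹) = Φ g)
    (hvan : ∀ g u : G, IsPPart 2 g u → u ≠ 1 → ¬ IsConj u x → Φ g = 0) :
    ∑ g : G, Φ g = ∑ g ∈ Finset.univ.filter (fun g : G => ¬ 2 ∣ orderOf g), Φ g
      + (Nat.card G : ℂ) * (Nat.card (Subgroup.centralizer ({x} : Set G)) : ℂ)⁻¹ *
        ∑ c : G, (if (c * x = x * c ∧ ¬ 2 ∣ orderOf c) then Φ (x * c) else 0) := by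
  obtain ⟨rep, hrep⟩ : ∃ rep : G → G,
      rep = fun g => if IsConj g x then x else (ConjClasses.mk g).out := ⟨_, rfl⟩
  have hrepc : ∀ g, IsConj g (rep g) := by
    intro g
    rw [hrep]
    by_cases h : IsConj g x
    · simp only [if_pos h]; exact h
    · simp only [if_neg h]
      exact (ConjClasses.mk_eq_mk_iff_isConj.mp (Quotient.out_eq (ConjClasses.mk g))).symm
  have hrepeq : ∀ g h, IsConj g h → rep g = rep h := by
    intro g h hgh
    rw [hrep]
    by_cases h1 : IsConj g x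
    · have h2 : IsConj h x := hgh.symm.trans h1
      simp only [if_pos h1, if_pos h2]
    · have h2 : ¬ IsConj h x := fun h2 => h1 (hgh.trans h2)
      simp only [if_neg h1, if_neg h2]
      rw [ConjClasses.mk_eq_mk_iff_isConj.mpr hgh]
  obtain ⟨X, hXdef⟩ : ∃ X : Finset G, X =
      (Finset.univ.filter (fun g : G => ∃ k : ℕ, orderOf g = 2 ^ k)).image rep := ⟨_, rfl⟩
  have hord : ∀ g h : G, IsConj g h → orderOf g = orderOf h := by
    intro g h hgh
    obtain ⟨c, hc⟩ := isConj_iff.mp hgh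
    rw [← hc, orderOf_conj_h5]
  have hX : ∀ x' ∈ X, ∃ k : ℕ, orderOf x' = 2 ^ k := by
    intro x' hx'
    rw [hXdef, Finset.mem_image] at hx'
    obtain ⟨g, hg, rfl⟩ := hx'
    obtain ⟨k, hk⟩ := (Finset.mem_filter.mp hg).2
    exact ⟨k, by rw [← hord g (rep g) (hrepc g), hk]⟩
  have hXrep : ∀ g : G, (∃ k : ℕ, orderOf g = 2 ^ k) → ∃! x', x' ∈ X ∧ IsConj g x' := by
    intro g hg
    refine ⟨rep g, ⟨?_, hrepc g⟩, ?_⟩
    · rw [hXdef]
      exact Finset.mem_image.mpr ⟨g, Finset.mem_filter.mpr ⟨Finset.mem_univ _, hg⟩, rfl⟩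
    · rintro x' ⟨hx'X, hgx'⟩
      rw [hXdef, Finset.mem_image] at hx'X
      obtain ⟨h, -, rfl⟩ := hx'X
      exact hrepeq h g ((hrepc h).trans hgx'.symm)
  have hps := psection_sum Nat.prime_two X hX hXrep Φ hΦ
  rw [hps]
  have h1X : (1 : G) ∈ X := by
    have h1 : rep 1 = 1 := isConj_one_right.mp (hrepc 1)
    rw [hXdef]
    exact Finset.mem_image.mpr ⟨1, Finset.mem_filter.mpr ⟨Finset.mem_univ _,
      ⟨0, by rw [orderOf_one, pow_zero]⟩⟩, h1⟩
  have hxX : x ∈ X := by
    have h1 : rep x = x := by rw [hrep]; simp only [if_pos (IsConj.refl x)]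
    rw [hXdef]
    exact Finset.mem_image.mpr ⟨x, Finset.mem_filter.mpr ⟨Finset.mem_univ _,
      ⟨1, by rw [hx, pow_one]⟩⟩, h1⟩
  have hx1 : (1 : G) ≠ x := by
    intro h
    rw [← h, orderOf_one] at hx
    omega
  rw [Finset.sum_eq_add (1 : G) x hx1 ?_ (fun h => absurd h1X h) (fun h => absurd hxX h)]
  · congr 1
    have hc1 : Subgroup.centralizer ({(1 : G)} : Set G) = ⊤ := by
      ext c
      simp [Subgroup.mem_centralizer_singleton_iff]
    rw [hc1, Subgroup.card_top, mul_inv_cancel₀ (Nat.cast_ne_zero.mpr Nat.card_pos.ne'), one_mul,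
      Finset.sum_filter]
    refine Finset.sum_congr rfl fun c _ => ?_
    simp
  · rintro x' hx'X ⟨hx'1, hx'x⟩
    have hterm : ∀ c : G,
        (if (c * x' = x' * c ∧ ¬ 2 ∣ orderOf c) then Φ (x' * c) else 0) = 0 := by
      intro c
      by_cases hc : c * x' = x' * c ∧ ¬ 2 ∣ orderOf c
      · rw [if_pos hc]
        refine hvan (x' * c) x' ⟨c, rfl, (show Commute x' c from hc.1.symm), hX x' hx'X, hc.2⟩
          hx'1 ?_
        intro hconj
        apply hx'x
        rw [hXdef, Finset.mem_image] at hx'X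
        obtain ⟨h, -, rfl⟩ := hx'X
        have h5 : rep h = rep x := hrepeq h x ((hrepc h).trans hconj)
        rw [h5, hrep]
        simp only [if_pos (IsConj.refl x)]
      · rw [if_neg hc]
    rw [Finset.sum_congr rfl (fun c _ => hterm c), Finset.sum_const_zero, mul_zero]

end Cfsg.Agent.Helper24
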