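import Mathlib
import Cfsg.Agent.Helper24.D1a
import Cfsg.Agent.Helper5.BlkNorm
import Cfsg.Agent.Helper5.BlkDefect
import Cfsg.Agent.Helper5.BlkTwist
import Cfsg.Agent.Helper5.BlkSMT2
import Cfsg.Agent.Helper5.BlkOrth2
import Cfsg.Agent.Helper22.BlkCover

/-!
helper24: a `2`-block whose defect groups are a central subgroup `⟨z⟩` of order two, containing
a character with `z` in its kernel: all its characters agree on `2`-regular elements.
-/

set_option autoImplicit false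

namespace Cfsg.Agent.Helper24

open Cfsg Cfsg.Agent.Helper22 Cfsg.Agent.Helper5

universe u

theorem d1_local {H : Type u} [Group H] [Fintype H] {M : Ideal AlgInt} (hM : IsPModular 2 M)
    [hMp : M.IsPrime] (z : H) (hz : orderOf z = 2) (hzc : ∀ h : H, z * h = h * z)
    (ξ₀ : IrrCharacter H)
    (hdef : ∀ D : Subgroup H, IsDefectGroup 2 M (blockOf M (ξ₀ : H → ℂ)) D →
      D = Subgroup.zpowers z)
    (hdefex : ∃ D : Subgroup H, IsDefectGroup 2 M (blockOf M (ξ₀ : H → ℂ)) D)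
    (θ : IrrCharacter H) (hθ : θ ∈ blockOf M (ξ₀ : H → ℂ)) (hθz : θ.1 z = θ.1 1) :
    (∀ ψ ∈ blockOf M (ξ₀ : H → ℂ), ∀ y : H, ¬ 2 ∣ orderOf y → ψ.1 y = θ.1 y) ∧
    ∑ y ∈ Finset.univ.filter (fun y : H => ¬ 2 ∣ orderOf y), θ.1 y * starRingEnd ℂ (θ.1 y)
      = (Nat.card H : ℂ) / 2 := by
  classical
  haveI : Fact (Nat.Prime 2) := ⟨Nat.prime_two⟩
  have hz2 : z * z = 1 := by rw [← sq, ← hz]; exact pow_orderOf_eq_one z
  have hH0 : (Nat.card H : ℂ) ≠ 0 := Nat.cast_ne_zero.mpr Nat.card_pos.ne'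
  -- vanishing
  have hvan : ∀ ψ ∈ blockOf M (ξ₀ : H → ℂ), ∀ h : H, 2 ∣ orderOf h → 2 ∣ orderOf (z * h) →
      ψ.1 h = 0 := by
    intro ψ hψ h h2 h2'
    obtain ⟨u, hu⟩ := exists_isPPart Nat.prime_two h
    have hbe : blockOf M (ψ : H → ℂ) = blockOf M (ξ₀ : H → ℂ) :=
      blockOf_eq_of_sameBlock (sameBlock_symm hψ)
    refine vanish_of_ppart hM ψ h u hu (fun D hD => ?_)
    rw [hbe] at hD
    rw [hdef D hD]
    exact d1_ppart_notMem z hz h u h2 h2' hu
  have hsign : ∀ ψ : IrrCharacter H,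
      (∀ g : H, ψ.1 (z * g) = ψ.1 g) ∨ (∀ g : H, ψ.1 (z * g) = - ψ.1 g) :=
    fun ψ => d1_central_sign ψ z hz2 hzc
  have hsplit : ∀ ψ ∈ blockOf M (ξ₀ : H → ℂ), ∀ ψ' : IrrCharacter H,
      ∑ h : H, ψ.1 h * starRingEnd ℂ (ψ'.1 h)
        = ∑ y ∈ Finset.univ.filter (fun y : H => ¬ 2 ∣ orderOf y),
          (ψ.1 y * starRingEnd ℂ (ψ'.1 y) + ψ.1 (z * y) * starRingEnd ℂ (ψ'.1 (z * y))) := by
    intro ψ hψ ψ'
    exact d1_sum_split z hz hzc (fun h => ψ.1 h * starRingEnd ℂ (ψ'.1 h)) (fun h h2 h2' => by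
      show ψ.1 h * _ = 0
      rw [hvan ψ hψ h h2 h2', zero_mul])
  have hsum_irr : ∀ ψ ψ' : IrrCharacter H, ∑ h : H, ψ.1 h * starRingEnd ℂ (ψ'.1 h)
      = if ψ = ψ' then (Nat.card H : ℂ) else 0 := by
    intro ψ ψ'
    have h := irr_orthonormal ψ ψ'
    rw [classInner_def'] at h
    have h1 : ∑ h : H, ψ.1 h * starRingEnd ℂ (ψ'.1 h)
        = (Nat.card H : ℂ) * ((Nat.card H : ℂ)⁻¹ * ∑ h : H, ψ.1 h * starRingEnd ℂ (ψ'.1 h)) := by
      rw [← mul_assoc, mul_inv_cancel₀ hH0, one_mul]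
    rw [h1, h]
    by_cases e : ψ = ψ'
    · rw [if_pos e, if_pos e, mul_one]
    · rw [if_neg e, if_neg e, mul_zero]
  have hnorm : ∀ ψ ∈ blockOf M (ξ₀ : H → ℂ),
      ∑ y ∈ Finset.univ.filter (fun y : H => ¬ 2 ∣ orderOf y), ψ.1 y * starRingEnd ℂ (ψ.1 y)
        = (Nat.card H : ℂ) / 2 := by
    intro ψ hψ
    have h1 := hsplit ψ hψ ψ
    rw [hsum_irr ψ ψ, if_pos rfl] at h1
    have h2 : ∀ y : H, ψ.1 (z * y) * starRingEnd ℂ (ψ.1 (z * y))
        = ψ.1 y * starRingEnd ℂ (ψ.1 y) := by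
      intro y
      rcases hsign ψ with hs | hs
      · rw [hs y]
      · rw [hs y, map_neg, neg_mul_neg]
    have h3 : (Nat.card H : ℂ) = 2 * ∑ y ∈ Finset.univ.filter (fun y : H => ¬ 2 ∣ orderOf y),
        ψ.1 y * starRingEnd ℂ (ψ.1 y) := by
      rw [h1, Finset.mul_sum]
      refine Finset.sum_congr rfl fun y _ => ?_
      rw [h2 y, two_mul]
    rw [h3]
    ring
  have hsθ : ∀ g : H, θ.1 (z * g) = θ.1 g := by
    rcases hsign θ with hs | hs
    · exact hs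
    · exfalso
      have h1 := hs 1
      rw [mul_one, hθz] at h1
      have h0 : θ.1 1 ≠ 0 := Cfsg.Agent.Helper24.irr_one_ne_zero θ
      have h2 : (2 : ℂ) * θ.1 1 = 0 := by linear_combination h1
      rcases mul_eq_zero.mp h2 with h | h
      · norm_num at h
      · exact h0 h
  -- uniqueness of the character with `z` in the kernel
  have huniq : ∀ ψ ∈ blockOf M (ξ₀ : H → ℂ), (∀ g : H, ψ.1 (z * g) = ψ.1 g) → ψ = θ := by
    intro ψ hψ hs
    by_contra hne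
    obtain ⟨d, hd0, hd⟩ := Cfsg.Agent.Helper5.irr_one_eq_natCast_pos θ
    obtain ⟨D, hD⟩ := hdefex
    have hcardD := card_defect_group hM ξ₀ D hD
    rw [hdef D hD, Nat.card_zpowers, hz] at hcardD
    have hdefect : blockDefect 2 (blockOf M (ξ₀ : H → ℂ)) = 1 := by
      have h1 : (2 : ℕ) ^ 1 = 2 ^ blockDefect 2 (blockOf M (ξ₀ : H → ℂ)) := by
        rw [pow_one]; exact hcardD
      exact (Nat.pow_right_injective (le_refl 2) h1).symm
    have hval : (Nat.card H).factorization 2 ≤ d.factorization 2 + 1 := by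
      have h1 : sInf ((fun χ : IrrCharacter H => (charDegree (χ : H → ℂ)).factorization 2) ''
          blockOf M (ξ₀ : H → ℂ)) ≤ (charDegree (θ : H → ℂ)).factorization 2 :=
        Nat.sInf_le ⟨θ, hθ, rfl⟩
      rw [charDegree_of_eq hd] at h1
      have hdefect' : (Nat.card H).factorization 2 -
          sInf ((fun χ : IrrCharacter H => (charDegree (χ : H → ℂ)).factorization 2) ''
          blockOf M (ξ₀ : H → ℂ)) = 1 := hdefect
      omega
    have hκ : MemLocalRing M (((2 * d : ℕ) : ℂ) / (Nat.card H : ℂ)) := by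
      obtain ⟨a, ha⟩ : ∃ a, a = (Nat.card H).factorization 2 := ⟨_, rfl⟩
      obtain ⟨m, hm⟩ : ∃ m, m = Nat.card H / 2 ^ a := ⟨_, rfl⟩
      have hHam : 2 ^ a * m = Nat.card H := by
        rw [hm, ha]; exact Nat.ordProj_mul_ordCompl_eq_self _ 2
      have hmodd : ¬ 2 ∣ m := by
        rw [hm, ha]; exact Nat.not_dvd_ordCompl Nat.prime_two Nat.card_pos.ne'
      have hdvd : 2 ^ a ∣ 2 * d := by
        have h1 : 2 ^ (d.factorization 2) ∣ d := Nat.ordProj_dvd d 2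
        have h2 : 2 ^ a ∣ 2 ^ (d.factorization 2 + 1) := pow_dvd_pow 2 (by rw [ha]; exact hval)
        rw [pow_succ] at h2
        exact h2.trans (by rw [mul_comm]; exact Nat.mul_dvd_mul_left 2 h1)
      obtain ⟨d', hd'⟩ := hdvd
      have hm0 : (m : ℂ) ≠ 0 := by
        intro h0
        rw [Nat.cast_eq_zero] at h0
        exact hmodd (h0 ▸ dvd_zero 2)
      have e : ((2 * d : ℕ) : ℂ) / (Nat.card H : ℂ) = (d' : ℂ) * (m : ℂ)⁻¹ := by
        rw [hd', ← hHam]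
        push_cast
        have h2a : ((2 : ℂ) ^ a) ≠ 0 := pow_ne_zero a (by norm_num)
        field_simp
      rw [e]
      exact (locRing M).mul_mem (natCast_memLocalRing d') (natCast_inv_memLocalRing hM hmodd)
    obtain ⟨F, hF⟩ : ∃ F : H → ℂ, F = fun h => if ¬ 2 ∣ orderOf h then
        ((2 * d : ℕ) : ℂ) / (Nat.card H : ℂ) * starRingEnd ℂ (θ.1 h) else 0 := ⟨_, rfl⟩
    have hFapp : ∀ h : H, F h = if ¬ 2 ∣ orderOf h then
        ((2 * d : ℕ) : ℂ) / (Nat.card H : ℂ) * starRingEnd ℂ (θ.1 h) else 0 := fun h => by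
      rw [hF]
    have hFcf : IsClassFunction H F := by
      intro g t
      rw [hFapp, hFapp, orderOf_conj_h5, irr_conj]
    have hFS : ∀ h : H, MemLocalRing M (F h) := by
      intro h
      rw [hFapp]
      by_cases h2 : 2 ∣ orderOf h
      · rw [if_neg (not_not.mpr h2)]
        exact (locRing M).zero_mem
      · rw [if_pos h2]
        refine (locRing M).mul_mem hκ ?_
        rw [← irr_inv]
        exact integral_mem_locRing (irr_isIntegral θ h⁻¹)
    have hFsum : ∀ φ : IrrCharacter H, ∑ h : H, F h * φ.1 h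
        = ((2 * d : ℕ) : ℂ) / (Nat.card H : ℂ) *
          ∑ y ∈ Finset.univ.filter (fun y : H => ¬ 2 ∣ orderOf y),
            φ.1 y * starRingEnd ℂ (θ.1 y) := by
      intro φ
      rw [Finset.mul_sum, Finset.sum_filter]
      refine Finset.sum_congr rfl fun h _ => ?_
      rw [hFapp]
      by_cases h2 : 2 ∣ orderOf h
      · rw [if_neg (not_not.mpr h2), if_neg (not_not.mpr h2), zero_mul]
      · rw [if_pos h2, if_pos h2]
        ring
    have key := classFun_congr hFcf hFS (sameBlock_trans (sameBlock_symm hψ) hθ)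
    rw [hFsum ψ, hFsum θ, hnorm θ hθ] at key
    have h0 : ∑ y ∈ Finset.univ.filter (fun y : H => ¬ 2 ∣ orderOf y),
        ψ.1 y * starRingEnd ℂ (θ.1 y) = 0 := by
      have h1 := hsplit ψ hψ θ
      rw [hsum_irr ψ θ, if_neg hne] at h1
      have h3 : (0 : ℂ) = 2 * ∑ y ∈ Finset.univ.filter (fun y : H => ¬ 2 ∣ orderOf y),
          ψ.1 y * starRingEnd ℂ (θ.1 y) := by
        rw [h1, Finset.mul_sum]
        refine Finset.sum_congr rfl fun y _ => ?_
        rw [hs y, hsθ y, two_mul]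
      rcases mul_eq_zero.mp h3.symm with h | h
      · norm_num at h
      · exact h
    rw [h0, mul_zero, mul_zero, zero_sub, hd] at key
    have hd0' : (d : ℂ) ≠ 0 := Nat.cast_ne_zero.mpr hd0.ne'
    have e2 : -((d : ℂ)⁻¹ * (((2 * d : ℕ) : ℂ) / (Nat.card H : ℂ) * ((Nat.card H : ℂ) / 2)))
        = -1 := by
      push_cast
      field_simp
    rw [e2] at key
    have key2 := memLocalIdeal_neg key
    rw [neg_neg] at key2
    exact not_memLocalIdeal_one key2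
  -- weak block orthogonality and the remaining character
  obtain ⟨Bf, hBf⟩ : ∃ Bf : Finset (IrrCharacter H), Bf = Finset.univ.filter
      (fun ψ : IrrCharacter H => SameBlock M (ξ₀ : H → ℂ) (ψ : H → ℂ)) := ⟨_, rfl⟩
  have hmemBf : ∀ ψ : IrrCharacter H, ψ ∈ Bf ↔ ψ ∈ blockOf M (ξ₀ : H → ℂ) := by
    intro ψ
    rw [hBf, Finset.mem_filter]
    exact ⟨fun h => h.2, fun h => ⟨Finset.mem_univ _, h⟩⟩
  have hθB : θ ∈ Bf := (hmemBf θ).mpr hθ
  have hstar : ∀ y y' : H, ¬ 2 ∣ orderOf y → ¬ 2 ∣ orderOf y' →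
      ∑ ψ ∈ Bf.erase θ, ψ.1 y * starRingEnd ℂ (ψ.1 y') = θ.1 y * starRingEnd ℂ (θ.1 y') := by
    intro y y' hy hy'
    have hw := weak_block_orth_sum hM ξ₀ y (z * y') hy (d1_odd_mul z hz hzc y' hy')
    rw [← hBf, ← Finset.add_sum_erase Bf _ hθB, hsθ y'] at hw
    have h1 : ∑ ψ ∈ Bf.erase θ, ψ.1 y * starRingEnd ℂ (ψ.1 (z * y'))
        = - ∑ ψ ∈ Bf.erase θ, ψ.1 y * starRingEnd ℂ (ψ.1 y') := by
      rw [← Finset.sum_neg_distrib]
      refine Finset.sum_congr rfl fun ψ hψ => ?_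
      have hψb : ψ ∈ blockOf M (ξ₀ : H → ℂ) := (hmemBf ψ).mp (Finset.mem_of_mem_erase hψ)
      have hψne : ψ ≠ θ := Finset.ne_of_mem_erase hψ
      rcases hsign ψ with hs | hs
      · exact absurd (huniq ψ hψb hs) hψne
      · rw [hs y', map_neg, mul_neg]
    rw [h1] at hw
    linear_combination -hw
  have hcard : (Bf.erase θ).card = 1 := by
    have h1 : ∑ y ∈ Finset.univ.filter (fun y : H => ¬ 2 ∣ orderOf y),
        ∑ ψ ∈ Bf.erase θ, ψ.1 y * starRingEnd ℂ (ψ.1 y) = (Nat.card H : ℂ) / 2 := by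
      rw [← hnorm θ hθ]
      refine Finset.sum_congr rfl fun y hy => ?_
      exact hstar y y (Finset.mem_filter.mp hy).2 (Finset.mem_filter.mp hy).2
    rw [Finset.sum_comm] at h1
    have h2 : ∑ ψ ∈ Bf.erase θ, ∑ y ∈ Finset.univ.filter (fun y : H => ¬ 2 ∣ orderOf y),
        ψ.1 y * starRingEnd ℂ (ψ.1 y) = ((Bf.erase θ).card : ℂ) * ((Nat.card H : ℂ) / 2) := by
      rw [Finset.sum_congr rfl (fun ψ hψ =>
        hnorm ψ ((hmemBf ψ).mp (Finset.mem_of_mem_erase hψ))), Finset.sum_const, nsmul_eq_mul]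
    rw [h2] at h1
    have h3 : ((Bf.erase θ).card : ℂ) = 1 := by
      have h4 : (Nat.card H : ℂ) / 2 ≠ 0 := div_ne_zero hH0 (by norm_num)
      have h5 : (((Bf.erase θ).card : ℂ) - 1) * ((Nat.card H : ℂ) / 2) = 0 := by
        rw [sub_mul, h1, one_mul, sub_self]
      rcases mul_eq_zero.mp h5 with h | h
      · exact sub_eq_zero.mp h
      · exact absurd h h4
    exact_mod_cast h3
  obtain ⟨ψ₀, hψ₀⟩ := Finset.card_eq_one.mp hcard
  have hstar' : ∀ y y' : H, ¬ 2 ∣ orderOf y → ¬ 2 ∣ orderOf y' →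
      ψ₀.1 y * starRingEnd ℂ (ψ₀.1 y') = θ.1 y * starRingEnd ℂ (θ.1 y') := by
    intro y y' hy hy'
    have h := hstar y y' hy hy'
    rwa [hψ₀, Finset.sum_singleton] at h
  have h1reg : ¬ 2 ∣ orderOf (1 : H) := by rw [orderOf_one]; decide
  obtain ⟨d, hd0, hd⟩ := Cfsg.Agent.Helper5.irr_one_eq_natCast_pos θ
  obtain ⟨d₀, hd₀0, hd₀⟩ := Cfsg.Agent.Helper5.irr_one_eq_natCast_pos ψ₀
  have hdd : d₀ = d := by
    have h := hstar' 1 1 h1reg h1reg
    rw [hd, hd₀, Complex.conj_natCast, Complex.conj_natCast] at h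
    have h2 : d₀ * d₀ = d * d := by exact_mod_cast h
    exact Nat.mul_self_inj.mp h2
  have hψ₀θ : ∀ y : H, ¬ 2 ∣ orderOf y → ψ₀.1 y = θ.1 y := by
    intro y hy
    have h := hstar' y 1 hy h1reg
    rw [hd, hd₀, Complex.conj_natCast, Complex.conj_natCast, hdd] at h
    exact mul_right_cancel₀ (Nat.cast_ne_zero.mpr hd0.ne') h
  refine ⟨fun ψ hψ y hy => ?_, hnorm θ hθ⟩
  by_cases e : ψ = θ
  · rw [e]
  · have h1 : ψ ∈ Bf.erase θ := Finset.mem_erase.mpr ⟨e, (hmemBf ψ).mpr hψ⟩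
    rw [hψ₀, Finset.mem_singleton] at h1
    rw [h1]
    exact hψ₀θ y hy

end Cfsg.Agent.Helper24
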