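import Mathlib
import Cfsg.Agent.Helper24.D1b
import Cfsg.Agent.Helper5.BlkSec
import Cfsg.Agent.Helper5.BlkBO
import Cfsg.Agent.Helper24.CharComplete
import Cfsg.Agent.Helper24.CharInd
import Cfsg.Agent.Helper24.CharDecomp
import Cfsg.Agent.S0917
import Cfsg.Agent.S0908
import Cfsg.Agent.S0912
import Cfsg.Agent.S0906
import Cfsg.Agent.S0920
import Cfsg.Agent.S0923
import Cfsg.Agent.S0927

/-!
helper24: `2`-blocks with a defect group of order two (global part, preparation).
-/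

set_option autoImplicit false

namespace Cfsg.Agent.Helper24

open Cfsg Cfsg.Agent.Helper22 Cfsg.Agent.Helper5

universe u

theorem d1_zpowers_two {G : Type u} [Group G] (x : G) (hx : orderOf x = 2) (w : G)
    (hw : w ∈ Subgroup.zpowers x) : w = 1 ∨ w = x := by
  obtain ⟨n, hn⟩ := Subgroup.mem_zpowers_iff.mp hw
  have h3 := zpow_mod_orderOf x n
  rw [hx] at h3
  have hn2 : x ^ (n % 2) = w := by rw [← hn]; exact_mod_cast h3
  rcases Int.emod_two_eq_zero_or_one n with h0 | h0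
  · left; rw [← hn2, h0, zpow_zero]
  · right; rw [← hn2, h0, zpow_one]

theorem d1_cent_eq_norm {G : Type u} [Group G] (x : G) (hx : orderOf x = 2) :
    Subgroup.centralizer ({x} : Set G) =
      Subgroup.normalizer ((Subgroup.zpowers x : Subgroup G) : Set G) := by
  ext c
  rw [Subgroup.mem_centralizer_singleton_iff, Subgroup.mem_normalizer_iff]
  constructor
  · intro hc h
    have hcomm : Commute c x := hc
    constructor
    · intro hh
      obtain ⟨n, rfl⟩ := Subgroup.mem_zpowers_iff.mp hh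
      rw [(hcomm.zpow_right n).eq, mul_inv_cancel_right]
      exact hh
    · intro hh
      obtain ⟨n, hn⟩ := Subgroup.mem_zpowers_iff.mp hh
      have h1 : h = x ^ n := by
        have h2 : c * h * c⁻¹ = c * x ^ n * c⁻¹ := by
          rw [← hn, (hcomm.zpow_right n).eq, mul_inv_cancel_right]
        exact mul_left_cancel (mul_right_cancel h2)
      rw [h1]
      exact Subgroup.zpow_mem_zpowers x n
  · intro hc
    have h1 := (hc x).mp (Subgroup.mem_zpowers x)
    rcases d1_zpowers_two x hx _ h1 with h2 | h2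
    · exfalso
      have h3 : x = 1 := by
        have h4 := congrArg (fun w => c⁻¹ * w * c) h2
        simpa [mul_assoc] using h4
      rw [h3, orderOf_one] at hx
      omega
    · exact mul_inv_eq_iff_eq_mul.mp h2

theorem d1_unique {G : Type u} [Group G] [Finite G] (p : ℕ) [Fact p.Prime] (M : Ideal AlgInt)
    (hM : IsPModular p M) (D : Subgroup G) (hD : IsPGroup p D) (B : Set (IrrCharacter G))
    (hB : IsPBlock M B) (hBD : IsDefectGroup p M B D) :
    ∀ (H : Subgroup G), H = Subgroup.normalizer (D : Set G) → ∀ b₁ b₂ : Set (IrrCharacter H),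
      IsPBlock M b₁ → IsDefectGroup p M b₁ (D.subgroupOf H) → IsInducedBlock M H b₁ B →
      IsPBlock M b₂ → IsDefectGroup p M b₂ (D.subgroupOf H) → IsInducedBlock M H b₂ B →
      b₁ = b₂ := by
  rintro H rfl b₁ b₂ h1 h2 h3 h4 h5 h6
  exact ((Cfsg.Agent.S0920.result p M hM D hD).2 B hB hBD).unique ⟨h1, h2, h3⟩ ⟨h4, h5, h6⟩

theorem d1_smt {G : Type u} [Group G] [Finite G] (M : Ideal AlgInt) (hM : IsPModular 2 M)
    (x : G) (hx : orderOf x = 2) (B : Set (IrrCharacter G)) (hB : IsPBlock M B)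
    (χ : IrrCharacter G) (hχ : χ ∈ B) :
    ∀ (C : Subgroup G), C = Subgroup.centralizer ({x} : Set G) →
      ∀ (b : Set (IrrCharacter C)), IsPBlock M b → ¬ IsInducedBlock M C b B →
      ∀ y : C, ¬ 2 ∣ orderOf y → blockPart b (fun c : C => χ.1 (x * (c : G))) y = 0 := by
  haveI : Fact (Nat.Prime 2) := ⟨Nat.prime_two⟩
  rintro C rfl b hb hnot y hy
  exact Cfsg.Agent.S0923.result 2 M hM x ⟨1, by rw [hx, pow_one]⟩ B hB χ hχ b hb hnot y hy

theorem d1_defect_eq {G : Type u} [Group G] [Finite G] (M : Ideal AlgInt) (hM : IsPModular 2 M)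
    (x : G) (hx : orderOf x = 2) (B : Set (IrrCharacter G)) (hB : IsPBlock M B)
    (hBD : IsDefectGroup 2 M B (Subgroup.zpowers x)) (C : Subgroup G)
    (hCx : ∀ c ∈ C, c * x = x * c) (hxC : x ∈ C)
    (b : Set (IrrCharacter C)) (hb : IsInducedBlock M C b B)
    (D' : Subgroup C) (hD' : IsDefectGroup 2 M b D') :
    D' = (Subgroup.zpowers x).subgroupOf C := by
  haveI : Fact (Nat.Prime 2) := ⟨Nat.prime_two⟩
  obtain ⟨E, hE, hDE⟩ := Cfsg.Agent.S0917.result 2 M hM C b hb.1 B hB hb D' hD'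
  have hcE : Nat.card E = 2 := by
    rw [Cfsg.Agent.S0908.result 2 M hM B hB E hE, ← Cfsg.Agent.S0908.result 2 M hM B hB _ hBD,
      Nat.card_zpowers, hx]
  have hcD' : Nat.card D' ≤ 2 := by
    have h1 : Nat.card (D'.map C.subtype) ≤ Nat.card E := Subgroup.card_le_of_le hDE
    rw [hcE, Subgroup.card_map_of_injective (Subgroup.subtype_injective C)] at h1
    exact h1
  have hzle : Subgroup.zpowers x ≤ C := by
    rw [Subgroup.zpowers_le]; exact hxC
  have hcZ : Nat.card ((Subgroup.zpowers x).subgroupOf C) = 2 := by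
    rw [Nat.card_congr (Subgroup.subgroupOfEquivOfLe hzle).toEquiv, Nat.card_zpowers, hx]
  have hle : (Subgroup.zpowers x).subgroupOf C ≤ D' := by
    refine le_trans ?_ (Cfsg.Agent.S0912.result 2 M hM b hb.1 D' hD')
    apply le_sSup
    refine ⟨⟨fun n hn g => ?_⟩, IsPGroup.of_card (n := 1) (by rw [hcZ, pow_one])⟩
    rw [Subgroup.mem_subgroupOf] at hn ⊢
    obtain ⟨k, hk⟩ := Subgroup.mem_zpowers_iff.mp hn
    have hcomm : Commute (g : G) x := hCx g g.2
    show (g : G) * (n : G) * (g : G)⁻¹ ∈ Subgroup.zpowers x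
    rw [← hk, (hcomm.zpow_right k).eq, mul_inv_cancel_right]
    exact Subgroup.zpow_mem_zpowers x k
  exact (Subgroup.eq_of_le_of_card_ge hle (by rw [hcZ]; exact hcD')).symm

open Classical in
theorem d1_gnorm {G : Type u} [Group G] [Fintype G] (x : G) (hx : orderOf x = 2)
    (C : Subgroup G) [Fintype C] (hC : C = Subgroup.centralizer ({x} : Set G)) (θ : C → ℂ)
    (N : ℂ)
    (hN : ∑ y ∈ Finset.univ.filter (fun y : C => ¬ 2 ∣ orderOf y),
      θ y * starRingEnd ℂ (θ y) = N)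
    (ξ : G → ℂ) (hξ : ∀ g t : G, ξ (t * g * t⁻¹) = ξ g)
    (hvan : ∀ g u : G, IsPPart 2 g u → u ≠ 1 → ¬ IsConj u x → ξ g = 0) (D : ℂ)
    (hD : ∀ y : C, ¬ 2 ∣ orderOf y → ξ (x * (y : G)) = D * θ y) :
    ∑ g : G, ξ g * starRingEnd ℂ (ξ g)
      = ∑ g ∈ Finset.univ.filter (fun g : G => ¬ 2 ∣ orderOf g), ξ g * starRingEnd ℂ (ξ g)
        + (Nat.card G : ℂ) * (Nat.card C : ℂ)⁻¹ * (D * starRingEnd ℂ D * N) := by
  have h := d1_section_sum x hx (fun g => ξ g * starRingEnd ℂ (ξ g))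
    (fun g t => by
      show ξ (t * g * t⁻¹) * starRingEnd ℂ (ξ (t * g * t⁻¹)) = ξ g * starRingEnd ℂ (ξ g)
      rw [hξ])
    (fun g u hu hu1 hux => by
      show ξ g * starRingEnd ℂ (ξ g) = 0
      rw [hvan g u hu hu1 hux, zero_mul])
  have e1 : ∑ c : G, (if (c * x = x * c ∧ ¬ 2 ∣ orderOf c) then
        ξ (x * c) * starRingEnd ℂ (ξ (x * c)) else 0)
      = ∑ c ∈ Finset.univ.filter (fun c : G => c ∈ C), (if ¬ 2 ∣ orderOf c then
        ξ (x * c) * starRingEnd ℂ (ξ (x * c)) else 0) := by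
    rw [Finset.sum_filter]
    refine Finset.sum_congr rfl fun c _ => ?_
    have hmem : c ∈ C ↔ c * x = x * c := by
      rw [hC]; exact Subgroup.mem_centralizer_singleton_iff
    by_cases hc : c ∈ C
    · rw [if_pos hc]
      by_cases h2 : 2 ∣ orderOf c
      · rw [if_neg (fun h => h.2 h2), if_neg (not_not.mpr h2)]
      · rw [if_pos ⟨hmem.mp hc, h2⟩, if_pos h2]
    · rw [if_neg hc, if_neg (fun h => hc (hmem.mpr h.1))]
  have e2 : ∑ c ∈ Finset.univ.filter (fun c : G => c ∈ C), (if ¬ 2 ∣ orderOf c then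
        ξ (x * c) * starRingEnd ℂ (ξ (x * c)) else 0)
      = ∑ y : C, (if ¬ 2 ∣ orderOf (y : G) then
        ξ (x * (y : G)) * starRingEnd ℂ (ξ (x * (y : G))) else 0) :=
    Finset.sum_subtype _ (fun c => by simp) _
  have e3 : ∑ y : C, (if ¬ 2 ∣ orderOf (y : G) then
        ξ (x * (y : G)) * starRingEnd ℂ (ξ (x * (y : G))) else 0)
      = D * starRingEnd ℂ D * N := by
    rw [← hN, Finset.mul_sum, Finset.sum_filter]
    refine Finset.sum_congr rfl fun y _ => ?_
    rw [Subgroup.orderOf_coe]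
    by_cases h2 : 2 ∣ orderOf y
    · rw [if_neg (not_not.mpr h2), if_neg (not_not.mpr h2)]
    · rw [if_pos h2, if_pos h2, hD y h2, map_mul]
      ring
  rw [h, e1, e2, e3, ← hC]

end Cfsg.Agent.Helper24
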