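import Mathlib
import Cfsg.Agent.Helper24.D1c
import Cfsg.Agent.S0919
import Cfsg.Agent.S0936
import Cfsg.Agent.S0927
import Cfsg.Agent.S0906
import Cfsg.Agent.S0908
import Cfsg.Agent.S0917

/-!
helper24: major subsections and Brauer's deficiency classes.
-/

set_option autoImplicit false
set_option maxHeartbeats 1600000

namespace Cfsg.Agent.Helper24

open Cfsg Cfsg.Agent.Helper22 Cfsg.Agent.Helper5

universe u

theorem dc_uniq {G : Type u} [Group G] [Finite G] (M : Ideal AlgInt) [hMp : M.IsPrime]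
    (H : Subgroup G) (b : Set (IrrCharacter H)) (B₁ B₂ : Set (IrrCharacter G))
    (h1 : IsInducedBlock M H b B₁) (h2 : IsInducedBlock M H b B₂) : B₁ = B₂ := by
  classical
  haveI := Fintype.ofFinite G
  haveI : Fintype H := Fintype.ofFinite H
  obtain ⟨ξ₀, hξ₀⟩ := h1.1
  have hξmem : ξ₀ ∈ b := by rw [hξ₀]; exact sameBlock_refl _
  obtain ⟨χ₁, hχ₁⟩ := h1.2.1
  obtain ⟨χ₂, hχ₂⟩ := h2.2.1
  have hm1 : χ₁ ∈ B₁ := by rw [hχ₁]; exact sameBlock_refl _
  have hm2 : χ₂ ∈ B₂ := by rw [hχ₂]; exact sameBlock_refl _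
  have hsb : SameBlock M (χ₁ : G → ℂ) (χ₂ : G → ℂ) := by
    intro g
    have e1 := h1.2.2 ξ₀ hξmem χ₁ hm1 g
    have e2 := h2.2.2 ξ₀ hξmem χ₂ hm2 g
    have e3 := memLocalIdeal_sub e2 e1
    have e4 : inducedCentralChar H (ξ₀ : H → ℂ) g - centralChar (χ₂ : G → ℂ) g -
        (inducedCentralChar H (ξ₀ : H → ℂ) g - centralChar (χ₁ : G → ℂ) g)
        = centralChar (χ₁ : G → ℂ) g - centralChar (χ₂ : G → ℂ) g := by ring
    rw [e4] at e3
    exact e3
  rw [hχ₁, hχ₂]
  exact blockOf_eq_of_sameBlock hsb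

theorem dc_smt {G : Type u} [Group G] [Finite G] (p : ℕ) [Fact p.Prime] (M : Ideal AlgInt)
    (hM : IsPModular p M) (x : G) (hx : ∃ k : ℕ, orderOf x = p ^ k)
    (B : Set (IrrCharacter G)) (hB : IsPBlock M B) (χ : IrrCharacter G) (hχ : χ ∈ B) :
    ∀ (C : Subgroup G), C = Subgroup.centralizer ({x} : Set G) →
      ∀ (b : Set (IrrCharacter C)), IsPBlock M b → ¬ IsInducedBlock M C b B →
      ∀ y : C, ¬ p ∣ orderOf y → blockPart b (fun c : C => χ.1 (x * (c : G))) y = 0 := by
  rintro C rfl b hb hnot y hy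
  exact Cfsg.Agent.S0923.result p M hM x hx B hB χ hχ b hb hnot y hy

/-- Major subsections: for `y` central in a defect group `D` of `B` there is a block of
`C_G(y)` inducing `B` of defect at least that of `B`. -/
theorem dc_major {G : Type u} [Group G] [Finite G] (p : ℕ) [Fact p.Prime] (M : Ideal AlgInt)
    (hM : IsPModular p M) (B : Set (IrrCharacter G)) (hB : IsPBlock M B) (y₀ : G)
    (hy₀ : IsDefectClass M B y₀) (Q : Sylow p (Subgroup.centralizer ({y₀} : Set G)))
    (x : Subgroup.centralizer ({y₀} : Set G))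
    (hxQ : x ∈ (Q : Subgroup (Subgroup.centralizer ({y₀} : Set G))))
    (hxc : ∀ w ∈ (Q : Subgroup (Subgroup.centralizer ({y₀} : Set G))), x * w = w * x)
    (y : G) (hyx : y = (x : G)) (hyo : ∃ k : ℕ, orderOf y = p ^ k) :
    ∃ b : Set (IrrCharacter ↥(Subgroup.centralizer ({y} : Set G))),
      IsInducedBlock M (Subgroup.centralizer ({y} : Set G)) b B ∧
        blockDefect p B ≤ blockDefect p b := by
  suffices haux : ∀ (C : Subgroup G), C = Subgroup.centralizer ({y} : Set G) →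
      ∃ b : Set (IrrCharacter C), IsInducedBlock M C b B ∧
        blockDefect p B ≤ blockDefect p b from haux _ rfl
  intro C hC
  classical
  haveI : Fintype G := Fintype.ofFinite G
  haveI : Fintype C := Fintype.ofFinite C
  haveI hMp : M.IsPrime := hM.2.1.isPrime
  have hp := (Fact.out : p.Prime)
  obtain ⟨χ₀, rfl⟩ := hB
  have hB : IsPBlock M (blockOf M (χ₀ : G → ℂ)) := ⟨χ₀, rfl⟩
  have hC0 : (Nat.card C : ℂ) ≠ 0 := Nat.cast_ne_zero.mpr Nat.card_pos.ne'
  have hmemC : ∀ c : G, c ∈ C ↔ c * y = y * c := fun c => by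
    rw [hC]; exact Subgroup.mem_centralizer_singleton_iff
  have hyC : y ∈ C := (hmemC y).mpr rfl
  obtain ⟨z, hzdef⟩ : ∃ z : C, z = ⟨y, hyC⟩ := ⟨_, rfl⟩
  have hzy : (z : G) = y := by rw [hzdef]
  have hzc : ∀ h : C, z * h = h * z := fun h => Subtype.ext (by
    show (z : G) * (h : G) = (h : G) * (z : G)
    rw [hzy]
    exact ((hmemC h).mp h.2).symm)
  have hzic : ∀ h : C, z⁻¹ * h = h * z⁻¹ := fun h => by
    have h1 := hzc h
    calc z⁻¹ * h = z⁻¹ * (h * z) * z⁻¹ := by simp [mul_assoc]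
      _ = z⁻¹ * (z * h) * z⁻¹ := by rw [h1]
      _ = h * z⁻¹ := by simp [mul_assoc]
  have hxy₀ : y * y₀ = y₀ * y := by
    rw [hyx]; exact Subgroup.mem_centralizer_singleton_iff.mp x.2
  have hy₀C : y₀ ∈ C := (hmemC y₀).mpr hxy₀.symm
  obtain ⟨y₀', hy₀'def⟩ : ∃ y₀' : C, y₀' = ⟨y₀, hy₀C⟩ := ⟨_, rfl⟩
  have hy₀'G : (y₀' : G) = y₀ := by rw [hy₀'def]
  -- `y₀` is `p`-regular
  have hgreg : ¬ p ∣ orderOf y₀ := by
    intro h2
    have h0 := weak_block_orth hM χ₀ 1 y₀ (by rw [orderOf_one]; exact hp.not_dvd_one) h2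
    apply hy₀.2.1
    have h3 : blockCoeff (blockOf M (χ₀ : G → ℂ)) y₀ = 0 := by
      unfold blockCoeff
      rw [h0, mul_zero]
    rw [h3]
    exact memLocalIdeal_zero hMp.ne_top
  have hreg' : ¬ p ∣ orderOf y₀' := by rw [← Subgroup.orderOf_coe, hy₀'G]; exact hgreg
  -- a character of height zero
  have hne : ((fun χ : IrrCharacter G => (charDegree (χ : G → ℂ)).factorization p) ''
      blockOf M (χ₀ : G → ℂ)).Nonempty := ⟨_, χ₀, sameBlock_refl _, rfl⟩
  obtain ⟨χ, hχB, hχmin⟩ := Nat.sInf_mem hne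
  have hχmin' : (charDegree (χ : G → ℂ)).factorization p =
      sInf ((fun χ : IrrCharacter G => (charDegree (χ : G → ℂ)).factorization p) ''
        blockOf M (χ₀ : G → ℂ)) := hχmin
  have hht : blockHeight p (blockOf M (χ₀ : G → ℂ)) (χ : G → ℂ) = 0 := by
    unfold blockHeight
    rw [hχmin', Nat.sub_self]
  have hnotmem := (Cfsg.Agent.S0927.result p M hM _ hB y₀ hy₀ Q x hxQ).1 χ hχB hht
  rw [← hyx] at hnotmem
  -- the defect group
  have hD : IsDefectGroup p M (blockOf M (χ₀ : G → ℂ))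
      ((Q : Subgroup (Subgroup.centralizer ({y₀} : Set G))).map
        (Subgroup.centralizer ({y₀} : Set G)).subtype) := ⟨y₀, hy₀, Q, rfl⟩
  have hcardD := Cfsg.Agent.S0908.result p M hM _ hB _ hD
  have hDC : (Q : Subgroup (Subgroup.centralizer ({y₀} : Set G))).map
      (Subgroup.centralizer ({y₀} : Set G)).subtype ≤ C := by
    intro g hg
    obtain ⟨w, hwQ, rfl⟩ := Subgroup.mem_map.mp hg
    rw [hmemC]
    have h1 := congrArg Subtype.val (hxc w hwQ)
    have h2 : (x : G) * (w : G) = (w : G) * (x : G) := h1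
    show (w : G) * y = y * (w : G)
    rw [hyx]; exact h2.symm
  have hDcent : ((Q : Subgroup (Subgroup.centralizer ({y₀} : Set G))).map
      (Subgroup.centralizer ({y₀} : Set G)).subtype).subgroupOf C
      ≤ Subgroup.centralizer ({y₀'} : Set C) := by
    intro c hc
    rw [Subgroup.mem_subgroupOf] at hc
    obtain ⟨w, -, hw⟩ := Subgroup.mem_map.mp hc
    have hw' : (w : G) = (c : G) := hw
    rw [Subgroup.mem_centralizer_singleton_iff]
    apply Subtype.ext
    show (c : G) * (y₀' : G) = (y₀' : G) * (c : G)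
    rw [hy₀'G, ← hw']
    exact Subgroup.mem_centralizer_singleton_iff.mp w.2
  have hcardD' : Nat.card (((Q : Subgroup (Subgroup.centralizer ({y₀} : Set G))).map
      (Subgroup.centralizer ({y₀} : Set G)).subtype).subgroupOf C)
      = p ^ blockDefect p (blockOf M (χ₀ : G → ℂ)) := by
    rw [← hcardD]
    exact Nat.card_congr (Subgroup.subgroupOfEquivOfLe hDC).toEquiv
  have hpd : p ^ blockDefect p (blockOf M (χ₀ : G → ℂ)) ∣
      Nat.card (Subgroup.centralizer ({y₀'} : Set C)) := by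
    rw [← hcardD']; exact Subgroup.card_dvd_of_le hDcent
  -- the class function `φ`
  obtain ⟨φ, hφ⟩ : ∃ φ : C → ℂ, φ = fun c : C => χ.1 (y * (c : G)) := ⟨_, rfl⟩
  have hφapp : ∀ c : C, φ c = χ.1 (y * (c : G)) := fun c => by rw [hφ]
  have hφcf : IsClassFunction C φ := by
    intro g t
    rw [hφapp, hφapp]
    have ht : (t : G) * y = y * (t : G) := (hmemC t).mp t.2
    have h1 : y * ((t * g * t⁻¹ : C) : G) = (t : G) * (y * (g : G)) * (t : G)⁻¹ := by
      show y * ((t : G) * (g : G) * (t : G)⁻¹) = (t : G) * (y * (g : G)) * (t : G)⁻¹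
      rw [show y * ((t : G) * (g : G) * (t : G)⁻¹) = (y * (t : G)) * (g : G) * (t : G)⁻¹ by
        simp only [mul_assoc], ← ht]
      simp only [mul_assoc]
    rw [h1, irr_conj]
  have hsm := dc_smt p M hM y hyo _ hB χ hχB C hC
  rw [← hφ] at hsm
  have hpM : MemLocalIdeal M (p : ℂ) := by
    have h := memLocalIdeal_of_mem hMp.ne_top hM.2.2
    simpa using h
  -- terms in blocks of small defect
  have hterm : ∀ e : Set (IrrCharacter C), IsPBlock M e →
      blockDefect p e < blockDefect p (blockOf M (χ₀ : G → ℂ)) → ∀ ψ ∈ e,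
      MemLocalIdeal M (classInner φ (ψ : C → ℂ) * ψ.1 y₀') := by
    intro e he hlt ψ hψ
    -- (1) the inner product is a local integer
    obtain ⟨n, hn⟩ := isCharacter_inner_irr
      (isCharacter_restrict C (isCharacter_of_isIrrCharacter χ.2)) ψ
    have hn' : (Nat.card C : ℂ)⁻¹ * ∑ c : C, χ.1 (c : G) * starRingEnd ℂ (ψ.1 c) = n := hn
    obtain ⟨c, hcs⟩ := d1_central_scalar ψ z⁻¹ hzic
    have hψ1 : ψ.1 1 ≠ 0 := Cfsg.Agent.Helper24.irr_one_ne_zero ψ
    have hc1 : c = ψ.1 z⁻¹ / ψ.1 1 := by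
      have h1 := hcs 1
      rw [mul_one] at h1
      rw [h1, mul_div_assoc, div_self hψ1, mul_one]
    have hcentz : Subgroup.centralizer ({z} : Set C) = ⊤ :=
      Subgroup.centralizer_eq_top_iff_subset.mpr (Set.singleton_subset_iff.mpr
        (Subgroup.mem_center_iff.mpr (fun g => (hzc g).symm)))
    have hconjc : starRingEnd ℂ c = centralChar (ψ : C → ℂ) z := by
      unfold centralChar
      rw [hcentz, Subgroup.index_top, Nat.cast_one, one_mul, hc1, map_div₀, irr_inv ψ z,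
        Complex.conj_conj, irr_one_conj]
    have hre : ∑ g : C, φ g * starRingEnd ℂ (ψ.1 g)
        = ∑ g : C, χ.1 (g : G) * starRingEnd ℂ (ψ.1 (z⁻¹ * g)) := by
      rw [← Equiv.sum_comp (Equiv.mulLeft z)
        (fun g : C => χ.1 (g : G) * starRingEnd ℂ (ψ.1 (z⁻¹ * g)))]
      refine Finset.sum_congr rfl fun g _ => ?_
      show φ g * _ = χ.1 ((z * g : C) : G) * starRingEnd ℂ (ψ.1 (z⁻¹ * (z * g)))
      rw [inv_mul_cancel_left, hφapp, Subgroup.coe_mul, hzy]
    have hinner : classInner φ (ψ : C → ℂ) = centralChar (ψ : C → ℂ) z * (n : ℂ) := by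
      rw [classInner_def', hre, ← hconjc, ← hn', Finset.mul_sum, Finset.mul_sum, Finset.mul_sum]
      refine Finset.sum_congr rfl fun g _ => ?_
      rw [hcs g, map_mul]
      ring
    have hloc1 : MemLocalRing M (classInner φ (ψ : C → ℂ)) := by
      rw [hinner]
      exact (locRing M).mul_mem (integral_mem_locRing (centralChar_isIntegral ψ z))
        (natCast_memLocalRing n)
    -- (2) the value at `y₀'` lies in the local ideal
    obtain ⟨nψ, hnψ⟩ := Cfsg.Agent.Helper24.irr_one_eq_natCast ψ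
    have hdegψ : charDegree (ψ : C → ℂ) = nψ := charDegree_of_eq hnψ
    have hnψ0 : (nψ : ℂ) ≠ 0 := by rw [← hnψ]; exact hψ1
    have h6 : sInf ((fun ψ' : IrrCharacter C => (charDegree (ψ' : C → ℂ)).factorization p) '' e)
        ≤ nψ.factorization p := by
      rw [← hdegψ]; exact Nat.sInf_le ⟨ψ, hψ, rfl⟩
    have h7 : (Nat.card C).factorization p -
        sInf ((fun ψ' : IrrCharacter C => (charDegree (ψ' : C → ℂ)).factorization p) '' e)
        < blockDefect p (blockOf M (χ₀ : G → ℂ)) := hlt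
    have h5 : (Nat.card C).factorization p + 1
        ≤ blockDefect p (blockOf M (χ₀ : G → ℂ)) + nψ.factorization p := by omega
    obtain ⟨s, hs⟩ : p ^ ((Nat.card C).factorization p + 1) ∣
        p ^ blockDefect p (blockOf M (χ₀ : G → ℂ)) * nψ :=
      dvd_trans (pow_dvd_pow p h5) (by
        rw [pow_add]; exact mul_dvd_mul_left _ (Nat.ordProj_dvd nψ p))
    obtain ⟨q, hq⟩ := hpd
    have hidx := Subgroup.index_mul_card (Subgroup.centralizer ({y₀'} : Set C))
    have hu := Nat.ordProj_mul_ordCompl_eq_self (Nat.card C) p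
    have hpu : ¬ p ∣ Nat.card C / p ^ (Nat.card C).factorization p :=
      Nat.not_dvd_ordCompl hp Nat.card_pos.ne'
    obtain ⟨u, hudef⟩ : ∃ u : ℕ, u = Nat.card C / p ^ (Nat.card C).factorization p := ⟨_, rfl⟩
    rw [← hudef] at hu hpu
    obtain ⟨a, hadef⟩ : ∃ a : ℕ, a = (Nat.card C).factorization p := ⟨_, rfl⟩
    obtain ⟨d, hddef⟩ : ∃ d : ℕ, d = blockDefect p (blockOf M (χ₀ : G → ℂ)) := ⟨_, rfl⟩
    obtain ⟨I, hIdef⟩ : ∃ I : ℕ, I = (Subgroup.centralizer ({y₀'} : Set C)).index := ⟨_, rfl⟩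
    rw [← hadef, ← hddef] at hs
    rw [← hadef] at hu
    rw [← hIdef, hq, ← hddef] at hidx
    have h1 : (I : ℂ) * ((p : ℂ) ^ d * (q : ℂ)) = (p : ℂ) ^ a * (u : ℂ) := by
      have h := hidx.trans hu.symm
      exact_mod_cast h
    have h2 : (p : ℂ) ^ d * (nψ : ℂ) = (p : ℂ) ^ (a + 1) * (s : ℂ) := by exact_mod_cast hs
    have hp0 : (p : ℂ) ≠ 0 := Nat.cast_ne_zero.mpr hp.pos.ne'
    have hpa0 : (p : ℂ) ^ a ≠ 0 := pow_ne_zero _ hp0
    have hu0 : (u : ℂ) ≠ 0 := by
      intro h0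
      rw [Nat.cast_eq_zero] at h0
      exact hpu (by rw [h0]; exact dvd_zero p)
    have hI0 : (I : ℂ) ≠ 0 := by
      rw [hIdef]; exact Nat.cast_ne_zero.mpr Subgroup.index_ne_zero_of_finite
    have h3 : (nψ : ℂ) * (u : ℂ) = (p : ℂ) * (s : ℂ) * (q : ℂ) * (I : ℂ) := by
      have h4 : (p : ℂ) ^ a * ((nψ : ℂ) * (u : ℂ) - (p : ℂ) * (s : ℂ) * (q : ℂ) * (I : ℂ)) = 0 := by
        linear_combination (-(nψ : ℂ)) * h1 + ((q : ℂ) * (I : ℂ)) * h2
      rcases mul_eq_zero.mp h4 with h | h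
      · exact absurd h hpa0
      · exact sub_eq_zero.mp h
    have hkey : (nψ : ℂ) / (I : ℂ) = (((s * q : ℕ) : ℂ) * (u : ℂ)⁻¹) * (p : ℂ) := by
      rw [div_eq_iff hI0]
      have h8 : (nψ : ℂ) = ((nψ : ℂ) * (u : ℂ)) * (u : ℂ)⁻¹ := by
        rw [mul_assoc, mul_inv_cancel₀ hu0, mul_one]
      rw [h8, h3]
      push_cast
      ring
    have hkeymem : MemLocalIdeal M ((nψ : ℂ) / (I : ℂ)) := by
      rw [hkey]
      exact memLocalIdeal_mul_left ((locRing M).mul_mem (natCast_memLocalRing (s * q))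
        (natCast_inv_memLocalRing hM hpu)) hpM
    have hψval : ψ.1 y₀' = centralChar (ψ : C → ℂ) y₀' * ((nψ : ℂ) / (I : ℂ)) := by
      unfold centralChar
      rw [← hIdef, hnψ]
      field_simp
    rw [hψval]
    exact memLocalIdeal_mul_left hloc1 (memLocalIdeal_mul_left
      (integral_mem_locRing (centralChar_isIntegral ψ y₀')) hkeymem)
  -- conclusion
  by_contra hno
  push Not at hno
  apply hnotmem
  have hexp : φ y₀' = ∑ ψ : IrrCharacter C, classInner φ (ψ : C → ℂ) * ψ.1 y₀' := by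
    have h := congrFun (classFunction_eq_sum_irr φ hφcf) y₀'
    rw [Finset.sum_apply] at h
    exact h.trans (Finset.sum_congr rfl fun ψ _ => by rw [Pi.smul_apply, smul_eq_mul])
  have hblocks := sum_irr_eq_sum_blocks hM
    (fun ψ : IrrCharacter C => classInner φ (ψ : C → ℂ) * ψ.1 y₀')
  have h1 := hexp.trans hblocks
  have hval : χ.1 (y * y₀) = φ y₀' := by rw [hφapp, hy₀'G]
  rw [hval, h1]
  refine memLocalIdeal_sum _ _ fun e _ => ?_
  by_cases he : IsPBlock M e
  · rw [if_pos he]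
    by_cases hind : IsInducedBlock M C e (blockOf M (χ₀ : G → ℂ))
    · have hlt := hno e hind
      refine memLocalIdeal_sum _ _ fun ψ _ => ?_
      by_cases hψ : ψ ∈ e
      · rw [if_pos hψ]; exact hterm e he hlt ψ hψ
      · rw [if_neg hψ]; exact memLocalIdeal_zero hMp.ne_top
    · have h0 := hsm e he hind y₀' hreg'
      rw [blockPart_eq_spec e (fun ψ => if ψ ∈ e then (1 : ℂ) else 0)
        (fun ψ h => if_pos h) (fun ψ h => if_neg h) φ y₀'] at h0
      have h9 : (∑ ψ : IrrCharacter C,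
          if ψ ∈ e then classInner φ (ψ : C → ℂ) * ψ.1 y₀' else 0) = 0 := by
        refine Eq.trans (Finset.sum_congr rfl fun ψ _ => ?_) h0
        by_cases hψ : ψ ∈ e
        · rw [if_pos hψ, if_pos hψ, one_mul]
        · rw [if_neg hψ, if_neg hψ, zero_mul]
      rw [h9]; exact memLocalIdeal_zero hMp.ne_top
  · rw [if_neg he]; exact memLocalIdeal_zero hMp.ne_top

theorem dc_fwd {G : Type u} [Group G] [Finite G] (p : ℕ) [Fact p.Prime] (M : Ideal AlgInt)
    (hM : IsPModular p M) (r : ℕ)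
    (hG : ∀ B' : Set (IrrCharacter G), IsPBlock M B' → B' ≠ principalBlock M G →
      blockDefect p B' < r)
    (y : G) (hy : ∃ k : ℕ, orderOf y = p ^ k)
    (b : Set (IrrCharacter ↥(Subgroup.centralizer ({y} : Set G)))) (hb : IsPBlock M b)
    (hne : b ≠ principalBlock M ↥(Subgroup.centralizer ({y} : Set G))) :
    blockDefect p b < r := by
  classical
  haveI := Fintype.ofFinite G
  haveI hMp : M.IsPrime := hM.2.1.isPrime
  have hp := (Fact.out : p.Prime)
  by_contra hcon
  rw [not_lt] at hcon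
  obtain ⟨k, hk⟩ := hy
  have hP : IsPGroup p (Subgroup.zpowers y) :=
    IsPGroup.of_card (n := k) (by rw [Nat.card_zpowers, hk])
  have hPH : Subgroup.zpowers y ≤ Subgroup.centralizer ({y} : Set G) :=
    (Subgroup.zpowers_le).mpr (Subgroup.mem_centralizer_singleton_iff.mpr rfl)
  have hCH : Subgroup.centralizer ((Subgroup.zpowers y : Subgroup G) : Set G)
      ≤ Subgroup.centralizer ({y} : Set G) :=
    Subgroup.centralizer_le (Set.singleton_subset_iff.mpr (Subgroup.mem_zpowers y))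
  have hcz : ∀ c ∈ Subgroup.centralizer ({y} : Set G), ∀ h' ∈ Subgroup.zpowers y,
      c * h' * c⁻¹ = h' := by
    intro c hc h' hh'
    obtain ⟨n, rfl⟩ := Subgroup.mem_zpowers_iff.mp hh'
    have hcy : Commute c y := Subgroup.mem_centralizer_singleton_iff.mp hc
    have h1 : c * y ^ n = y ^ n * c := (hcy.zpow_right n).eq
    rw [h1, mul_inv_cancel_right]
  have hHN : Subgroup.centralizer ({y} : Set G)
      ≤ Subgroup.normalizer ((Subgroup.zpowers y : Subgroup G) : Set G) := by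
    intro c hc
    rw [Subgroup.mem_normalizer_iff]
    intro h
    constructor
    · intro hh; rw [hcz c hc h hh]; exact hh
    · intro hh
      have h2 := hcz c⁻¹ (inv_mem hc) _ hh
      have h3 : c⁻¹ * (c * h * c⁻¹) * c⁻¹⁻¹ = h := by simp [mul_assoc]
      rw [h3] at h2
      rw [h2]; exact hh
  obtain ⟨B, hind⟩ := Cfsg.Agent.S0919.result p M hM (Subgroup.zpowers y) _ hP hPH hCH hHN b hb
  have hB := hind.2.1
  obtain ⟨g, hg⟩ := Cfsg.Agent.S0906.result p M hM b hb
  obtain ⟨Q⟩ : Nonempty (Sylow p (Subgroup.centralizer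
    ({g} : Set ↥(Subgroup.centralizer ({y} : Set G))))) := inferInstance
  have hDb : IsDefectGroup p M b ((Q : Subgroup _).map
      (Subgroup.centralizer ({g} : Set ↥(Subgroup.centralizer ({y} : Set G)))).subtype) :=
    ⟨g, hg, Q, rfl⟩
  obtain ⟨E, hE, hle⟩ := Cfsg.Agent.S0917.result p M hM _ b hb B hB hind _ hDb
  have hc1 := Cfsg.Agent.S0908.result p M hM b hb _ hDb
  have hc2 := Cfsg.Agent.S0908.result p M hM B hB E hE
  have hle' : p ^ blockDefect p b ≤ p ^ blockDefect p B := by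
    rw [← hc1, ← hc2, ← Subgroup.card_map_of_injective
      (Subgroup.subtype_injective (Subgroup.centralizer ({y} : Set G)))]
    exact Subgroup.card_le_of_le hle
  have hbd : blockDefect p b ≤ blockDefect p B := (Nat.pow_le_pow_iff_right hp.one_lt).mp hle'
  have hBp : B = principalBlock M G := by
    by_contra hBne
    have := hG B hB hBne
    omega
  rw [hBp] at hind
  exact hne ((Cfsg.Agent.S0936.result p M hM _ b ⟨_, hind⟩).mp hind)

theorem dc_bwd {G : Type u} [Group G] [Finite G] (p : ℕ) [Fact p.Prime] (M : Ideal AlgInt)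
    (hM : IsPModular p M) (r : ℕ) (hr : 0 < r)
    (hC : ∀ y : G, orderOf y = p →
      ∀ B' : Set (IrrCharacter ↥(Subgroup.centralizer ({y} : Set G))), IsPBlock M B' →
        B' ≠ principalBlock M ↥(Subgroup.centralizer ({y} : Set G)) → blockDefect p B' < r)
    (B : Set (IrrCharacter G)) (hB : IsPBlock M B) (hne : B ≠ principalBlock M G) :
    blockDefect p B < r := by
  classical
  haveI := Fintype.ofFinite G
  haveI hMp : M.IsPrime := hM.2.1.isPrime
  have hp := (Fact.out : p.Prime)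
  by_contra hcon
  rw [not_lt] at hcon
  obtain ⟨y₀, hy₀⟩ := Cfsg.Agent.S0906.result p M hM B hB
  obtain ⟨Q⟩ : Nonempty (Sylow p (Subgroup.centralizer ({y₀} : Set G))) := inferInstance
  have hD : IsDefectGroup p M B ((Q : Subgroup (Subgroup.centralizer ({y₀} : Set G))).map
      (Subgroup.centralizer ({y₀} : Set G)).subtype) := ⟨y₀, hy₀, Q, rfl⟩
  have hcard := Cfsg.Agent.S0908.result p M hM B hB _ hD
  rw [Subgroup.card_map_of_injective (Subgroup.subtype_injective _)] at hcard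
  have hQp : IsPGroup p (Q : Subgroup (Subgroup.centralizer ({y₀} : Set G))) := Q.isPGroup'
  haveI hnt : Nontrivial (Q : Subgroup (Subgroup.centralizer ({y₀} : Set G))) := by
    rw [← Finite.one_lt_card_iff_nontrivial, hcard]
    exact Nat.one_lt_pow (by omega) hp.one_lt
  haveI hcnt := hQp.center_nontrivial
  have hZp : IsPGroup p (Subgroup.center (Q : Subgroup (Subgroup.centralizer ({y₀} : Set G)))) :=
    hQp.to_subgroup _
  have hdvd : p ∣ Nat.card (Subgroup.center
      (Q : Subgroup (Subgroup.centralizer ({y₀} : Set G)))) := by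
    rcases hZp.card_eq_or_dvd with h1 | h1
    · exfalso
      have h2 := Finite.one_lt_card_iff_nontrivial.mpr hcnt
      omega
    · exact h1
  obtain ⟨z, hz⟩ := exists_prime_orderOf_dvd_card' p hdvd
  obtain ⟨x, hxdef⟩ : ∃ x : Subgroup.centralizer ({y₀} : Set G),
      x = ((z : (Q : Subgroup (Subgroup.centralizer ({y₀} : Set G)))) :
        Subgroup.centralizer ({y₀} : Set G)) := ⟨_, rfl⟩
  have hxQ : x ∈ (Q : Subgroup (Subgroup.centralizer ({y₀} : Set G))) := by
    rw [hxdef]; exact (z : (Q : Subgroup (Subgroup.centralizer ({y₀} : Set G)))).2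
  have hxc : ∀ w ∈ (Q : Subgroup (Subgroup.centralizer ({y₀} : Set G))), x * w = w * x := by
    intro w hw
    have h1 := Subgroup.mem_center_iff.mp z.2 ⟨w, hw⟩
    have h2 := congrArg Subtype.val h1
    rw [hxdef]; exact h2.symm
  have hyo : orderOf (x : G) = p := by
    rw [hxdef, Subgroup.orderOf_coe]
    exact (Subgroup.orderOf_coe (z : (Q : Subgroup (Subgroup.centralizer ({y₀} : Set G))))).trans
      ((Subgroup.orderOf_coe z).trans hz)
  obtain ⟨b, hind, hle⟩ := dc_major p M hM B hB y₀ hy₀ Q x hxQ hxc (x : G) rfl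
    ⟨1, by rw [hyo, pow_one]⟩
  have hbp : b = principalBlock M ↥(Subgroup.centralizer ({(x : G)} : Set G)) := by
    by_contra hbne
    have := hC (x : G) hyo b hind.1 hbne
    omega
  rw [hbp] at hind
  have hind2 := (Cfsg.Agent.S0936.result p M hM _ _ ⟨B, hind⟩).mpr rfl
  exact hne (dc_uniq M _ _ _ _ hind hind2)

end Cfsg.Agent.Helper24
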