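import Mathlib
import Cfsg.Agent.Helper5.BlkFMT
import Cfsg.Agent.Helper5.BlkBr2
import Cfsg.Agent.Helper24.DefCls

/-!
helper24: Brauer's first main theorem in idempotent form: for a block `B` with defect group `P`
and its Brauer correspondent `b` in `N_G(P)`, the Brauer-map image of the idempotent of `B` is
the idempotent of `b` (pointwise modulo the local ideal).
-/

set_option autoImplicit false

namespace Cfsg.Agent.Helper24

open Cfsg Cfsg.Agent.Helper5 Cfsg.Agent.Helper22

universe u

variable {G : Type u} [Group G] [Fintype G]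

/-- the Brauer map composed with a central character, evaluated on a spectral vector. -/
theorem fm_lam {M : Ideal AlgInt} [hMp : M.IsPrime] (P H : Subgroup G) [Fintype H]
    (ξ : IrrCharacter H) (χ₁ : IrrCharacter G)
    (hbr : ∀ g : G, MemLocalIdeal M
      (brauerCentralChar P H (ξ : H → ℂ) g - centralChar (χ₁ : G → ℂ) g))
    {c : IrrCharacter G → ℂ} (hc : c ∈ specRing M G) :
    MemLocalIdeal M (brLam P H (ξ : H → ℂ) c - c χ₁) := by
  classical
  obtain ⟨ι, hι⟩ := exists_class_reps G
  have h1 := sum_reps_brauer P H (ξ : H → ℂ) (specFun c) (specFun_isClassFunction c) ι hι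
  have h2 : brLam P H (ξ : H → ℂ) c
      = ∑ r ∈ ι, specFun c r * brauerCentralChar P H (ξ : H → ℂ) r := by
    rw [h1]
    unfold brLam
    congr 1
  rw [h2, spec_value c ι hι χ₁, ← Finset.sum_sub_distrib]
  refine memLocalIdeal_sum _ _ fun r _ => ?_
  rw [← mul_sub]
  exact memLocalIdeal_mul_left (hc r) (hbr r)

/-- an idempotent-modulo-`M` spectral vector times an idempotent, with all spectral values in
the local ideal, has class function values in the local ideal. -/
theorem fm_idem {N : Type u} [Group N] [Fintype N] {M : Ideal AlgInt} [hMp : M.IsPrime]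
    (lam e : IrrCharacter N → ℂ) (hlam : lam ∈ specRing M N) (he : e ∈ specRing M N)
    (hee : e * e = e)
    (hl : ∀ g, MemLocalIdeal M (specFun (lam + -(lam * lam)) g))
    (hv : ∀ ξ : IrrCharacter N, MemLocalIdeal M ((lam * e) ξ)) :
    ∀ g, MemLocalIdeal M (specFun (lam * e) g) := by
  refine classFun_mem_of_idem (specFun (lam * e)) (specFun_isClassFunction _)
    (fun g => (specRing M N).mul_mem hlam he g) ?_ ?_
  · intro g
    rw [← specFun_mul]
    have e1 : (lam * e) * (lam * e) = (lam * lam) * e := by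
      rw [mul_mul_mul_comm, hee]
    rw [e1]
    have e2 : specFun (lam * e) g - specFun (lam * lam * e) g
        = specFun ((lam + -(lam * lam)) * e) g := by
      have e3 : (lam + -(lam * lam)) * e = lam * e + -(lam * lam * e) := by ring
      rw [e3, specFun_add, specFun_neg]
      ring
    rw [e2, specFun_mul]
    refine memLocalIdeal_sum _ _ fun h _ => ?_
    rw [mul_comm]
    exact memLocalIdeal_mul_left (he _) (hl h)
  · intro ξ
    have h10 := Cfsg.Agent.Helper5.irr_one_ne_zero ξ
    rw [spec_inversion (lam * e) ξ, mul_comm ((lam * e) ξ), ← mul_assoc, inv_mul_cancel₀ h10,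
      one_mul]
    exact hv ξ

/-- **First main theorem, idempotent form.** -/
theorem fm_A {p : ℕ} [Fact p.Prime] {M : Ideal AlgInt} (hM : IsPModular p M)
    [hMp : M.IsPrime] (P : Subgroup G) (hP : IsPGroup p P)
    [Fintype (Subgroup.normalizer (P : Set G))]
    (χ₀ : IrrCharacter G) (ξ₀ : IrrCharacter (Subgroup.normalizer (P : Set G)))
    (hDb : IsDefectGroup p M (blockOf M (ξ₀ : Subgroup.normalizer (P : Set G) → ℂ))
      (P.subgroupOf (Subgroup.normalizer (P : Set G))))
    (hind : IsInducedBlock M (Subgroup.normalizer (P : Set G))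
      (blockOf M (ξ₀ : Subgroup.normalizer (P : Set G) → ℂ)) (blockOf M (χ₀ : G → ℂ)))
    (c : IrrCharacter G → ℂ) (hc : c ∈ specRing M G)
    (hcv : ∀ ψ : IrrCharacter G, (SameBlock M (χ₀ : G → ℂ) (ψ : G → ℂ) → c ψ = 1) ∧
      (¬ SameBlock M (χ₀ : G → ℂ) (ψ : G → ℂ) → c ψ = 0)) :
    ∀ n : Subgroup.normalizer (P : Set G), MemLocalIdeal M
      (brF P (Subgroup.normalizer (P : Set G)) c n
        - blockCoeff (blockOf M (ξ₀ : Subgroup.normalizer (P : Set G) → ℂ)) n) := by
  classical
  have hPN : P ≤ Subgroup.normalizer (P : Set G) := Subgroup.le_normalizer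
  have hCN := Subgroup.centralizer_le_normalizer (P : Set G)
  obtain ⟨d, hd, hdv⟩ := osima (M := M) ξ₀
  obtain ⟨lam, hlamdef⟩ : ∃ lam : IrrCharacter (Subgroup.normalizer (P : Set G)) → ℂ,
      lam = fun ξ : IrrCharacter (Subgroup.normalizer (P : Set G)) =>
        brLam P (Subgroup.normalizer (P : Set G))
          (ξ : Subgroup.normalizer (P : Set G) → ℂ) c := ⟨_, rfl⟩
  have hF : specFun lam = brF P (Subgroup.normalizer (P : Set G)) c := by
    rw [hlamdef]
    exact specFun_cvec _ (brF_isClassFunction P _ le_rfl c)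
  have hlamS : lam ∈ specRing M (Subgroup.normalizer (P : Set G)) := by
    intro n
    rw [hF]
    exact brF_memLocalRing P _ hc n
  have hbr₀ : ∀ ξ : IrrCharacter (Subgroup.normalizer (P : Set G)),
      SameBlock M (ξ₀ : Subgroup.normalizer (P : Set G) → ℂ)
        (ξ : Subgroup.normalizer (P : Set G) → ℂ) → ∀ g : G, MemLocalIdeal M
      (brauerCentralChar P (Subgroup.normalizer (P : Set G))
        (ξ : Subgroup.normalizer (P : Set G) → ℂ) g - centralChar (χ₀ : G → ℂ) g) :=
    fun ξ hξ => (induced_iff_brauer hM P _ hP hPN le_rfl _ ⟨ξ₀, rfl⟩ _ ⟨χ₀, rfl⟩).mp hind ξ hξ χ₀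
      (sameBlock_refl _)
  have hlam1 : ∀ ξ : IrrCharacter (Subgroup.normalizer (P : Set G)),
      SameBlock M (ξ₀ : Subgroup.normalizer (P : Set G) → ℂ)
        (ξ : Subgroup.normalizer (P : Set G) → ℂ) → MemLocalIdeal M (lam ξ - 1) := by
    intro ξ hξ
    have h1 := fm_lam P _ ξ χ₀ (hbr₀ ξ hξ) hc
    rw [(hcv χ₀).1 (sameBlock_refl _)] at h1
    rw [hlamdef]
    exact h1
  have hlam0 : ∀ ξ : IrrCharacter (Subgroup.normalizer (P : Set G)),
      ¬ SameBlock M (ξ₀ : Subgroup.normalizer (P : Set G) → ℂ)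
        (ξ : Subgroup.normalizer (P : Set G) → ℂ) → MemLocalIdeal M (lam ξ) := by
    intro ξ hξ
    obtain ⟨χ₁, hbr⟩ := exists_brauer_block hM P _ hP hCN le_rfl ξ
    have h1 := fm_lam P _ ξ χ₁ hbr hc
    by_cases hχ₁ : SameBlock M (χ₀ : G → ℂ) (χ₁ : G → ℂ)
    · exfalso
      apply hξ
      have hbr₂ : ∀ g : G, MemLocalIdeal M
          (brauerCentralChar P (Subgroup.normalizer (P : Set G))
            (ξ : Subgroup.normalizer (P : Set G) → ℂ) g - centralChar (χ₀ : G → ℂ) g) := by
        intro g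
        have h2 := memLocalIdeal_sub (hbr g) (hχ₁ g)
        rwa [sub_sub_sub_cancel_right] at h2
      exact fmt_unique hM P hP ξ₀ ξ χ₀ hDb (hbr₀ ξ₀ (sameBlock_refl _)) hbr₂
    · rw [(hcv χ₁).2 hχ₁, sub_zero] at h1
      rw [hlamdef]
      exact h1
  have hcc : c * c = c := by
    funext ψ
    by_cases h : SameBlock M (χ₀ : G → ℂ) (ψ : G → ℂ)
    · show c ψ * c ψ = c ψ
      rw [(hcv ψ).1 h, mul_one]
    · show c ψ * c ψ = c ψ
      rw [(hcv ψ).2 h, mul_zero]
  have hdd : d * d = d := by
    funext ψ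
    by_cases h : SameBlock M (ξ₀ : Subgroup.normalizer (P : Set G) → ℂ)
        (ψ : Subgroup.normalizer (P : Set G) → ℂ)
    · show d ψ * d ψ = d ψ
      rw [(hdv ψ).1 h, mul_one]
    · show d ψ * d ψ = d ψ
      rw [(hdv ψ).2 h, mul_zero]
  have hl : ∀ g, MemLocalIdeal M (specFun (lam + -(lam * lam)) g) := by
    intro g
    rw [specFun_add, specFun_neg, specFun_mul, hF]
    have h1 := brF_mul_sub_conv_mem hM P (Subgroup.normalizer (P : Set G)) hP hCN hc hc g
    rw [hcc] at h1
    exact h1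
  have h1d : (1 - d) ∈ specRing M (Subgroup.normalizer (P : Set G)) :=
    (specRing M _).sub_mem (specRing M _).one_mem hd
  have h1dd : (1 - d) * (1 - d) = 1 - d := by
    have : (1 - d) * (1 - d) = 1 - d - d + d * d := by ring
    rw [this, hdd]
    ring
  have hA := fm_idem lam (1 - d) hlamS h1d h1dd hl (by
    intro ξ
    show MemLocalIdeal M (lam ξ * (1 - d ξ))
    by_cases hξ : SameBlock M (ξ₀ : Subgroup.normalizer (P : Set G) → ℂ)
        (ξ : Subgroup.normalizer (P : Set G) → ℂ)
    · rw [(hdv ξ).1 hξ, sub_self, mul_zero]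
      exact memLocalIdeal_zero hMp.ne_top
    · rw [(hdv ξ).2 hξ, sub_zero, mul_one]
      exact hlam0 ξ hξ)
  have h1l : (1 - lam) ∈ specRing M (Subgroup.normalizer (P : Set G)) :=
    (specRing M _).sub_mem (specRing M _).one_mem hlamS
  have hl' : ∀ g, MemLocalIdeal M (specFun ((1 - lam) + -((1 - lam) * (1 - lam))) g) := by
    have e : (1 - lam) + -((1 - lam) * (1 - lam)) = lam + -(lam * lam) := by ring
    rw [e]
    exact hl
  have hB := fm_idem (1 - lam) d h1l hd hdd hl' (by
    intro ξ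
    show MemLocalIdeal M ((1 - lam ξ) * d ξ)
    by_cases hξ : SameBlock M (ξ₀ : Subgroup.normalizer (P : Set G) → ℂ)
        (ξ : Subgroup.normalizer (P : Set G) → ℂ)
    · rw [(hdv ξ).1 hξ, mul_one]
      have h2 := memLocalIdeal_neg (hlam1 ξ hξ)
      rwa [neg_sub] at h2
    · rw [(hdv ξ).2 hξ, mul_zero]
      exact memLocalIdeal_zero hMp.ne_top)
  intro n
  rw [← hF, blockCoeff_eq_specFun (blockOf M (ξ₀ : Subgroup.normalizer (P : Set G) → ℂ)) d
    (fun ψ hψ => (hdv ψ).1 hψ) (fun ψ hψ => (hdv ψ).2 hψ) n]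
  have e : specFun lam n - specFun d n
      = specFun (lam * (1 - d)) n + -(specFun ((1 - lam) * d) n) := by
    rw [← specFun_neg, ← specFun_add]
    have e' : lam * (1 - d) + -((1 - lam) * d) = lam + -d := by ring
    rw [e', specFun_add, specFun_neg]
    ring
  rw [e]
  exact memLocalIdeal_add hMp (hA n) (memLocalIdeal_neg (hB n))

end Cfsg.Agent.Helper24
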