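import Mathlib
import Cfsg.Agent.Helper24.FMT1
import Cfsg.Agent.Helper24.PrFus

/-!
helper24: transport of blocks along group isomorphisms, and the first main theorem between `G`
and a subgroup `H ≥ N_G(P)` in idempotent form (S4670).
-/

set_option autoImplicit false

namespace Cfsg.Agent.Helper24

open Cfsg Cfsg.Agent.Helper5 Cfsg.Agent.Helper22

universe u

section Transport

variable {A B : Type u} [Group A] [Group B]

theorem fm_cc (φ : A ≃* B) (χ : B → ℂ) (k : A) :
    centralChar (fun a => χ (φ a)) k = centralChar χ (φ k) := by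
  unfold centralChar
  rw [pf_index φ k]
  show _ * χ (φ k) / χ (φ 1) = _
  rw [map_one]

/-- the transport of a set of irreducible characters along an isomorphism. -/
def fm_tr (φ : A ≃* B) (b' : Set (IrrCharacter A)) : Set (IrrCharacter B) :=
  {χ | (⟨fun a => (χ : B → ℂ) (φ a), isIrrCharacter_comp_mulEquiv φ χ.2⟩ : IrrCharacter A) ∈ b'}

theorem fm_tr_mem (φ : A ≃* B) (b' : Set (IrrCharacter A)) (χ : IrrCharacter B) :
    χ ∈ fm_tr φ b' ↔
      (⟨fun a => (χ : B → ℂ) (φ a), isIrrCharacter_comp_mulEquiv φ χ.2⟩ : IrrCharacter A) ∈ b' :=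
  Iff.rfl

theorem fm_tr_tr (φ : A ≃* B) (b' : Set (IrrCharacter A)) :
    fm_tr φ.symm (fm_tr φ b') = b' := by
  ext θ
  rw [fm_tr_mem, fm_tr_mem]
  have e : (⟨fun a => ((⟨fun b => (θ : A → ℂ) (φ.symm b),
      isIrrCharacter_comp_mulEquiv φ.symm θ.2⟩ : IrrCharacter B) : B → ℂ) (φ a),
      isIrrCharacter_comp_mulEquiv φ (isIrrCharacter_comp_mulEquiv φ.symm θ.2)⟩ : IrrCharacter A)
      = θ := by
    apply Subtype.ext
    funext a
    show (θ : A → ℂ) (φ.symm (φ a)) = (θ : A → ℂ) a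
    rw [φ.symm_apply_apply]
  rw [e]

theorem fm_tr_tr' (φ : A ≃* B) (b : Set (IrrCharacter B)) :
    fm_tr φ (fm_tr φ.symm b) = b := by
  ext θ
  rw [fm_tr_mem, fm_tr_mem]
  have e : (⟨fun a => ((⟨fun b => (θ : B → ℂ) (φ b),
      isIrrCharacter_comp_mulEquiv φ θ.2⟩ : IrrCharacter A) : A → ℂ) (φ.symm a),
      isIrrCharacter_comp_mulEquiv φ.symm (isIrrCharacter_comp_mulEquiv φ θ.2)⟩ : IrrCharacter B)
      = θ := by
    apply Subtype.ext
    funext a
    show (θ : B → ℂ) (φ (φ.symm a)) = (θ : B → ℂ) a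
    rw [φ.apply_symm_apply]
  rw [e]

theorem fm_tr_blockOf {M : Ideal AlgInt} (φ : A ≃* B) (ξ : IrrCharacter A) :
    fm_tr φ (blockOf M (ξ : A → ℂ))
      = blockOf M ((⟨fun b => (ξ : A → ℂ) (φ.symm b),
          isIrrCharacter_comp_mulEquiv φ.symm ξ.2⟩ : IrrCharacter B) : B → ℂ) := by
  ext χ
  rw [fm_tr_mem]
  constructor
  · intro h g
    have h1 := h (φ.symm g)
    have e1 : centralChar (fun b => (ξ : A → ℂ) (φ.symm b)) g
        = centralChar (ξ : A → ℂ) (φ.symm g) := fm_cc φ.symm _ g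
    have e2 : centralChar (fun a => (χ : B → ℂ) (φ a)) (φ.symm g)
        = centralChar (χ : B → ℂ) g := by
      rw [fm_cc φ _ (φ.symm g), φ.apply_symm_apply]
    show MemLocalIdeal M (centralChar (fun b => (ξ : A → ℂ) (φ.symm b)) g
      - centralChar (χ : B → ℂ) g)
    rw [e1, ← e2]
    exact h1
  · intro h a
    have h1 := h (φ a)
    have e1 : centralChar (fun b => (ξ : A → ℂ) (φ.symm b)) (φ a)
        = centralChar (ξ : A → ℂ) a := by
      rw [fm_cc φ.symm _ (φ a), φ.symm_apply_apply]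
    have e2 : centralChar (fun a => (χ : B → ℂ) (φ a)) a
        = centralChar (χ : B → ℂ) (φ a) := fm_cc φ _ a
    show MemLocalIdeal M (centralChar (ξ : A → ℂ) a
      - centralChar (fun a => (χ : B → ℂ) (φ a)) a)
    rw [e2, ← e1]
    exact h1

theorem fm_tr_isPBlock {M : Ideal AlgInt} (φ : A ≃* B) (b' : Set (IrrCharacter A))
    (hb' : IsPBlock M b') : IsPBlock M (fm_tr φ b') := by
  obtain ⟨ξ, rfl⟩ := hb'
  exact ⟨_, fm_tr_blockOf φ ξ⟩

theorem fm_tr_coeff (φ : A ≃* B) (b' : Set (IrrCharacter A)) (a : A) :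
    blockCoeff (fm_tr φ b') (φ a) = blockCoeff b' a := by
  unfold blockCoeff
  rw [Nat.card_congr φ.toEquiv]
  congr 1
  symm
  refine finsum_mem_eq_of_bijOn
    (fun θ : IrrCharacter A => (⟨fun b => (θ : A → ℂ) (φ.symm b),
      isIrrCharacter_comp_mulEquiv φ.symm θ.2⟩ : IrrCharacter B)) ⟨?_, ?_, ?_⟩ ?_
  · intro θ hθ
    have h1 := fm_tr_tr φ b'
    have h2 : θ ∈ fm_tr φ.symm (fm_tr φ b') := by rw [h1]; exact hθ
    exact h2
  · intro θ _ θ' _ hh
    apply Subtype.ext
    funext a'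
    have h1 := congrFun (congrArg Subtype.val hh) (φ a')
    simpa using h1
  · intro χ hχ
    refine ⟨⟨fun a' => (χ : B → ℂ) (φ a'), isIrrCharacter_comp_mulEquiv φ χ.2⟩, hχ, ?_⟩
    apply Subtype.ext
    funext b
    show (χ : B → ℂ) (φ (φ.symm b)) = (χ : B → ℂ) b
    rw [φ.apply_symm_apply]
  · intro θ _
    show (θ : A → ℂ) 1 * (starRingEnd ℂ) ((θ : A → ℂ) a)
      = (θ : A → ℂ) (φ.symm 1) * (starRingEnd ℂ) ((θ : A → ℂ) (φ.symm (φ a)))
    rw [map_one, φ.symm_apply_apply]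

theorem fm_card_centralizer [Finite A] (φ : A ≃* B) (g : A) :
    Nat.card (Subgroup.centralizer ({φ g} : Set B))
      = Nat.card (Subgroup.centralizer ({g} : Set A)) := by
  haveI : Finite B := Finite.of_equiv A φ.toEquiv
  have h1 := Subgroup.card_mul_index (Subgroup.centralizer ({φ g} : Set B))
  have h2 := Subgroup.card_mul_index (Subgroup.centralizer ({g} : Set A))
  rw [pf_index φ g, ← Nat.card_congr φ.toEquiv, ← h2] at h1
  exact Nat.eq_of_mul_eq_mul_right
    (Nat.pos_of_ne_zero Subgroup.index_ne_zero_of_finite) h1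

theorem fm_tr_defect [Finite A] {p : ℕ} [Fact p.Prime] {M : Ideal AlgInt} (φ : A ≃* B)
    (b' : Set (IrrCharacter A)) (D' : Subgroup A) (h : IsDefectGroup p M b' D') :
    IsDefectGroup p M (fm_tr φ b') (D'.map φ.toMonoidHom) := by
  haveI : Finite B := Finite.of_equiv A φ.toEquiv
  obtain ⟨g, hdc, Q, hQ⟩ := h
  have hdc' : IsDefectClass M (fm_tr φ b') (φ g) := by
    refine ⟨?_, ?_, ?_⟩
    · rw [fm_tr_coeff]; exact hdc.1
    · rw [fm_tr_coeff]; exact hdc.2.1
    · intro χ hχ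
      have h1 := hdc.2.2 _ ((fm_tr_mem φ b' χ).mp hχ)
      have e : centralChar (fun a => (χ : B → ℂ) (φ a)) g = centralChar (χ : B → ℂ) (φ g) :=
        fm_cc φ _ g
      rw [← e]
      exact h1
  have hle : D'.map φ.toMonoidHom ≤ Subgroup.centralizer ({φ g} : Set B) := by
    rintro _ ⟨y, hy, rfl⟩
    rw [hQ] at hy
    obtain ⟨q, -, rfl⟩ := hy
    have hq := Subgroup.mem_centralizer_singleton_iff.mp q.2
    rw [Subgroup.mem_centralizer_singleton_iff]
    show φ (q : A) * φ g = φ g * φ (q : A)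
    rw [← map_mul, ← map_mul, hq]
  have hcard : Nat.card ((D'.map φ.toMonoidHom).subgroupOf
      (Subgroup.centralizer ({φ g} : Set B)))
      = p ^ (Nat.card (Subgroup.centralizer ({φ g} : Set B))).factorization p := by
    rw [Nat.card_congr (Subgroup.subgroupOfEquivOfLe hle).toEquiv,
      ← Nat.card_congr (Subgroup.equivMapOfInjective D' φ.toMonoidHom φ.injective).toEquiv,
      fm_card_centralizer φ g, ← Sylow.card_eq_multiplicity Q, hQ]
    exact (Nat.card_congr (Subgroup.equivMapOfInjective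
      (Q : Subgroup (Subgroup.centralizer ({g} : Set A)))
      (Subgroup.centralizer ({g} : Set A)).subtype (Subgroup.subtype_injective _)).toEquiv).symm
  refine ⟨φ g, hdc', Sylow.ofCard _ hcard, ?_⟩
  rw [Sylow.coe_ofCard, Subgroup.subgroupOf_map_subtype, inf_of_le_left hle]

/-- two blocks with pointwise congruent idempotents coincide. -/
theorem fm_sep {Y : Type u} [Group Y] [Fintype Y] {M : Ideal AlgInt} [hMp : M.IsPrime]
    (ξ₁ ξ₂ : IrrCharacter Y)
    (h : ∀ y : Y, MemLocalIdeal M (blockCoeff (blockOf M (ξ₁ : Y → ℂ)) y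
      - blockCoeff (blockOf M (ξ₂ : Y → ℂ)) y)) :
    SameBlock M (ξ₁ : Y → ℂ) (ξ₂ : Y → ℂ) := by
  classical
  by_contra hne
  obtain ⟨c₁, hc₁, hcv₁⟩ := osima (M := M) ξ₁
  obtain ⟨c₂, hc₂, hcv₂⟩ := osima (M := M) ξ₂
  have hF : ∀ y, MemLocalIdeal M (specFun (c₁ + -c₂) y) := by
    intro y
    rw [specFun_add, specFun_neg,
      ← blockCoeff_eq_specFun (blockOf M (ξ₁ : Y → ℂ)) c₁ (fun ψ hψ => (hcv₁ ψ).1 hψ)
        (fun ψ hψ => (hcv₁ ψ).2 hψ) y,
      ← blockCoeff_eq_specFun (blockOf M (ξ₂ : Y → ℂ)) c₂ (fun ψ hψ => (hcv₂ ψ).1 hψ)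
        (fun ψ hψ => (hcv₂ ψ).2 hψ) y, ← sub_eq_add_neg]
    exact h y
  have h1 := classFun_char_memIdeal (specFun (c₁ + -c₂)) (specFun_isClassFunction _) hF ξ₁
  have h10 := Cfsg.Agent.Helper5.irr_one_ne_zero ξ₁
  rw [spec_inversion (c₁ + -c₂) ξ₁, mul_comm ((c₁ + -c₂) ξ₁), ← mul_assoc, inv_mul_cancel₀ h10,
    one_mul] at h1
  have h2 : (c₁ + -c₂) ξ₁ = 1 := by
    show c₁ ξ₁ + -(c₂ ξ₁) = 1
    rw [(hcv₁ ξ₁).1 (sameBlock_refl _), (hcv₂ ξ₁).2 (fun h' => hne (sameBlock_symm h')), neg_zero,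
      add_zero]
  rw [h2] at h1
  exact not_memLocalIdeal_one h1

end Transport

section Main

variable {G : Type u} [Group G] [Fintype G]

omit [Fintype G] in
theorem fm_norm_iff (P H : Subgroup G) (hPH : P ≤ H) (h : H) :
    h ∈ Subgroup.normalizer ((P.subgroupOf H : Subgroup H) : Set H)
      ↔ (h : G) ∈ Subgroup.normalizer (P : Set G) := by
  rw [Subgroup.mem_normalizer_iff, Subgroup.mem_normalizer_iff]
  constructor
  · intro hh g
    constructor
    · intro hg
      have h1 := (hh ⟨g, hPH hg⟩).mp (Subgroup.mem_subgroupOf.mpr hg)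
      exact Subgroup.mem_subgroupOf.mp h1
    · intro hg
      have e : g = (h : G)⁻¹ * ((h : G) * g * (h : G)⁻¹) * (h : G) := by group
      have gH : g ∈ H := by
        rw [e]
        exact H.mul_mem (H.mul_mem (H.inv_mem h.2) (hPH hg)) h.2
      have h1 := (hh ⟨g, gH⟩).mpr (Subgroup.mem_subgroupOf.mpr hg)
      exact Subgroup.mem_subgroupOf.mp h1
  · intro hh x
    rw [Subgroup.mem_subgroupOf, Subgroup.mem_subgroupOf]
    exact hh (x : G)

omit [Fintype G] in
theorem fm_cent_iff (P H : Subgroup G) (hPH : P ≤ H) (h : H) :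
    h ∈ Subgroup.centralizer ((P.subgroupOf H : Subgroup H) : Set H)
      ↔ (h : G) ∈ Subgroup.centralizer (P : Set G) := by
  rw [Subgroup.mem_centralizer_iff, Subgroup.mem_centralizer_iff]
  constructor
  · intro hh q hq
    have h1 := hh ⟨q, hPH hq⟩ (Subgroup.mem_subgroupOf.mpr hq)
    exact congrArg Subtype.val h1
  · intro hh q hq
    exact Subtype.ext (hh (q : G) (Subgroup.mem_subgroupOf.mp hq))

omit [Fintype G] in
theorem fm_phi (P H : Subgroup G) (hH : Subgroup.normalizer (P : Set G) ≤ H) :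
    ∃ φ : ↥(Subgroup.normalizer ((P.subgroupOf H : Subgroup H) : Set H)) ≃*
        ↥(Subgroup.normalizer (P : Set G)),
      ∀ n', ((φ n' : Subgroup.normalizer (P : Set G)) : G) = ((n' : H) : G) := by
  have hPH : P ≤ H := le_trans Subgroup.le_normalizer hH
  refine ⟨{ toFun := fun n' => ⟨((n' : H) : G), (fm_norm_iff P H hPH n').mp n'.2⟩
            invFun := fun n => ⟨⟨(n : G), hH n.2⟩, (fm_norm_iff P H hPH ⟨(n : G), hH n.2⟩).mpr n.2⟩
            left_inv := fun n' => Subtype.ext (Subtype.ext rfl)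
            right_inv := fun n => Subtype.ext rfl
            map_mul' := fun a b => Subtype.ext rfl }, fun n' => rfl⟩

/-- the first main theorem in idempotent form, packaged. -/
theorem fm_A' {p : ℕ} [Fact p.Prime] {M : Ideal AlgInt} (hM : IsPModular p M)
    [hMp : M.IsPrime] (P : Subgroup G) (hP : IsPGroup p P)
    [Fintype (Subgroup.normalizer (P : Set G))]
    (B : Set (IrrCharacter G)) (hB : IsPBlock M B)
    (b : Set (IrrCharacter (Subgroup.normalizer (P : Set G)))) (hb : IsPBlock M b)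
    (hbD : IsDefectGroup p M b (P.subgroupOf (Subgroup.normalizer (P : Set G))))
    (hind : IsInducedBlock M (Subgroup.normalizer (P : Set G)) b B)
    (n : Subgroup.normalizer (P : Set G)) :
    ((n : G) ∈ Subgroup.centralizer (P : Set G) →
        MemLocalIdeal M (blockCoeff B (n : G) - blockCoeff b n)) ∧
      ((n : G) ∉ Subgroup.centralizer (P : Set G) → MemLocalIdeal M (blockCoeff b n)) := by
  obtain ⟨χ₀, rfl⟩ := hB
  obtain ⟨ξ₀, rfl⟩ := hb
  obtain ⟨c, hc, hcv⟩ := osima (M := M) χ₀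
  have h := fm_A hM P hP χ₀ ξ₀ hbD hind c hc hcv n
  constructor
  · intro hn
    rw [brF_mem P _ c n hn] at h
    rwa [blockCoeff_eq_specFun (blockOf M (χ₀ : G → ℂ)) c (fun ψ hψ => (hcv ψ).1 hψ)
      (fun ψ hψ => (hcv ψ).2 hψ)]
  · intro hn
    rw [brF_notMem P _ c n hn, zero_sub] at h
    have h2 := memLocalIdeal_neg h
    rwa [neg_neg] at h2

/-- the key comparison between `G` and `H ≥ N_G(P)`. -/
theorem fm_key {p : ℕ} [Fact p.Prime] {M : Ideal AlgInt} (hM : IsPModular p M)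
    [hMp : M.IsPrime] (P H : Subgroup G) (hP : IsPGroup p P)
    (hH : Subgroup.normalizer (P : Set G) ≤ H)
    (φ : ↥(Subgroup.normalizer ((P.subgroupOf H : Subgroup H) : Set H)) ≃*
        ↥(Subgroup.normalizer (P : Set G)))
    (hφ : ∀ n', ((φ n' : Subgroup.normalizer (P : Set G)) : G) = ((n' : H) : G))
    (B : Set (IrrCharacter G)) (hB : IsPBlock M B)
    (c : Set (IrrCharacter H)) (hc : IsPBlock M c)
    (b : Set (IrrCharacter (Subgroup.normalizer (P : Set G)))) (hb : IsPBlock M b)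
    (hbD : IsDefectGroup p M b (P.subgroupOf (Subgroup.normalizer (P : Set G))))
    (hbB : IsInducedBlock M (Subgroup.normalizer (P : Set G)) b B)
    (b' : Set (IrrCharacter (Subgroup.normalizer ((P.subgroupOf H : Subgroup H) : Set H))))
    (hb' : IsPBlock M b')
    (hb'D : IsDefectGroup p M b' ((P.subgroupOf H).subgroupOf
      (Subgroup.normalizer ((P.subgroupOf H : Subgroup H) : Set H))))
    (hb'c : IsInducedBlock M (Subgroup.normalizer ((P.subgroupOf H : Subgroup H) : Set H)) b' c) :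
    (b = fm_tr φ b' → ∀ x : G, x ∈ Subgroup.centralizer (P : Set G) →
        MemLocalIdeal M (blockCoeff B x - subgroupBlockCoeff H c x)) ∧
      ((∀ x : G, x ∈ Subgroup.centralizer (P : Set G) →
        MemLocalIdeal M (blockCoeff B x - subgroupBlockCoeff H c x)) → b = fm_tr φ b') := by
  classical
  haveI : Fintype H := Fintype.ofFinite H
  haveI : Fintype (Subgroup.normalizer (P : Set G)) := Fintype.ofFinite _
  haveI : Fintype (Subgroup.normalizer ((P.subgroupOf H : Subgroup H) : Set H)) :=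
    Fintype.ofFinite _
  have hPH : P ≤ H := le_trans Subgroup.le_normalizer hH
  have hCN := Subgroup.centralizer_le_normalizer (P : Set G)
  have hP' : IsPGroup p (P.subgroupOf H) := hP.comap_subtype
  have hGA := fm_A' hM P hP B hB b hb hbD hbB
  have hHA := fm_A' (G := H) hM (P.subgroupOf H) hP' c hc b' hb' hb'D hb'c
  have hsub : ∀ n' : Subgroup.normalizer ((P.subgroupOf H : Subgroup H) : Set H),
      subgroupBlockCoeff H c (((n' : H) : G)) = blockCoeff c (n' : H) := by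
    intro n'
    unfold subgroupBlockCoeff
    rw [dif_pos (n' : H).2]
  constructor
  · intro hbb x hx
    obtain ⟨n', hn'⟩ : ∃ n', φ n' = ⟨x, hCN hx⟩ := φ.surjective _
    have hxn : ((n' : H) : G) = x := by
      rw [← hφ n', hn']
    have h1 := (hGA ⟨x, hCN hx⟩).1 hx
    have hn'c : (n' : H) ∈ Subgroup.centralizer ((P.subgroupOf H : Subgroup H) : Set H) := by
      rw [fm_cent_iff P H hPH, hxn]; exact hx
    have h2 := (hHA n').1 hn'c
    have h3 : blockCoeff b (⟨x, hCN hx⟩ : Subgroup.normalizer (P : Set G)) = blockCoeff b' n' := by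
      rw [hbb, ← hn', fm_tr_coeff]
    have h4 := memLocalIdeal_sub h1 h2
    rw [h3, sub_sub_sub_cancel_right] at h4
    rw [← hxn, hsub n', hxn]
    exact h4
  · intro hcong
    obtain ⟨ξ₀, rfl⟩ := hb
    obtain ⟨ξ₁, hξ₁⟩ := fm_tr_isPBlock φ b' hb'
    rw [hξ₁]
    apply blockOf_eq_of_sameBlock
    apply fm_sep
    intro n
    rw [← hξ₁]
    obtain ⟨n', hn'⟩ : ∃ n', φ n' = n := φ.surjective _
    have hxn : ((n' : H) : G) = (n : G) := by
      rw [← hφ n', hn']
    have h3 : blockCoeff (fm_tr φ b') n = blockCoeff b' n' := by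
      rw [← hn', fm_tr_coeff]
    rw [h3]
    by_cases hn : (n : G) ∈ Subgroup.centralizer (P : Set G)
    · have h1 := (hGA n).1 hn
      have hn'c : (n' : H) ∈ Subgroup.centralizer ((P.subgroupOf H : Subgroup H) : Set H) := by
        rw [fm_cent_iff P H hPH, hxn]; exact hn
      have h2 := (hHA n').1 hn'c
      have h5 := hcong (n : G) hn
      rw [← hxn, hsub n'] at h5
      rw [← hxn] at h1
      -- e_b(n) - e_b'(n') = -(e_B - e_b) + (e_B - e_c) + (e_c - e_b')
      have h6 := memLocalIdeal_add hMp (memLocalIdeal_add hMp (memLocalIdeal_neg h1) h5) h2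
      have e : -(blockCoeff B (((n' : H) : G)) - blockCoeff (blockOf M
            (ξ₀ : Subgroup.normalizer (P : Set G) → ℂ)) n)
          + (blockCoeff B (((n' : H) : G)) - blockCoeff c (n' : H))
          + (blockCoeff c (n' : H) - blockCoeff b' n')
          = blockCoeff (blockOf M (ξ₀ : Subgroup.normalizer (P : Set G) → ℂ)) n
            - blockCoeff b' n' := by ring
      rw [e] at h6
      exact h6
    · have h1 := (hGA n).2 hn
      have hn'c : (n' : H) ∉ Subgroup.centralizer ((P.subgroupOf H : Subgroup H) : Set H) := by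
        rw [fm_cent_iff P H hPH, hxn]; exact hn
      have h2 := (hHA n').2 hn'c
      exact memLocalIdeal_sub h1 h2

/-- **S4670**: Brauer's first main theorem between `G` and `H ≥ N_G(P)`, idempotent form. -/
theorem fm_main {p : ℕ} [Fact p.Prime] {M : Ideal AlgInt} (hM : IsPModular p M)
    (P H : Subgroup G) (hP : IsPGroup p P) (hH : Subgroup.normalizer (P : Set G) ≤ H) :
    (∀ B : Set (IrrCharacter G), IsPBlock M B → IsDefectGroup p M B P →
      ∃! c : Set (IrrCharacter H), IsPBlock M c ∧ IsDefectGroup p M c (P.subgroupOf H) ∧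
        ∀ x : G, x ∈ Subgroup.centralizer (P : Set G) →
          MemLocalIdeal M (blockCoeff B x - subgroupBlockCoeff H c x)) ∧
    (∀ c : Set (IrrCharacter H), IsPBlock M c → IsDefectGroup p M c (P.subgroupOf H) →
      ∃! B : Set (IrrCharacter G), IsPBlock M B ∧ IsDefectGroup p M B P ∧
        ∀ x : G, x ∈ Subgroup.centralizer (P : Set G) →
          MemLocalIdeal M (blockCoeff B x - subgroupBlockCoeff H c x)) := by
  classical
  have hMp : M.IsPrime := hM.2.1.isPrime
  haveI : Fintype H := Fintype.ofFinite H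
  haveI : Fintype (Subgroup.normalizer (P : Set G)) := Fintype.ofFinite _
  haveI : Fintype (Subgroup.normalizer ((P.subgroupOf H : Subgroup H) : Set H)) :=
    Fintype.ofFinite _
  have hP' : IsPGroup p (P.subgroupOf H) := hP.comap_subtype
  obtain ⟨φ, hφ⟩ := fm_phi P H hH
  have hFG := first_main hM P hP
  have hFH := first_main (G := H) hM (P.subgroupOf H) hP'
  have hmap2 : ((P.subgroupOf H).subgroupOf
      (Subgroup.normalizer ((P.subgroupOf H : Subgroup H) : Set H))).map φ.toMonoidHom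
      = P.subgroupOf (Subgroup.normalizer (P : Set G)) := by
    ext n
    rw [Subgroup.mem_map]
    constructor
    · rintro ⟨n', hn', rfl⟩
      show ((φ n' : Subgroup.normalizer (P : Set G)) : G) ∈ P
      rw [hφ n']
      exact Subgroup.mem_subgroupOf.mp (Subgroup.mem_subgroupOf.mp hn')
    · intro hn
      refine ⟨φ.symm n, ?_, φ.apply_symm_apply n⟩
      show (((φ.symm n : Subgroup.normalizer ((P.subgroupOf H : Subgroup H) : Set H)) : H) : G) ∈ P
      rw [← hφ (φ.symm n), φ.apply_symm_apply]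
      exact Subgroup.mem_subgroupOf.mp hn
  have hmap1 : (P.subgroupOf (Subgroup.normalizer (P : Set G))).map φ.symm.toMonoidHom
      = (P.subgroupOf H).subgroupOf
        (Subgroup.normalizer ((P.subgroupOf H : Subgroup H) : Set H)) := by
    ext n'
    rw [Subgroup.mem_map]
    constructor
    · rintro ⟨n, hn, rfl⟩
      show (((φ.symm n : Subgroup.normalizer ((P.subgroupOf H : Subgroup H) : Set H)) : H) : G) ∈ P
      rw [← hφ (φ.symm n), φ.apply_symm_apply]
      exact Subgroup.mem_subgroupOf.mp hn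
    · intro hn'
      refine ⟨φ n', ?_, φ.symm_apply_apply n'⟩
      show ((φ n' : Subgroup.normalizer (P : Set G)) : G) ∈ P
      rw [hφ n']
      exact Subgroup.mem_subgroupOf.mp (Subgroup.mem_subgroupOf.mp hn')
  constructor
  · intro B hB hBD
    obtain ⟨b, ⟨hb, hbD, hbB⟩, -⟩ := hFG.2 B hB hBD
    have hb' : IsPBlock M (fm_tr φ.symm b) := fm_tr_isPBlock φ.symm b hb
    have hb'D : IsDefectGroup p M (fm_tr φ.symm b) ((P.subgroupOf H).subgroupOf
        (Subgroup.normalizer ((P.subgroupOf H : Subgroup H) : Set H))) := by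
      have h1 := fm_tr_defect φ.symm b _ hbD
      rwa [hmap1] at h1
    obtain ⟨c, hc, hcD, hcb⟩ := hFH.1 _ hb' hb'D
    have hbb : b = fm_tr φ (fm_tr φ.symm b) := (fm_tr_tr' φ b).symm
    refine ⟨c, ⟨hc, hcD,
      (fm_key hM P H hP hH φ hφ B hB c hc b hb hbD hbB _ hb' hb'D hcb).1 hbb⟩, ?_⟩
    rintro c₂ ⟨hc₂, hc₂D, hcong₂⟩
    obtain ⟨b₂', ⟨hb₂', hb₂'D, hb₂'c₂⟩, -⟩ := hFH.2 c₂ hc₂ hc₂D
    have h1 := (fm_key hM P H hP hH φ hφ B hB c₂ hc₂ b hb hbD hbB b₂' hb₂' hb₂'D hb₂'c₂).2 hcong₂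
    have h2 : b₂' = fm_tr φ.symm b := by rw [h1, fm_tr_tr]
    rw [h2] at hb₂'c₂
    exact dc_uniq M _ _ c₂ c hb₂'c₂ hcb
  · intro c hc hcD
    obtain ⟨b', ⟨hb', hb'D, hb'c⟩, -⟩ := hFH.2 c hc hcD
    have hb : IsPBlock M (fm_tr φ b') := fm_tr_isPBlock φ b' hb'
    have hbD : IsDefectGroup p M (fm_tr φ b')
        (P.subgroupOf (Subgroup.normalizer (P : Set G))) := by
      have h1 := fm_tr_defect φ b' _ hb'D
      rwa [hmap2] at h1
    obtain ⟨B, hB, hBD, hbB⟩ := hFG.1 _ hb hbD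
    refine ⟨B, ⟨hB, hBD,
      (fm_key hM P H hP hH φ hφ B hB c hc _ hb hbD hbB b' hb' hb'D hb'c).1 rfl⟩, ?_⟩
    rintro B₂ ⟨hB₂, hB₂D, hcong₂⟩
    obtain ⟨b₂, ⟨hb₂, hb₂D, hb₂B₂⟩, -⟩ := hFG.2 B₂ hB₂ hB₂D
    have h1 := (fm_key hM P H hP hH φ hφ B₂ hB₂ c hc b₂ hb₂ hb₂D hb₂B₂ b' hb' hb'D hb'c).2 hcong₂
    rw [h1] at hb₂B₂
    exact dc_uniq M _ _ B₂ B hb₂B₂ hbB

end Main

end Cfsg.Agent.Helper24
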