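import Mathlib
import Cfsg.Prelude.Def_BrauerPairs
import Cfsg.Agent.Helper24.FMT2
import Cfsg.Agent.Helper24.PrFus
import Cfsg.Agent.Helper5.BlkPair2
import Cfsg.Agent.Helper5.BlkMinMax

/-!
helper24: Brauer pairs, abstract core.  A `p`-group `Γ` acts on a finite group `X` by
automorphisms, with fixed-point subgroup the image of `ι : C →* X`.  The Brauer map followed by a
central character of `C`, on the `Γ`-invariant part of the centre of the group ring of `X`, is
the central character of the unique `Γ`-stable block of `X` on which it does not vanish.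
-/

set_option autoImplicit false

namespace Cfsg.Agent.Helper24

open Cfsg Cfsg.Agent.Helper5 Cfsg.Agent.Helper22

universe u

/-- a sum of an invariant local-integer valued function over an invariant finite set without
fixed points, for an action of a `p`-group, lies in the local ideal. -/
theorem bp_pfix {p : ℕ} [Fact p.Prime] {M : Ideal AlgInt} (hM : IsPModular p M)
    [hMp : M.IsPrime] {Γ : Type*} [Group Γ] (hΓ : IsPGroup p Γ) {α : Type*} [MulAction Γ α]
    (f : α → ℂ) (hf : ∀ (u : Γ) (x : α), f (u • x) = f x) :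
    ∀ (n : ℕ) (X : Finset α), X.card ≤ n → (∀ x ∈ X, MemLocalRing M (f x)) →
      (∀ x ∈ X, ∀ u : Γ, u • x ∈ X) →
      (∀ x ∈ X, ∃ u : Γ, u • x ≠ x) → MemLocalIdeal M (∑ x ∈ X, f x) := by
  classical
  intro n
  induction n with
  | zero =>
    intro X hX _ _ _
    rw [Finset.card_eq_zero.mp (Nat.le_zero.mp hX), Finset.sum_empty]
    exact memLocalIdeal_zero hMp.ne_top
  | succ n ih =>
    intro X hX hloc hinv hfix
    by_cases hXe : X = ∅
    · rw [hXe, Finset.sum_empty]
      exact memLocalIdeal_zero hMp.ne_top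
    obtain ⟨x, hx⟩ := Finset.nonempty_iff_ne_empty.mpr hXe
    have hfin : (MulAction.orbit Γ x).Finite :=
      X.finite_toSet.subset (by
        rintro y ⟨u, rfl⟩
        exact hinv x hx u)
    haveI : Finite (MulAction.orbit Γ x) := hfin.to_subtype
    obtain ⟨O, hOdef⟩ : ∃ O : Finset α, O = hfin.toFinset := ⟨_, rfl⟩
    have hOmem : ∀ y, y ∈ O ↔ ∃ u : Γ, u • x = y := by
      intro y
      rw [hOdef, Set.Finite.mem_toFinset, MulAction.mem_orbit_iff]
    have hOX : O ⊆ X := by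
      intro y hy
      obtain ⟨u, rfl⟩ := (hOmem y).mp hy
      exact hinv x hx u
    have hxO : x ∈ O := (hOmem x).mpr ⟨1, one_smul _ _⟩
    have hOcard : p ∣ O.card := by
      obtain ⟨k, hk⟩ := hΓ.card_orbit (α := α) x
      have h1 : O.card = Nat.card (MulAction.orbit Γ x) := by
        rw [hOdef]
        exact (Nat.card_eq_card_finite_toFinset hfin).symm
      rw [h1, hk]
      rcases Nat.eq_zero_or_pos k with h0 | h0
      · exfalso
        rw [h0, pow_zero] at hk
        rw [← h1] at hk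
        obtain ⟨u, hne⟩ := hfix x hx
        have hyO : u • x ∈ O := (hOmem _).mpr ⟨u, rfl⟩
        exact hne ((Finset.card_le_one.mp hk.le) _ hyO _ hxO)
      · exact dvd_pow_self p (by omega)
    have hsumO : ∑ y ∈ O, f y = (O.card : ℂ) * f x := by
      have hc : ∀ y ∈ O, f y = f x := fun y hy => by
        obtain ⟨u, rfl⟩ := (hOmem y).mp hy
        exact hf u x
      rw [Finset.sum_congr rfl hc, Finset.sum_const, nsmul_eq_mul]
    have hO_mem : MemLocalIdeal M (∑ y ∈ O, f y) := by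
      rw [hsumO]
      obtain ⟨m, hm⟩ := hOcard
      rw [hm, Nat.cast_mul, mul_assoc, mul_comm]
      exact memLocalIdeal_mul_left (by
        have := (locRing M).mul_mem (natCast_memLocalRing (M := M) m) (hloc x hx)
        exact this) (prime_memLocalIdeal hM)
    have hrest : MemLocalIdeal M (∑ y ∈ X \ O, f y) := by
      apply ih
      · have h1 : (X \ O).card < X.card :=
          Finset.card_lt_card (Finset.sdiff_ssubset hOX ⟨x, hxO⟩)
        omega
      · intro y hy
        exact hloc y (Finset.mem_sdiff.mp hy).1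
      · intro y hy u
        rw [Finset.mem_sdiff] at hy ⊢
        refine ⟨hinv y hy.1 u, fun h => hy.2 ?_⟩
        obtain ⟨v, hv⟩ := (hOmem _).mp h
        refine (hOmem y).mpr ⟨u⁻¹ * v, ?_⟩
        rw [mul_smul, hv, inv_smul_smul]
      · intro y hy
        exact hfix y (Finset.mem_sdiff.mp hy).1
    rw [← Finset.sum_sdiff hOX]
    exact memLocalIdeal_add hMp hrest hO_mem

/-- `osima_ideal` relative to a subring of the spectral ring containing the local constants. -/
theorem bp_osima {G : Type u} [Group G] [Fintype G] {M : Ideal AlgInt} [hMp : M.IsPrime]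
    (S : Subring (IrrCharacter G → ℂ)) (hS : ∀ a, a ∈ S → a ∈ specRing M G)
    (hconst : ∀ s : ℂ, MemLocalRing M s → (fun _ : IrrCharacter G => s) ∈ S)
    (J : (IrrCharacter G → ℂ) → Prop) (hJ0 : J 0)
    (hJadd : ∀ a b, J a → J b → J (a + b))
    (hJmul : ∀ a b, J a → b ∈ S → J (a * b))
    (χ₀ : IrrCharacter G) (c' : IrrCharacter G → ℂ) (hc' : J c') (hc'S : c' ∈ S)
    (hunit : ∀ χ : IrrCharacter G, SameBlock M (χ₀ : G → ℂ) (χ : G → ℂ) →
      ¬ MemLocalIdeal M (c' χ))
    (c : IrrCharacter G → ℂ) (hc : c ∈ S)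
    (hcv : ∀ ψ : IrrCharacter G, (SameBlock M (χ₀ : G → ℂ) (ψ : G → ℂ) → c ψ = 1) ∧
      (¬ SameBlock M (χ₀ : G → ℂ) (ψ : G → ℂ) → c ψ = 0)) :
    J c := by
  classical
  have h2 : J (c' * c) := hJmul _ _ hc' hc
  have h2S : c' * c ∈ S := S.mul_mem hc'S hc
  have hinv : ∀ χ : IrrCharacter G, SameBlock M (χ₀ : G → ℂ) (χ : G → ℂ) →
      (fun _ : IrrCharacter G => (c' χ)⁻¹) ∈ S := fun χ hχ =>
    hconst _ (inv_mem_locRing (spec_apply_mem (hS _ hc'S) χ) (hunit χ hχ))
  obtain ⟨w, hw⟩ : ∃ w : IrrCharacter G → IrrCharacter G → ℂ,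
      w = fun χ => 1 - (c' * c) * fun _ => (c' χ)⁻¹ := ⟨_, rfl⟩
  have hwv : ∀ χ ψ : IrrCharacter G, w χ ψ = 1 - c' ψ * c ψ * (c' χ)⁻¹ := by
    intro χ ψ
    rw [hw]
    rfl
  have hwe : ∀ χ : IrrCharacter G, w χ = 1 - (c' * c) * fun _ => (c' χ)⁻¹ := by
    intro χ
    rw [hw]
  have key : ∀ s : Finset (IrrCharacter G),
      (∀ χ ∈ s, SameBlock M (χ₀ : G → ℂ) (χ : G → ℂ)) →
      J (1 - ∏ χ ∈ s, w χ) := by
    intro s
    induction s using Finset.induction_on with
    | empty =>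
      intro _
      rw [Finset.prod_empty, sub_self]
      exact hJ0
    | insert a s ha ih =>
      intro hs
      rw [Finset.prod_insert ha]
      have hprod : ∏ χ ∈ s, w χ ∈ S :=
        Subring.prod_mem _ fun χ hχ => by
          rw [hwe χ]
          exact S.sub_mem S.one_mem
            (S.mul_mem h2S (hinv χ (hs χ (Finset.mem_insert_of_mem hχ))))
      have e : 1 - w a * ∏ χ ∈ s, w χ
          = (1 - ∏ χ ∈ s, w χ)
            + (c' * c) * ((fun _ => (c' a)⁻¹) * ∏ χ ∈ s, w χ) := by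
        rw [hwe a]
        ring
      rw [e]
      exact hJadd _ _ (ih fun χ hχ => hs χ (Finset.mem_insert_of_mem hχ))
        (hJmul _ _ h2 (S.mul_mem
          (hinv a (hs a (Finset.mem_insert_self a s))) hprod))
  have hfin := key (Finset.univ.filter
    (fun χ : IrrCharacter G => SameBlock M (χ₀ : G → ℂ) (χ : G → ℂ)))
    (fun χ hχ => (Finset.mem_filter.mp hχ).2)
  have heq : 1 - ∏ χ ∈ Finset.univ.filter
      (fun χ : IrrCharacter G => SameBlock M (χ₀ : G → ℂ) (χ : G → ℂ)), w χ = c := by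
    funext ψ
    rw [Pi.sub_apply, Pi.one_apply, Finset.prod_apply]
    by_cases hψ : SameBlock M (χ₀ : G → ℂ) (ψ : G → ℂ)
    · have h0 : w ψ ψ = 0 := by
        rw [hwv]
        have hne : c' ψ ≠ 0 := fun h0 => hunit ψ hψ (h0 ▸ memLocalIdeal_zero hMp.ne_top)
        rw [(hcv ψ).1 hψ, mul_one, mul_inv_cancel₀ hne, sub_self]
      rw [(hcv ψ).1 hψ, Finset.prod_eq_zero
        (f := fun χ : IrrCharacter G => w χ ψ)
        (Finset.mem_filter.mpr ⟨Finset.mem_univ _, hψ⟩) h0, sub_zero]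
    · have h1 : ∀ χ ∈ Finset.univ.filter
          (fun χ : IrrCharacter G => SameBlock M (χ₀ : G → ℂ) (χ : G → ℂ)),
          w χ ψ = 1 := by
        intro χ _
        rw [hwv, (hcv ψ).2 hψ, mul_zero, zero_mul, sub_zero]
      rw [(hcv ψ).2 hψ, Finset.prod_eq_one h1, sub_self]
  rw [← heq]
  exact hfin

section Abs

variable {X : Type u} [Group X] [Fintype X] {Γ : Type u} [Group Γ] [MulDistribMulAction Γ X]
  {C : Type u} [Group C] [Fintype C]

/-- the invariant spectral vectors with local-integer class function. -/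
def bp_S (M : Ideal AlgInt) [M.IsPrime] (Γ : Type u) (X : Type u) [Group X] [Fintype X]
    [Group Γ] [MulDistribMulAction Γ X] : Subring (IrrCharacter X → ℂ) where
  carrier := {c | c ∈ specRing M X ∧ ∀ (u : Γ) (x : X), specFun c (u • x) = specFun c x}
  mul_mem' := fun {a b} ha hb => ⟨(specRing M X).mul_mem ha.1 hb.1, fun u x => by
    rw [specFun_mul, specFun_mul,
      ← Equiv.sum_comp (MulAction.toPerm u) (fun h => specFun a h * specFun b (h⁻¹ * (u • x)))]
    refine Finset.sum_congr rfl fun h _ => ?_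
    show specFun a (u • h) * specFun b ((u • h)⁻¹ * (u • x)) = _
    rw [ha.2, ← smul_inv', ← smul_mul', hb.2]⟩
  one_mem' := ⟨(specRing M X).one_mem, fun u x => by
    by_cases hx : x = 1
    · rw [hx, smul_one]
    · rw [specFun_one_ne hx, specFun_one_ne (fun h => hx (by
        have h' := congrArg (fun y => u⁻¹ • y) h
        simpa using h'))]⟩
  add_mem' := fun {a b} ha hb => ⟨(specRing M X).add_mem ha.1 hb.1, fun u x => by
    rw [specFun_add, specFun_add, ha.2, hb.2]⟩
  zero_mem' := ⟨(specRing M X).zero_mem, fun u x => by rw [specFun_zero, specFun_zero]⟩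
  neg_mem' := fun {a} ha => ⟨(specRing M X).neg_mem ha.1, fun u x => by
    rw [specFun_neg, specFun_neg, ha.2]⟩

theorem bp_S_mem {M : Ideal AlgInt} [M.IsPrime] (c : IrrCharacter X → ℂ) :
    c ∈ bp_S M Γ X ↔ c ∈ specRing M X ∧ ∀ (u : Γ) (x : X), specFun c (u • x) = specFun c x :=
  Iff.rfl

theorem bp_specFun_const (s : ℂ) (x : X) :
    specFun (fun _ : IrrCharacter X => s) x = s * specFun (1 : IrrCharacter X → ℂ) x := by
  have h := specFun_smul s (1 : IrrCharacter X → ℂ) x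
  have e : (fun χ : IrrCharacter X => s * (1 : IrrCharacter X → ℂ) χ) = fun _ => s := by
    funext χ
    rw [Pi.one_apply, mul_one]
  rw [e] at h
  exact h

theorem bp_const_mem {M : Ideal AlgInt} [M.IsPrime] (s : ℂ) (hs : MemLocalRing M s) :
    (fun _ : IrrCharacter X => s) ∈ bp_S M Γ X := by
  refine ⟨const_mem_specRing hs, fun u x => ?_⟩
  rw [bp_specFun_const, bp_specFun_const]
  congr 1
  exact (bp_S M Γ X).one_mem.2 u x

/-- the Brauer map followed by the central character of `ξ`, on spectral vectors. -/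
noncomputable def bp_mu (ι : C →* X) (ξ : C → ℂ) (c : IrrCharacter X → ℂ) : ℂ :=
  (ξ 1)⁻¹ * ∑ y : C, specFun c (ι y) * ξ y

theorem bp_mu_add (ι : C →* X) (ξ : C → ℂ) (a b : IrrCharacter X → ℂ) :
    bp_mu ι ξ (a + b) = bp_mu ι ξ a + bp_mu ι ξ b := by
  unfold bp_mu
  rw [← mul_add, ← Finset.sum_add_distrib]
  congr 1
  exact Finset.sum_congr rfl fun y _ => by rw [specFun_add, add_mul]

theorem bp_mu_smul (ι : C →* X) (ξ : C → ℂ) (s : ℂ) (a : IrrCharacter X → ℂ) :
    bp_mu ι ξ (fun χ => s * a χ) = s * bp_mu ι ξ a := by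
  unfold bp_mu
  rw [Finset.sum_congr rfl fun y _ => by rw [specFun_smul s a (ι y), mul_assoc],
    ← Finset.mul_sum]
  ring

theorem bp_mu_zero (ι : C →* X) (ξ : C → ℂ) : bp_mu ι ξ (0 : IrrCharacter X → ℂ) = 0 := by
  unfold bp_mu
  rw [Finset.sum_eq_zero fun y _ => by rw [specFun_zero, zero_mul], mul_zero]

theorem bp_mu_one (ι : C →* X) (hι : Function.Injective ι) (ξ : IrrCharacter C) :
    bp_mu ι (ξ : C → ℂ) (1 : IrrCharacter X → ℂ) = 1 := by
  classical
  unfold bp_mu
  rw [Finset.sum_eq_single (1 : C)]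
  · rw [map_one, specFun_one_one, one_mul]
    exact inv_mul_cancel₀ (Cfsg.Agent.Helper5.irr_one_ne_zero ξ)
  · intro y _ hy
    rw [specFun_one_ne (fun h => hy (hι (by rw [h, map_one]))), zero_mul]
  · intro h
    exact absurd (Finset.mem_univ _) h

theorem bp_res_class (ι : C →* X) (c : IrrCharacter X → ℂ) :
    IsClassFunction C (fun y => specFun c (ι y)) := by
  intro g h
  show specFun c (ι (h * g * h⁻¹)) = specFun c (ι g)
  rw [map_mul, map_mul, map_inv]
  exact specFun_isClassFunction c _ _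

theorem bp_mu_mem {M : Ideal AlgInt} [hMp : M.IsPrime] (ι : C →* X) (ξ : IrrCharacter C)
    (c : IrrCharacter X → ℂ) (hc : c ∈ specRing M X) :
    MemLocalRing M (bp_mu ι (ξ : C → ℂ) c) :=
  classFun_char_mem (fun y => specFun c (ι y)) (bp_res_class ι c) (fun y => hc (ι y)) ξ

/-- multiplicativity of the Brauer map followed by a central character, modulo the local
ideal. -/
theorem bp_mu_mul {p : ℕ} [Fact p.Prime] {M : Ideal AlgInt} (hM : IsPModular p M)
    [hMp : M.IsPrime] (hΓ : IsPGroup p Γ) (ι : C →* X) (hι : Function.Injective ι)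
    (hfix : ∀ x : X, x ∈ Set.range ι ↔ ∀ u : Γ, u • x = x) (ξ : IrrCharacter C)
    (a b : IrrCharacter X → ℂ) (ha : a ∈ bp_S M Γ X) (hb : b ∈ bp_S M Γ X) :
    MemLocalIdeal M (bp_mu ι (ξ : C → ℂ) (a * b)
      - bp_mu ι (ξ : C → ℂ) a * bp_mu ι (ξ : C → ℂ) b) := by
  classical
  obtain ⟨T, hT⟩ : ∃ T : C → ℂ, T = fun y => specFun (a * b) (ι y)
      - ∑ z : C, specFun a (ι z) * specFun b (ι (z⁻¹ * y)) := ⟨_, rfl⟩
  have hTcl : IsClassFunction C T := by
    have h1 := bp_res_class ι (a * b)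
    have h2 := conv_isClassFunction (fun z : C => specFun a (ι z)) (fun z : C => specFun b (ι z))
      (bp_res_class ι a) (bp_res_class ι b)
    intro g h
    have h1' : specFun (a * b) (ι (h * g * h⁻¹)) = specFun (a * b) (ι g) := h1 g h
    have h2' : ∑ z : C, specFun a (ι z) * specFun b (ι (z⁻¹ * (h * g * h⁻¹)))
        = ∑ z : C, specFun a (ι z) * specFun b (ι (z⁻¹ * g)) := h2 g h
    rw [hT]
    show specFun (a * b) (ι (h * g * h⁻¹))
        - ∑ z : C, specFun a (ι z) * specFun b (ι (z⁻¹ * (h * g * h⁻¹)))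
      = specFun (a * b) (ι g) - ∑ z : C, specFun a (ι z) * specFun b (ι (z⁻¹ * g))
    rw [h1', h2']
  have hTval : ∀ y : C, T y = ∑ h ∈ Finset.univ.filter (fun h : X => h ∉ Set.range ι),
      specFun a h * specFun b (h⁻¹ * ι y) := by
    intro y
    rw [hT]
    show specFun (a * b) (ι y) - ∑ z : C, specFun a (ι z) * specFun b (ι (z⁻¹ * y)) = _
    rw [specFun_mul, ← Finset.sum_filter_add_sum_filter_not Finset.univ
      (fun h : X => h ∈ Set.range ι)]
    have e1 : Finset.univ.filter (fun h : X => h ∈ Set.range ι)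
        = (Finset.univ : Finset C).image ι := by
      ext h
      simp
    rw [e1, Finset.sum_image (fun z _ z' _ hzz => hι hzz)]
    have e2 : ∀ z : C, specFun a (ι z) * specFun b ((ι z)⁻¹ * ι y)
        = specFun a (ι z) * specFun b (ι (z⁻¹ * y)) := by
      intro z
      rw [map_mul, map_inv]
    rw [Finset.sum_congr rfl fun z _ => e2 z]
    ring
  have hTloc : ∀ y : C, MemLocalIdeal M (T y) := by
    intro y
    rw [hTval]
    have hyfix : ∀ u : Γ, u • ι y = ι y := (hfix (ι y)).mp ⟨y, rfl⟩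
    refine bp_pfix hM hΓ (fun h : X => specFun a h * specFun b (h⁻¹ * ι y)) ?_ _ _ le_rfl
      ?_ ?_ ?_
    · intro u h
      show specFun a (u • h) * specFun b ((u • h)⁻¹ * ι y) = _
      have e : (u • h)⁻¹ * ι y = u • (h⁻¹ * ι y) := by
        rw [smul_mul', smul_inv', hyfix u]
      rw [e, ha.2, hb.2]
    · intro h _
      exact (locRing M).mul_mem (ha.1 h) (hb.1 _)
    · intro h hh u
      rw [Finset.mem_filter] at hh ⊢
      refine ⟨Finset.mem_univ _, fun hr => hh.2 ?_⟩
      have h1 := (hfix (u • h)).mp hr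
      have h2 : h = u • h := by
        have := h1 u⁻¹
        rw [inv_smul_smul] at this
        exact this
      rw [h2]
      exact hr
    · intro h hh
      by_contra hcon
      push Not at hcon
      exact (Finset.mem_filter.mp hh).2 ((hfix h).mpr hcon)
  have h3 := classFun_char_memIdeal T hTcl hTloc ξ
  have h4 := conv_char_sum (fun z : C => specFun a (ι z)) (fun z : C => specFun b (ι z))
    (bp_res_class ι b) ξ
  have e : bp_mu ι (ξ : C → ℂ) (a * b) - bp_mu ι (ξ : C → ℂ) a * bp_mu ι (ξ : C → ℂ) b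
      = ((ξ : C → ℂ) 1)⁻¹ * ∑ y : C, T y * (ξ : C → ℂ) y := by
    unfold bp_mu
    have e3 : ∑ y : C, T y * (ξ : C → ℂ) y
        = ∑ y : C, specFun (a * b) (ι y) * (ξ : C → ℂ) y
          - ∑ y : C, (∑ z : C, specFun a (ι z) * specFun b (ι (z⁻¹ * y))) * (ξ : C → ℂ) y := by
      rw [← Finset.sum_sub_distrib]
      refine Finset.sum_congr rfl fun y _ => ?_
      rw [hT]
      ring
    rw [e3, h4]
    ring
  rw [e]
  exact h3

/-- the core statement: on invariant spectral vectors the Brauer map followed by the central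
character of `ξ` is the central character of the stable block on which it does not vanish. -/
theorem bp_star {p : ℕ} [Fact p.Prime] {M : Ideal AlgInt} (hM : IsPModular p M)
    [hMp : M.IsPrime] (hΓ : IsPGroup p Γ) (ι : C →* X) (hι : Function.Injective ι)
    (hfix : ∀ x : X, x ∈ Set.range ι ↔ ∀ u : Γ, u • x = x) (ξ : IrrCharacter C)
    (η₀ : IrrCharacter X) (cf : IrrCharacter X → ℂ) (hcf : cf ∈ bp_S M Γ X)
    (hcv : ∀ ψ : IrrCharacter X, (SameBlock M (η₀ : X → ℂ) (ψ : X → ℂ) → cf ψ = 1) ∧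
      (¬ SameBlock M (η₀ : X → ℂ) (ψ : X → ℂ) → cf ψ = 0))
    (h1 : MemLocalIdeal M (bp_mu ι (ξ : C → ℂ) cf - 1))
    (c : IrrCharacter X → ℂ) (hc : c ∈ bp_S M Γ X) :
    MemLocalIdeal M (bp_mu ι (ξ : C → ℂ) c - c η₀) := by
  classical
  by_contra hne
  have hsR : MemLocalRing M (c η₀) := spec_apply_mem hc.1 η₀
  obtain ⟨c₁, hc₁⟩ : ∃ c₁ : IrrCharacter X → ℂ, c₁ = c + fun χ => (-1) * (c η₀) := ⟨_, rfl⟩
  have hc₁S : c₁ ∈ bp_S M Γ X := by
    rw [hc₁]
    refine (bp_S M Γ X).add_mem hc ?_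
    have h := bp_const_mem (M := M) (Γ := Γ) (X := X) ((-1) * (c η₀))
      ((locRing M).mul_mem ((locRing M).neg_mem (locRing M).one_mem) hsR)
    exact h
  have hμ₁ : bp_mu ι (ξ : C → ℂ) c₁ = bp_mu ι (ξ : C → ℂ) c - c η₀ := by
    rw [hc₁, bp_mu_add]
    have h := bp_mu_smul ι (ξ : C → ℂ) ((-1) * (c η₀)) (1 : IrrCharacter X → ℂ)
    have e : (fun χ : IrrCharacter X => (-1) * (c η₀) * (1 : IrrCharacter X → ℂ) χ)
        = fun χ => (-1) * (c η₀) := by
      funext χ
      rw [Pi.one_apply, mul_one]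
    rw [e, bp_mu_one ι hι ξ] at h
    rw [h]
    ring
  obtain ⟨v, hv⟩ : ∃ v : ℂ, v = bp_mu ι (ξ : C → ℂ) c₁ := ⟨_, rfl⟩
  have hvR : MemLocalRing M v := by
    rw [hv]
    exact bp_mu_mem ι ξ c₁ hc₁S.1
  have hvU : ¬ MemLocalIdeal M v := by
    rw [hv, hμ₁]
    exact hne
  have hv0 : v ≠ 0 := fun h0 => hvU (h0 ▸ memLocalIdeal_zero hMp.ne_top)
  have hviR : MemLocalRing M v⁻¹ := inv_mem_locRing hvR hvU
  obtain ⟨c', hc'⟩ : ∃ c' : IrrCharacter X → ℂ, c' = 1 + fun χ => (-v⁻¹) * c₁ χ := ⟨_, rfl⟩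
  have hc'S : c' ∈ bp_S M Γ X := by
    rw [hc']
    refine (bp_S M Γ X).add_mem (bp_S M Γ X).one_mem ?_
    have h := (bp_S M Γ X).mul_mem (bp_const_mem (M := M) (Γ := Γ) (X := X) (-v⁻¹)
      ((locRing M).neg_mem hviR)) hc₁S
    exact h
  have hμ' : bp_mu ι (ξ : C → ℂ) c' = 0 := by
    rw [hc', bp_mu_add, bp_mu_one ι hι ξ, bp_mu_smul, ← hv]
    field_simp
    ring
  have hunit : ∀ χ : IrrCharacter X, SameBlock M (η₀ : X → ℂ) (χ : X → ℂ) →
      ¬ MemLocalIdeal M (c' χ) := by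
    intro χ hχ hmem
    have h2 : MemLocalIdeal M (c χ - c η₀) := spec_congr hc.1 (sameBlock_symm hχ)
    have h3 : c' χ = 1 + (-v⁻¹) * (c χ - c η₀) := by
      rw [hc', hc₁]
      show 1 + (-v⁻¹) * (c χ + (-1) * c η₀) = _
      ring
    have h4 := memLocalIdeal_mul_left ((locRing M).neg_mem hviR) h2
    have h5 := memLocalIdeal_sub hmem h4
    rw [h3, add_sub_cancel_right] at h5
    exact not_memLocalIdeal_one h5
  have hJ := bp_osima (bp_S M Γ X) (fun a ha => ha.1)
    (fun s hs => bp_const_mem (M := M) (Γ := Γ) (X := X) s hs)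
    (fun a => a ∈ bp_S M Γ X ∧ MemLocalIdeal M (bp_mu ι (ξ : C → ℂ) a))
    ⟨(bp_S M Γ X).zero_mem, by rw [bp_mu_zero]; exact memLocalIdeal_zero hMp.ne_top⟩
    (fun a b ha hb => ⟨(bp_S M Γ X).add_mem ha.1 hb.1, by
      rw [bp_mu_add]; exact memLocalIdeal_add hMp ha.2 hb.2⟩)
    (fun a b ha hb => ⟨(bp_S M Γ X).mul_mem ha.1 hb, by
      have h2 := bp_mu_mul hM hΓ ι hι hfix ξ a b ha.1 hb
      have h3 := memLocalIdeal_mul_left (bp_mu_mem ι ξ b hb.1) ha.2
      have h4 := memLocalIdeal_add hMp h2 h3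
      have e : bp_mu ι (ξ : C → ℂ) (a * b)
          - bp_mu ι (ξ : C → ℂ) a * bp_mu ι (ξ : C → ℂ) b
          + bp_mu ι (ξ : C → ℂ) b * bp_mu ι (ξ : C → ℂ) a = bp_mu ι (ξ : C → ℂ) (a * b) := by
        ring
      rwa [e] at h4⟩)
    η₀ c' ⟨hc'S, by rw [hμ']; exact memLocalIdeal_zero hMp.ne_top⟩ hc'S hunit cf hcf hcv
  have h6 := memLocalIdeal_sub hJ.2 h1
  rw [sub_sub_cancel] at h6
  exact not_memLocalIdeal_one h6

end Abs

end Cfsg.Agent.Helper24
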