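import Mathlib
import Cfsg.Agent.Helper24.BP1

/-!
helper24: Brauer pairs, the concrete core statement for a `p`-subgroup `P` normalizing a
subgroup `K ≥ C_G(P)`.
-/

set_option autoImplicit false

namespace Cfsg.Agent.Helper24

open Cfsg Cfsg.Agent.Helper5 Cfsg.Agent.Helper22

universe u

variable {G : Type u} [Group G]

/-- the conjugation action of a subgroup on a subgroup it normalizes. -/
@[instance_reducible]
def bp_mda (P K : Subgroup G) (hN : P ≤ Subgroup.normalizer (K : Set G)) :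
    MulDistribMulAction P K where
  smul u k := ⟨(u : G) * k * (u : G)⁻¹, (Subgroup.mem_normalizer_iff.mp (hN u.2) k).mp k.2⟩
  one_smul k := Subtype.ext (by
    show ((1 : P) : G) * (k : G) * ((1 : P) : G)⁻¹ = k
    simp)
  mul_smul u v k := Subtype.ext (by
    show ((u * v : P) : G) * (k : G) * ((u * v : P) : G)⁻¹
      = (u : G) * ((v : G) * k * (v : G)⁻¹) * (u : G)⁻¹
    simp [mul_assoc])
  smul_mul u k k' := Subtype.ext (by
    show (u : G) * ((k * k' : K) : G) * (u : G)⁻¹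
      = ((u : G) * k * (u : G)⁻¹) * ((u : G) * k' * (u : G)⁻¹)
    simp [mul_assoc])
  smul_one u := Subtype.ext (by
    show (u : G) * ((1 : K) : G) * (u : G)⁻¹ = ((1 : K) : G)
    simp)

theorem bp_mda_coe (P K : Subgroup G) (hN : P ≤ Subgroup.normalizer (K : Set G)) (u : P)
    (k : K) : (((bp_mda P K hN).smul u k : K) : G) = (u : G) * k * (u : G)⁻¹ := rfl

theorem bp_norm_inv (K : Subgroup G) (u : G) (hu : u ∈ Subgroup.normalizer (K : Set G))
    (g : G) (hg : g ∈ K) : u⁻¹ * g * u ∈ K := by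
  have := (Subgroup.mem_normalizer_iff.mp (inv_mem hu) g).mp hg
  simpa using this

/-- the block idempotent coefficients of a stable set of characters are invariant. -/
theorem bp_stab_coeff (K : Subgroup G) (f : Set (IrrCharacter K)) (u : G)
    (h1 : StabilizesBlock K f u) (h2 : StabilizesBlock K f u⁻¹) (k : G) (hk : k ∈ K)
    (hk' : u * k * u⁻¹ ∈ K) :
    blockCoeff f ⟨u * k * u⁻¹, hk'⟩ = blockCoeff f ⟨k, hk⟩ := by
  obtain ⟨φ, hφ⟩ : ∃ φ : ↥K ≃* ↥K, φ = conjEquiv K u
      (fun g hg => (Subgroup.mem_normalizer_iff.mp h1.1 g).mp hg)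
      (fun g hg => bp_norm_inv K u h1.1 g hg) := ⟨_, rfl⟩
  have hφv : ∀ a : K, ((φ a : K) : G) = u * a * u⁻¹ := by
    intro a
    rw [hφ]
    rfl
  have hfix : fm_tr φ f = f := by
    ext χ
    rw [fm_tr_mem]
    constructor
    · intro hmem
      obtain ⟨χ', hχ', hc⟩ := h1.2 _ hmem
      have e : χ' = χ := by
        apply Subtype.ext
        funext k'
        have h3 := hc (φ.symm k') k' (by
          rw [← hφv, φ.apply_symm_apply])
        rw [h3]
        show (χ : K → ℂ) (φ (φ.symm k')) = _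
        rw [φ.apply_symm_apply]
      rw [← e]
      exact hχ'
    · intro hmem
      obtain ⟨χ', hχ', hc⟩ := h2.2 _ hmem
      have e : (⟨fun a => (χ : K → ℂ) (φ a), isIrrCharacter_comp_mulEquiv φ χ.2⟩ :
          IrrCharacter K) = χ' := by
        apply Subtype.ext
        funext a
        have h3 := hc (φ a) a (by
          rw [hφv]
          group)
        rw [h3]
      rw [e]
      exact hχ'
  have h3 := fm_tr_coeff φ f ⟨k, hk⟩
  rw [hfix] at h3
  have e : φ ⟨k, hk⟩ = ⟨u * k * u⁻¹, hk'⟩ := Subtype.ext (hφv _)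
  rw [e] at h3
  exact h3

theorem bp_coeff_class [Finite G] (B : Set (IrrCharacter G)) (g h : G) :
    blockCoeff B (h * g * h⁻¹) = blockCoeff B g := by
  classical
  haveI : Fintype G := Fintype.ofFinite G
  obtain ⟨c, hcdef⟩ : ∃ c : IrrCharacter G → ℂ, c = fun ψ => if ψ ∈ B then 1 else 0 :=
    ⟨_, rfl⟩
  have hc1 : ∀ ψ ∈ B, c ψ = 1 := fun ψ hψ => by rw [hcdef]; exact if_pos hψ
  have hc0 : ∀ ψ, ψ ∉ B → c ψ = 0 := fun ψ hψ => by rw [hcdef]; exact if_neg hψ
  rw [blockCoeff_eq_specFun B c hc1 hc0, blockCoeff_eq_specFun B c hc1 hc0]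
  exact specFun_isClassFunction c g h

variable [Fintype G]

/-- the core statement, concretely: for a `p`-subgroup `P` normalizing `K ≥ C_G(P)`, a
`P`-stable block `f` of `K` occurring in the Brauer-map image at `P` below `ξ`, and a `P`-invariant
local-integer valued class function `F` of `K`, the central character of `ξ` at the truncation
of `F` is congruent to the central character of `f` at `F`. -/
theorem bp_star' {p : ℕ} [Fact p.Prime] {M : Ideal AlgInt} (hM : IsPModular p M)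
    [hMp : M.IsPrime] (P K : Subgroup G) (hP : IsPGroup p P)
    (hN : P ≤ Subgroup.normalizer (K : Set G)) (hCK : Subgroup.centralizer (P : Set G) ≤ K)
    (ξ : IrrCharacter (Subgroup.centralizer (P : Set G))) (η₀ : IrrCharacter K)
    (hstab : ∀ u ∈ P, ∀ (k : G) (hk : k ∈ K) (hk' : u * k * u⁻¹ ∈ K),
      blockCoeff (blockOf M (η₀ : K → ℂ)) ⟨u * k * u⁻¹, hk'⟩
        = blockCoeff (blockOf M (η₀ : K → ℂ)) ⟨k, hk⟩)
    (h1 : MemLocalIdeal M (brauerOmega P (subgroupBlockCoeff K (blockOf M (η₀ : K → ℂ)))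
      (ξ : Subgroup.centralizer (P : Set G) → ℂ) - 1))
    (F : G → ℂ) (hFcl : ∀ k k' : G, k ∈ K → k' ∈ K → F (k' * k * k'⁻¹) = F k)
    (hFP : ∀ u ∈ P, ∀ k ∈ K, F (u * k * u⁻¹) = F k)
    (hFR : ∀ k ∈ K, MemLocalRing M (F k)) :
    MemLocalIdeal M (brauerOmega P F (ξ : Subgroup.centralizer (P : Set G) → ℂ)
      - ∑ᶠ k : K, F k * (η₀ : K → ℂ) k / (η₀ : K → ℂ) 1) := by
  classical
  haveI : Fintype K := Fintype.ofFinite _
  haveI : Fintype (Subgroup.centralizer (P : Set G)) := Fintype.ofFinite _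
  letI := bp_mda P K hN
  have hsm : ∀ (u : P) (k : K), ((u • k : K) : G) = (u : G) * k * (u : G)⁻¹ := fun u k => rfl
  obtain ⟨ι, hιdef⟩ : ∃ ι : ↥(Subgroup.centralizer (P : Set G)) →* ↥K,
      ι = Subgroup.inclusion hCK := ⟨_, rfl⟩
  have hιv : ∀ y, ((ι y : K) : G) = (y : G) := by
    intro y
    rw [hιdef]
    rfl
  have hι : Function.Injective ι := by
    rw [hιdef]
    exact Subgroup.inclusion_injective hCK
  have hfix : ∀ x : K, x ∈ Set.range ι ↔ ∀ u : P, u • x = x := by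
    intro x
    constructor
    · rintro ⟨y, rfl⟩ u
      apply Subtype.ext
      rw [hsm, hιv]
      have h2 := (Subgroup.mem_centralizer_iff.mp y.2) (u : G) u.2
      rw [h2]
      group
    · intro hx
      have hxC : (x : G) ∈ Subgroup.centralizer (P : Set G) := by
        rw [Subgroup.mem_centralizer_iff]
        intro h hh
        have h2 := congrArg Subtype.val (hx ⟨h, hh⟩)
        rw [hsm] at h2
        have h3 : h * (x : G) = (h * (x : G) * h⁻¹) * h := by group
        rw [h3]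
        exact congrArg (· * h) h2
      exact ⟨⟨(x : G), hxC⟩, Subtype.ext (hιv _)⟩
  obtain ⟨cf, hcfS, hcv⟩ := osima (M := M) η₀
  have hβ : ∀ g : K, blockCoeff (blockOf M (η₀ : K → ℂ)) g = specFun cf g :=
    blockCoeff_eq_specFun (blockOf M (η₀ : K → ℂ)) cf (fun ψ hψ => (hcv ψ).1 hψ)
      (fun ψ hψ => (hcv ψ).2 hψ)
  have hcf : cf ∈ bp_S M ↥P ↥K := by
    refine ⟨hcfS, fun u x => ?_⟩
    rw [← hβ, ← hβ]
    have hk' : (u : G) * (x : G) * (u : G)⁻¹ ∈ K := (u • x).2
    have h2 := hstab (u : G) u.2 (x : G) x.2 hk'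
    exact h2
  have hμcf : bp_mu ι (ξ : Subgroup.centralizer (P : Set G) → ℂ) cf
      = brauerOmega P (subgroupBlockCoeff K (blockOf M (η₀ : K → ℂ)))
        (ξ : Subgroup.centralizer (P : Set G) → ℂ) := by
    unfold bp_mu brauerOmega
    rw [finsum_eq_sum_of_fintype, Finset.mul_sum]
    refine Finset.sum_congr rfl fun y _ => ?_
    have e : subgroupBlockCoeff K (blockOf M (η₀ : K → ℂ)) (y : G) = specFun cf (ι y) := by
      unfold subgroupBlockCoeff
      rw [dif_pos (hCK y.2), ← hβ]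
      congr 1
      exact Subtype.ext (hιv y).symm
    rw [e]
    ring
  obtain ⟨c, hcdef⟩ : ∃ c : IrrCharacter K → ℂ, c = fun χ : IrrCharacter K =>
      ((χ : K → ℂ) 1)⁻¹ * ∑ h : K, F (h : G) * (χ : K → ℂ) h := ⟨_, rfl⟩
  have hFK : IsClassFunction K (fun k : K => F (k : G)) := by
    intro g h
    exact hFcl (g : G) (h : G) g.2 h.2
  have hspec : ∀ k : K, specFun c k = F (k : G) := by
    intro k
    have h2 := specFun_cvec (fun k : K => F (k : G)) hFK
    rw [hcdef]
    exact congrFun h2 k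
  have hc : c ∈ bp_S M ↥P ↥K := by
    refine ⟨fun g => ?_, fun u x => ?_⟩
    · rw [hspec]
      exact hFR _ g.2
    · rw [hspec, hspec, hsm]
      exact hFP (u : G) u.2 (x : G) x.2
  have hmain := bp_star hM (show IsPGroup p ↥P from hP) ι hι hfix ξ η₀ cf hcf hcv
    (by rw [hμcf]; exact h1) c hc
  have e1 : bp_mu ι (ξ : Subgroup.centralizer (P : Set G) → ℂ) c
      = brauerOmega P F (ξ : Subgroup.centralizer (P : Set G) → ℂ) := by
    unfold bp_mu brauerOmega
    rw [finsum_eq_sum_of_fintype, Finset.mul_sum]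
    refine Finset.sum_congr rfl fun y _ => ?_
    rw [hspec, hιv]
    ring
  have e2 : c η₀ = ∑ᶠ k : K, F k * (η₀ : K → ℂ) k / (η₀ : K → ℂ) 1 := by
    rw [hcdef, finsum_eq_sum_of_fintype]
    show ((η₀ : K → ℂ) 1)⁻¹ * ∑ h : K, F (h : G) * (η₀ : K → ℂ) h = _
    rw [Finset.mul_sum]
    refine Finset.sum_congr rfl fun y _ => ?_
    ring
  rw [e1, e2] at hmain
  exact hmain

/-- a normal step between Brauer pairs preserves the block of `G` the pairs belong to. -/
theorem bp_normal_omega {p : ℕ} [Fact p.Prime] {M : Ideal AlgInt} (hM : IsPModular p M)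
    [hMp : M.IsPrime] (P Q : Subgroup G)
    (e : Set (IrrCharacter (Subgroup.centralizer (P : Set G))))
    (f : Set (IrrCharacter (Subgroup.centralizer (Q : Set G))))
    (h : IsNormalSubpair p M Q f P e) (F : G → ℂ)
    (hFcl : ∀ k k' : G, k ∈ Subgroup.centralizer (Q : Set G) →
      k' ∈ Subgroup.centralizer (Q : Set G) → F (k' * k * k'⁻¹) = F k)
    (hFP : ∀ u ∈ P, ∀ k ∈ Subgroup.centralizer (Q : Set G), F (u * k * u⁻¹) = F k)
    (hFR : ∀ k ∈ Subgroup.centralizer (Q : Set G), MemLocalRing M (F k))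
    (ξ : IrrCharacter (Subgroup.centralizer (P : Set G))) (hξ : ξ ∈ e)
    (η : IrrCharacter (Subgroup.centralizer (Q : Set G))) (hη : η ∈ f) :
    MemLocalIdeal M (brauerOmega P F (ξ : Subgroup.centralizer (P : Set G) → ℂ)
      - brauerOmega Q F (η : Subgroup.centralizer (Q : Set G) → ℂ)) := by
  obtain ⟨⟨hQ, η₀, rfl⟩, ⟨hP, hPe⟩, hQP, hPN, hst, hbr⟩ := h
  have hfeq : blockOf M (η₀ : Subgroup.centralizer (Q : Set G) → ℂ)
      = blockOf M (η : Subgroup.centralizer (Q : Set G) → ℂ) := blockOf_eq_of_sameBlock hη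
  rw [hfeq] at hst hbr
  have hN : P ≤ Subgroup.normalizer ((Subgroup.centralizer (Q : Set G) : Subgroup G) : Set G) :=
    fun u hu => pf_norm_cent Q u (hPN hu)
  have hCK : Subgroup.centralizer (P : Set G) ≤ Subgroup.centralizer (Q : Set G) :=
    Subgroup.centralizer_le hQP
  exact bp_star' hM P (Subgroup.centralizer (Q : Set G)) hP hN hCK ξ η
    (fun u hu k hk hk' => bp_stab_coeff _ _ u (hst u hu) (hst u⁻¹ (P.inv_mem hu)) k hk hk')
    (hbr ξ hξ) F hFcl hFP hFR

theorem bp_of_normal {p : ℕ} [Fact p.Prime] {M : Ideal AlgInt} (hM : IsPModular p M)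
    [hMp : M.IsPrime] (P Q : Subgroup G)
    (e : Set (IrrCharacter (Subgroup.centralizer (P : Set G))))
    (f : Set (IrrCharacter (Subgroup.centralizer (Q : Set G))))
    (h : IsNormalSubpair p M Q f P e) (B : Set (IrrCharacter G)) (hB : IsPBlock M B) :
    IsBrauerPairOf p M B P e ↔ IsBrauerPairOf p M B Q f := by
  have key : ∀ ξ ∈ e, ∀ η ∈ f, MemLocalIdeal M
      (brauerOmega P (blockCoeff B) (ξ : Subgroup.centralizer (P : Set G) → ℂ)
        - brauerOmega Q (blockCoeff B) (η : Subgroup.centralizer (Q : Set G) → ℂ)) := by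
    intro ξ hξ η hη
    obtain ⟨χ₀, rfl⟩ := hB
    exact bp_normal_omega hM P Q e f h _ (fun k k' _ _ => bp_coeff_class _ k k')
      (fun u _ k _ => bp_coeff_class _ k u) (fun k _ => blockCoeff_memLocalRing χ₀ k) ξ hξ η hη
  haveI : Fintype (Subgroup.centralizer (P : Set G)) := Fintype.ofFinite _
  haveI : Fintype (Subgroup.centralizer (Q : Set G)) := Fintype.ofFinite _
  obtain ⟨ξ₀, hξ₀⟩ : ∃ ξ₀, ξ₀ ∈ e := by
    obtain ⟨ξ₀, rfl⟩ := h.2.1.2
    exact ⟨ξ₀, sameBlock_refl _⟩
  obtain ⟨η₀, hη₀⟩ : ∃ η₀, η₀ ∈ f := by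
    obtain ⟨η₀, rfl⟩ := h.1.2
    exact ⟨η₀, sameBlock_refl _⟩
  constructor
  · rintro ⟨-, -, hbr⟩
    refine ⟨h.1, hB, fun η hη => ?_⟩
    have h2 := memLocalIdeal_sub (hbr ξ₀ hξ₀) (key ξ₀ hξ₀ η hη)
    have e1 : brauerOmega P (blockCoeff B) (ξ₀ : Subgroup.centralizer (P : Set G) → ℂ) - 1
        - (brauerOmega P (blockCoeff B) (ξ₀ : Subgroup.centralizer (P : Set G) → ℂ)
          - brauerOmega Q (blockCoeff B) (η : Subgroup.centralizer (Q : Set G) → ℂ))
        = brauerOmega Q (blockCoeff B) (η : Subgroup.centralizer (Q : Set G) → ℂ) - 1 := by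
      ring
    rwa [e1] at h2
  · rintro ⟨-, -, hbr⟩
    refine ⟨h.2.1, hB, fun ξ hξ => ?_⟩
    have h2 := memLocalIdeal_add hMp (hbr η₀ hη₀) (key ξ hξ η₀ hη₀)
    have e1 : brauerOmega Q (blockCoeff B) (η₀ : Subgroup.centralizer (Q : Set G) → ℂ) - 1
        + (brauerOmega P (blockCoeff B) (ξ : Subgroup.centralizer (P : Set G) → ℂ)
          - brauerOmega Q (blockCoeff B) (η₀ : Subgroup.centralizer (Q : Set G) → ℂ))
        = brauerOmega P (blockCoeff B) (ξ : Subgroup.centralizer (P : Set G) → ℂ) - 1 := by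
      ring
    rwa [e1] at h2

theorem bp_of_le {p : ℕ} [Fact p.Prime] {M : Ideal AlgInt} (hM : IsPModular p M)
    [hMp : M.IsPrime] (B : Set (IrrCharacter G)) (hB : IsPBlock M B) (a b : BrauerPairIdx G)
    (h : Relation.ReflTransGen (NormalSubpairRel p M) a b) :
    IsBrauerPairOf p M B b.1 b.2 ↔ IsBrauerPairOf p M B a.1 a.2 := by
  induction h with
  | refl => exact Iff.rfl
  | tail _ hbc ih => exact (bp_of_normal hM _ _ _ _ hbc B hB).trans ih

end Cfsg.Agent.Helper24
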