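import Mathlib
import Cfsg.Agent.Helper24.BP2

/-!
helper24: Brauer pairs: existence and uniqueness of the normal subpair on a normal subgroup.
-/

set_option autoImplicit false

namespace Cfsg.Agent.Helper24

open Cfsg Cfsg.Agent.Helper5 Cfsg.Agent.Helper22

open scoped Pointwise

universe u

section Abs

variable {X : Type u} [Group X] [Fintype X] {Γ : Type u} [Group Γ] [MulDistribMulAction Γ X]
  {C : Type u} [Group C] [Fintype C]

/-- the action on irreducible characters. -/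
noncomputable def bp_tw (u : Γ) (η : IrrCharacter X) : IrrCharacter X :=
  ⟨fun x => (η : X → ℂ) (u⁻¹ • x),
    isIrrCharacter_comp_mulEquiv (MulDistribMulAction.toMulEquiv X u⁻¹) η.2⟩

/-- the action on irreducible characters, as a `MulAction`. -/
@[instance_reducible]
noncomputable def bp_irrAct (Γ : Type u) (X : Type u) [Group X] [Fintype X] [Group Γ]
    [MulDistribMulAction Γ X] : MulAction Γ (IrrCharacter X) where
  smul u η := bp_tw u η
  one_smul η := Subtype.ext (funext fun x => by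
    show (η : X → ℂ) ((1 : Γ)⁻¹ • x) = (η : X → ℂ) x
    rw [inv_one, one_smul])
  mul_smul u v η := Subtype.ext (funext fun x => by
    show (η : X → ℂ) ((u * v)⁻¹ • x) = (η : X → ℂ) (v⁻¹ • u⁻¹ • x)
    rw [mul_inv_rev, mul_smul])

theorem bp_mu_sum (ι : C →* X) (ξ : C → ℂ) {β : Type*} (T : Finset β)
    (a : β → IrrCharacter X → ℂ) :
    bp_mu ι ξ (∑ s ∈ T, a s) = ∑ s ∈ T, bp_mu ι ξ (a s) := by
  classical
  induction T using Finset.induction_on with
  | empty => rw [Finset.sum_empty, Finset.sum_empty, bp_mu_zero]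
  | insert b T hb ih => rw [Finset.sum_insert hb, Finset.sum_insert hb, bp_mu_add, ih]

/-- existence of a stable block on which the Brauer map followed by the central characters of
a given block does not vanish. -/
theorem bp_exists {p : ℕ} [Fact p.Prime] {M : Ideal AlgInt} (hM : IsPModular p M)
    [hMp : M.IsPrime] (hΓ : IsPGroup p Γ) (ι : C →* X) (hι : Function.Injective ι)
    (hfix : ∀ x : X, x ∈ Set.range ι ↔ ∀ u : Γ, u • x = x) (ξ : IrrCharacter C) :
    ∃ η₀ : IrrCharacter X,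
      (∀ (u : Γ) (χ : IrrCharacter X), χ ∈ blockOf M (η₀ : X → ℂ) →
        bp_tw u χ ∈ blockOf M (η₀ : X → ℂ)) ∧
      ∃ cf : IrrCharacter X → ℂ, cf ∈ specRing M X ∧
        (∀ ψ : IrrCharacter X, (SameBlock M (η₀ : X → ℂ) (ψ : X → ℂ) → cf ψ = 1) ∧
          (¬ SameBlock M (η₀ : X → ℂ) (ψ : X → ℂ) → cf ψ = 0)) ∧
        ∀ ξ' : IrrCharacter C, SameBlock M (ξ : C → ℂ) (ξ' : C → ℂ) →
          MemLocalIdeal M (bp_mu ι (ξ' : C → ℂ) cf - 1) := by
  classical
  letI : MulAction Γ (IrrCharacter X) := bp_irrAct Γ X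
  have hsm : ∀ (u : Γ) (η : IrrCharacter X) (x : X),
      ((u • η : IrrCharacter X) : X → ℂ) x = (η : X → ℂ) (u⁻¹ • x) := fun _ _ _ => rfl
  have hcc : ∀ (u : Γ) (η : IrrCharacter X) (g : X),
      centralChar ((u • η : IrrCharacter X) : X → ℂ) g = centralChar (η : X → ℂ) (u⁻¹ • g) :=
    fun u η g => fm_cc (MulDistribMulAction.toMulEquiv X u⁻¹) (η : X → ℂ) g
  obtain ⟨ind, hind⟩ : ∃ ind : Set (IrrCharacter X) → IrrCharacter X → ℂ,
      ind = fun s ψ => if ψ ∈ s then 1 else 0 := ⟨_, rfl⟩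
  have hindv : ∀ s ψ, ind s ψ = if ψ ∈ s then 1 else 0 := by
    intro s ψ
    rw [hind]
  have htw : ∀ (u : Γ) (s : Set (IrrCharacter X)) (x : X),
      specFun (ind (u • s)) x = specFun (ind s) (u⁻¹ • x) := by
    intro u s x
    unfold specFun
    congr 1
    rw [← Equiv.sum_comp (MulAction.toPerm u) (fun ψ : IrrCharacter X =>
      ind (u • s) ψ * ((ψ : X → ℂ) 1 * starRingEnd ℂ ((ψ : X → ℂ) x)))]
    refine Finset.sum_congr rfl fun χ _ => ?_
    show ind (u • s) (u • χ) * (((u • χ : IrrCharacter X) : X → ℂ) 1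
      * starRingEnd ℂ (((u • χ : IrrCharacter X) : X → ℂ) x)) = _
    rw [hsm, hsm, smul_one, hindv, hindv]
    congr 1
    exact if_congr Set.smul_mem_smul_set_iff rfl rfl
  have hblk : ∀ (u : Γ) (η : IrrCharacter X),
      u • blockOf M (η : X → ℂ) = blockOf M ((u • η : IrrCharacter X) : X → ℂ) := by
    intro u η
    ext ψ
    rw [Set.mem_smul_set_iff_inv_smul_mem]
    constructor
    · intro h g
      have h1 := h (u⁻¹ • g)
      rw [hcc u⁻¹ ψ, inv_inv, smul_inv_smul] at h1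
      rw [hcc u η]
      exact h1
    · intro h g
      have h1 := h (u • g)
      rw [hcc u η, inv_smul_smul] at h1
      rw [hcc u⁻¹ ψ, inv_inv]
      exact h1
  have hindS : ∀ η : IrrCharacter X, ind (blockOf M (η : X → ℂ)) ∈ specRing M X := by
    intro η
    obtain ⟨c, hc, hcv⟩ := osima (M := M) η
    have e : ind (blockOf M (η : X → ℂ)) = c := by
      funext ψ
      rw [hindv]
      by_cases hψ : SameBlock M (η : X → ℂ) (ψ : X → ℂ)
      · rw [(hcv ψ).1 hψ]
        exact if_pos hψ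
      · rw [(hcv ψ).2 hψ]
        exact if_neg hψ
    rw [e]
    exact hc
  obtain ⟨Ω, hΩ⟩ : ∃ Ω : Finset (Set (IrrCharacter X)),
      Ω = Finset.univ.filter (fun s : Set (IrrCharacter X) => IsPBlock M s) := ⟨_, rfl⟩
  have hΩmem : ∀ s, s ∈ Ω ↔ IsPBlock M s := by
    intro s
    rw [hΩ, Finset.mem_filter]
    exact ⟨fun h => h.2, fun h => ⟨Finset.mem_univ _, h⟩⟩
  have hone : (∑ s ∈ Ω, ind s) = 1 := by
    funext ψ
    rw [Finset.sum_apply, Pi.one_apply, Finset.sum_eq_single (blockOf M (ψ : X → ℂ))]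
    · rw [hindv]
      exact if_pos (sameBlock_refl _)
    · intro s hs hne
      rw [hindv]
      refine if_neg fun hψ => hne ?_
      obtain ⟨η, rfl⟩ := (hΩmem s).mp hs
      exact blockOf_eq_of_sameBlock hψ
    · intro h
      exact absurd ((hΩmem _).mpr ⟨ψ, rfl⟩) h
  have hsum1 : ∑ s ∈ Ω, bp_mu ι (ξ : C → ℂ) (ind s) = 1 := by
    rw [← bp_mu_sum, hone, bp_mu_one ι hι ξ]
  have hns : MemLocalIdeal M (∑ s ∈ Ω.filter (fun s => ¬ ∀ u : Γ, u • s = s),
      bp_mu ι (ξ : C → ℂ) (ind s)) := by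
    refine bp_pfix hM hΓ (fun s : Set (IrrCharacter X) => bp_mu ι (ξ : C → ℂ) (ind s)) ?_ _ _
      le_rfl ?_ ?_ ?_
    · intro u s
      show bp_mu ι (ξ : C → ℂ) (ind (u • s)) = bp_mu ι (ξ : C → ℂ) (ind s)
      unfold bp_mu
      congr 1
      refine Finset.sum_congr rfl fun y _ => ?_
      rw [htw, (hfix (ι y)).mp ⟨y, rfl⟩ u⁻¹]
    · intro s hs
      obtain ⟨η, rfl⟩ := (hΩmem s).mp (Finset.mem_filter.mp hs).1
      exact bp_mu_mem ι ξ _ (hindS η)
    · intro s hs u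
      rw [Finset.mem_filter] at hs ⊢
      obtain ⟨η, rfl⟩ := (hΩmem s).mp hs.1
      refine ⟨(hΩmem _).mpr ⟨u • η, hblk u η⟩, fun hst => hs.2 ?_⟩
      have e1 : blockOf M (η : X → ℂ) = u • blockOf M (η : X → ℂ) := by
        have h2 := hst u⁻¹
        rwa [inv_smul_smul] at h2
      intro v
      have h3 := hst v
      rw [← e1] at h3
      exact h3
    · intro s hs
      have h2 := (Finset.mem_filter.mp hs).2
      by_contra hcon
      push Not at hcon
      exact h2 hcon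
  obtain ⟨s, hs, hst, hμ⟩ : ∃ s, IsPBlock M s ∧ (∀ u : Γ, u • s = s) ∧
      ¬ MemLocalIdeal M (bp_mu ι (ξ : C → ℂ) (ind s)) := by
    by_contra hcon
    push Not at hcon
    have h2 : MemLocalIdeal M (∑ s ∈ Ω.filter (fun s => ∀ u : Γ, u • s = s),
        bp_mu ι (ξ : C → ℂ) (ind s)) := by
      refine memLocalIdeal_sum _ _ fun s hs => ?_
      rw [Finset.mem_filter] at hs
      exact hcon s ((hΩmem s).mp hs.1) hs.2
    have h3 := memLocalIdeal_add hMp h2 hns
    rw [Finset.sum_filter_add_sum_filter_not, hsum1] at h3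
    exact not_memLocalIdeal_one h3
  obtain ⟨η₀, rfl⟩ := hs
  obtain ⟨cf, hcf⟩ : ∃ cf : IrrCharacter X → ℂ, cf = ind (blockOf M (η₀ : X → ℂ)) := ⟨_, rfl⟩
  have hcfS : cf ∈ specRing M X := by
    rw [hcf]
    exact hindS η₀
  have hcv : ∀ ψ : IrrCharacter X, (SameBlock M (η₀ : X → ℂ) (ψ : X → ℂ) → cf ψ = 1) ∧
      (¬ SameBlock M (η₀ : X → ℂ) (ψ : X → ℂ) → cf ψ = 0) := by
    intro ψ
    rw [hcf, hindv]
    exact ⟨fun h => if_pos h, fun h => if_neg h⟩
  have hcfS' : cf ∈ bp_S M Γ X := by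
    refine ⟨hcfS, fun u x => ?_⟩
    have h2 := htw u⁻¹ (blockOf M (η₀ : X → ℂ)) x
    rw [hst u⁻¹, inv_inv] at h2
    rw [hcf]
    exact h2.symm
  have hidem : cf * cf = cf := by
    funext ψ
    rw [Pi.mul_apply]
    by_cases hψ : SameBlock M (η₀ : X → ℂ) (ψ : X → ℂ)
    · rw [(hcv ψ).1 hψ, mul_one]
    · rw [(hcv ψ).2 hψ, mul_zero]
  have hμR : MemLocalRing M (bp_mu ι (ξ : C → ℂ) cf) := bp_mu_mem ι ξ cf hcfS
  have hμ1 : MemLocalIdeal M (bp_mu ι (ξ : C → ℂ) cf - 1) := by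
    by_contra hcon
    have h2 := bp_mu_mul hM hΓ ι hι hfix ξ cf cf hcfS' hcfS'
    rw [hidem] at h2
    have h3 : ¬ MemLocalIdeal M (bp_mu ι (ξ : C → ℂ) cf) := by
      rw [hcf]
      exact hμ
    have h4 := not_memLocalIdeal_mul hμR h3 hcon
    have h5 := memLocalIdeal_neg h2
    have e : -(bp_mu ι (ξ : C → ℂ) cf - bp_mu ι (ξ : C → ℂ) cf * bp_mu ι (ξ : C → ℂ) cf)
        = bp_mu ι (ξ : C → ℂ) cf * (bp_mu ι (ξ : C → ℂ) cf - 1) := by ring
    rw [e] at h5
    exact h4 h5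
  refine ⟨η₀, fun u χ hχ => ?_, cf, hcfS, hcv, fun ξ' hξ' => ?_⟩
  · have h2 : u • χ ∈ u • blockOf M (η₀ : X → ℂ) := Set.smul_mem_smul_set hχ
    rw [hst u] at h2
    exact h2
  · have h2 : MemLocalIdeal M (bp_mu ι (ξ : C → ℂ) cf - bp_mu ι (ξ' : C → ℂ) cf) :=
      classFun_congr (bp_res_class ι cf) (fun y => hcfS (ι y)) hξ'
    have h3 := memLocalIdeal_sub hμ1 h2
    have e : bp_mu ι (ξ : C → ℂ) cf - 1 - (bp_mu ι (ξ : C → ℂ) cf - bp_mu ι (ξ' : C → ℂ) cf)
        = bp_mu ι (ξ' : C → ℂ) cf - 1 := by ring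
    rwa [e] at h3

end Abs

variable {G : Type u} [Group G] [Fintype G]

/-- the central character of a character of `C_G(Q)` at the idempotent of a set of characters
of `C_G(Q)`. -/
theorem bp_omega_self (Q : Subgroup G)
    (f : Set (IrrCharacter (Subgroup.centralizer (Q : Set G))))
    (η : IrrCharacter (Subgroup.centralizer (Q : Set G))) :
    (η ∈ f → brauerOmega Q (subgroupBlockCoeff (Subgroup.centralizer (Q : Set G)) f)
      (η : Subgroup.centralizer (Q : Set G) → ℂ) = 1) ∧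
    (η ∉ f → brauerOmega Q (subgroupBlockCoeff (Subgroup.centralizer (Q : Set G)) f)
      (η : Subgroup.centralizer (Q : Set G) → ℂ) = 0) := by
  classical
  suffices hsuff : brauerOmega Q (subgroupBlockCoeff (Subgroup.centralizer (Q : Set G)) f)
      (η : Subgroup.centralizer (Q : Set G) → ℂ) = if η ∈ f then 1 else 0 by
    exact ⟨fun h => by rw [hsuff, if_pos h], fun h => by rw [hsuff, if_neg h]⟩
  haveI : Fintype (Subgroup.centralizer (Q : Set G)) := Fintype.ofFinite _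
  obtain ⟨c, hcdef⟩ : ∃ c : IrrCharacter (Subgroup.centralizer (Q : Set G)) → ℂ,
      c = fun ψ => if ψ ∈ f then 1 else 0 := ⟨_, rfl⟩
  have hc1 : ∀ ψ ∈ f, c ψ = 1 := fun ψ hψ => by rw [hcdef]; exact if_pos hψ
  have hc0 : ∀ ψ, ψ ∉ f → c ψ = 0 := fun ψ hψ => by rw [hcdef]; exact if_neg hψ
  have hβ := blockCoeff_eq_specFun f c hc1 hc0
  unfold brauerOmega
  rw [finsum_eq_sum_of_fintype]
  have e : ∀ x : Subgroup.centralizer (Q : Set G),
      subgroupBlockCoeff (Subgroup.centralizer (Q : Set G)) f (x : G)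
        * (η : Subgroup.centralizer (Q : Set G) → ℂ) x
        / (η : Subgroup.centralizer (Q : Set G) → ℂ) 1
      = ((η : Subgroup.centralizer (Q : Set G) → ℂ) 1)⁻¹
        * (specFun c x * (η : Subgroup.centralizer (Q : Set G) → ℂ) x) := by
    intro x
    have e1 : subgroupBlockCoeff (Subgroup.centralizer (Q : Set G)) f (x : G)
        = blockCoeff f x := by
      unfold subgroupBlockCoeff
      rw [dif_pos x.2]
    rw [e1, hβ]
    ring
  rw [Finset.sum_congr rfl fun x _ => e x, ← Finset.mul_sum, spec_inversion c η]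
  have h10 := Cfsg.Agent.Helper5.irr_one_ne_zero η
  have e2 : c η = if η ∈ f then 1 else 0 := by rw [hcdef]
  rw [← e2]
  field_simp

theorem bp_sbc_class (K : Subgroup G) (f : Set (IrrCharacter K)) (k k' : G) (hk : k ∈ K)
    (hk' : k' ∈ K) : subgroupBlockCoeff K f (k' * k * k'⁻¹) = subgroupBlockCoeff K f k := by
  haveI : Fintype K := Fintype.ofFinite _
  unfold subgroupBlockCoeff
  rw [dif_pos hk, dif_pos (K.mul_mem (K.mul_mem hk' hk) (K.inv_mem hk'))]
  exact bp_coeff_class f ⟨k, hk⟩ ⟨k', hk'⟩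

theorem bp_sbc_stab (P K : Subgroup G) (f : Set (IrrCharacter K))
    (hst : ∀ x ∈ P, StabilizesBlock K f x) (u : G) (hu : u ∈ P) (k : G) (hk : k ∈ K) :
    subgroupBlockCoeff K f (u * k * u⁻¹) = subgroupBlockCoeff K f k := by
  have hk' : u * k * u⁻¹ ∈ K := (Subgroup.mem_normalizer_iff.mp (hst u hu).1 k).mp hk
  unfold subgroupBlockCoeff
  rw [dif_pos hk, dif_pos hk']
  exact bp_stab_coeff K f u (hst u hu) (hst u⁻¹ (P.inv_mem hu)) k hk hk'

/-- uniqueness of the normal subpair on a given normal subgroup. -/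
theorem bp_normal_unique {p : ℕ} [Fact p.Prime] {M : Ideal AlgInt} (hM : IsPModular p M)
    [hMp : M.IsPrime] (P Q : Subgroup G)
    (e : Set (IrrCharacter (Subgroup.centralizer (P : Set G))))
    (f₁ f₂ : Set (IrrCharacter (Subgroup.centralizer (Q : Set G))))
    (h₁ : IsNormalSubpair p M Q f₁ P e) (h₂ : IsNormalSubpair p M Q f₂ P e) : f₁ = f₂ := by
  classical
  haveI : Fintype (Subgroup.centralizer (P : Set G)) := Fintype.ofFinite _
  haveI : Fintype (Subgroup.centralizer (Q : Set G)) := Fintype.ofFinite _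
  obtain ⟨ξ₀, hξ₀⟩ : ∃ ξ₀, ξ₀ ∈ e := by
    obtain ⟨ξ₀, he⟩ := h₁.2.1.2
    exact ⟨ξ₀, by rw [he]; exact sameBlock_refl _⟩
  obtain ⟨η₁, hη₁⟩ := h₁.1.2
  obtain ⟨η₂, hη₂⟩ := h₂.1.2
  have hη₁mem : η₁ ∈ f₁ := by rw [hη₁]; exact sameBlock_refl _
  have h3 := bp_normal_omega hM P Q e f₁ h₁
    (subgroupBlockCoeff (Subgroup.centralizer (Q : Set G)) f₂)
    (fun k k' hk hk' => bp_sbc_class _ f₂ k k' hk hk')
    (fun u hu k hk => bp_sbc_stab P _ f₂ h₂.2.2.2.2.1 u hu k hk)
    (fun k hk => by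
      unfold subgroupBlockCoeff
      rw [dif_pos hk, hη₂]
      exact blockCoeff_memLocalRing η₂ _) ξ₀ hξ₀ η₁ hη₁mem
  have h4 := h₂.2.2.2.2.2 ξ₀ hξ₀
  have h5 := memLocalIdeal_sub h4 h3
  rw [sub_sub_sub_cancel_left] at h5
  have hmem : η₁ ∈ f₂ := by
    by_contra hcon
    rw [(bp_omega_self Q f₂ η₁).2 hcon, zero_sub] at h5
    have h6 := memLocalIdeal_neg h5
    rw [neg_neg] at h6
    exact not_memLocalIdeal_one h6
  rw [hη₂] at hmem
  rw [hη₁, hη₂]
  exact (blockOf_eq_of_sameBlock hmem).symm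

/-- existence of the normal subpair on a given normal subgroup. -/
theorem bp_normal_exists {p : ℕ} [Fact p.Prime] {M : Ideal AlgInt} (hM : IsPModular p M)
    [hMp : M.IsPrime] (P Q : Subgroup G)
    (e : Set (IrrCharacter (Subgroup.centralizer (P : Set G))))
    (hPe : IsBrauerPair p M P e) (hQP : Q ≤ P) (hPN : P ≤ Subgroup.normalizer (Q : Set G)) :
    ∃ f : Set (IrrCharacter (Subgroup.centralizer (Q : Set G))),
      IsNormalSubpair p M Q f P e := by
  classical
  obtain ⟨hP, ξ₀, rfl⟩ := hPe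
  obtain ⟨K, hK⟩ : ∃ K : Subgroup G, K = Subgroup.centralizer (Q : Set G) := ⟨_, rfl⟩
  have hN : P ≤ Subgroup.normalizer (K : Set G) := by
    rw [hK]
    exact fun u hu => pf_norm_cent Q u (hPN hu)
  have hCK : Subgroup.centralizer (P : Set G) ≤ K := by
    rw [hK]
    exact Subgroup.centralizer_le hQP
  haveI : Fintype K := Fintype.ofFinite _
  haveI : Fintype (Subgroup.centralizer (P : Set G)) := Fintype.ofFinite _
  letI := bp_mda P K hN
  have hsm : ∀ (u : P) (k : K), ((u • k : K) : G) = (u : G) * k * (u : G)⁻¹ := fun u k => rfl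
  obtain ⟨ι, hιdef⟩ : ∃ ι : ↥(Subgroup.centralizer (P : Set G)) →* ↥K,
      ι = Subgroup.inclusion hCK := ⟨_, rfl⟩
  have hιv : ∀ y, ((ι y : K) : G) = (y : G) := by
    intro y
    rw [hιdef]
    rfl
  have hι : Function.Injective ι := by
    rw [hιdef]
    exact Subgroup.inclusion_injective hCK
  have hfix : ∀ x : K, x ∈ Set.range ι ↔ ∀ u : P, u • x = x := by
    intro x
    constructor
    · rintro ⟨y, rfl⟩ u
      apply Subtype.ext
      rw [hsm, hιv]
      have h2 := (Subgroup.mem_centralizer_iff.mp y.2) (u : G) u.2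
      rw [h2]
      group
    · intro hx
      have hxC : (x : G) ∈ Subgroup.centralizer (P : Set G) := by
        rw [Subgroup.mem_centralizer_iff]
        intro h hh
        have h2 := congrArg Subtype.val (hx ⟨h, hh⟩)
        rw [hsm] at h2
        have h3 : h * (x : G) = (h * (x : G) * h⁻¹) * h := by group
        rw [h3]
        exact congrArg (· * h) h2
      exact ⟨⟨(x : G), hxC⟩, Subtype.ext (hιv _)⟩
  obtain ⟨η₀, hst, cf, hcfS, hcv, hbr⟩ := bp_exists hM (show IsPGroup p ↥P from hP) ι hι hfix ξ₀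
  have hβ : ∀ g : K, blockCoeff (blockOf M (η₀ : K → ℂ)) g = specFun cf g :=
    blockCoeff_eq_specFun (blockOf M (η₀ : K → ℂ)) cf (fun ψ hψ => (hcv ψ).1 hψ)
      (fun ψ hψ => (hcv ψ).2 hψ)
  have hμcf : ∀ ξ : IrrCharacter (Subgroup.centralizer (P : Set G)),
      bp_mu ι (ξ : Subgroup.centralizer (P : Set G) → ℂ) cf
      = brauerOmega P (subgroupBlockCoeff K (blockOf M (η₀ : K → ℂ)))
        (ξ : Subgroup.centralizer (P : Set G) → ℂ) := by
    intro ξ
    unfold bp_mu brauerOmega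
    rw [finsum_eq_sum_of_fintype, Finset.mul_sum]
    refine Finset.sum_congr rfl fun y _ => ?_
    have e : subgroupBlockCoeff K (blockOf M (η₀ : K → ℂ)) (y : G) = specFun cf (ι y) := by
      unfold subgroupBlockCoeff
      rw [dif_pos (hCK y.2), ← hβ]
      congr 1
      exact Subtype.ext (hιv y).symm
    rw [e]
    ring
  have hfin : IsNormalSubpair p M Q (hK ▸ blockOf M (η₀ : K → ℂ)) P
      (blockOf M (ξ₀ : Subgroup.centralizer (P : Set G) → ℂ)) := by
    subst hK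
    refine ⟨⟨hP.to_le hQP, η₀, rfl⟩, ⟨hP, ξ₀, rfl⟩, hQP, hPN, ?_, ?_⟩
    · intro x hx
      refine ⟨hN hx, fun χ hχ => ⟨bp_tw (⟨x, hx⟩ : P) χ, hst ⟨x, hx⟩ χ hχ, ?_⟩⟩
      intro k k' hkk'
      show (χ : Subgroup.centralizer (Q : Set G) → ℂ) ((⟨x, hx⟩ : P)⁻¹ • k')
        = (χ : Subgroup.centralizer (Q : Set G) → ℂ) k
      have e : (⟨x, hx⟩ : P)⁻¹ • k' = k := by
        apply Subtype.ext
        rw [hsm, hkk']
        show x⁻¹ * (x * (k : G) * x⁻¹) * x⁻¹⁻¹ = (k : G)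
        group
      rw [e]
    · intro ξ hξ
      rw [← hμcf]
      exact hbr ξ hξ
  exact ⟨_, hfin⟩

end Cfsg.Agent.Helper24
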