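import Mathlib
import Cfsg.Agent.Helper24.BP3

/-!
helper24: Brauer pairs: below a Brauer pair there is exactly one pair on each subgroup.
-/

set_option autoImplicit false

namespace Cfsg.Agent.Helper24

open Cfsg Cfsg.Agent.Helper5 Cfsg.Agent.Helper22

universe u

variable {G : Type u} [Group G] [Fintype G]

/-- a Brauer pair is normally below itself. -/
theorem bp_refl_normal {p : ℕ} [Fact p.Prime] {M : Ideal AlgInt}
    [hMp : M.IsPrime] (Q : Subgroup G)
    (f : Set (IrrCharacter (Subgroup.centralizer (Q : Set G)))) (h : IsBrauerPair p M Q f) :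
    IsNormalSubpair p M Q f Q f := by
  refine ⟨h, h, le_rfl, Subgroup.le_normalizer, ?_, ?_⟩
  · intro x hx
    refine ⟨pf_norm_cent Q x (Subgroup.le_normalizer hx), fun χ hχ => ⟨χ, hχ, ?_⟩⟩
    intro k k' hkk'
    have e : k' = k := by
      apply Subtype.ext
      rw [hkk']
      have h2 := (Subgroup.mem_centralizer_iff.mp k.2) x hx
      rw [h2]
      group
    rw [e]
  · intro ξ hξ
    rw [(bp_omega_self Q f ξ).1 hξ, sub_self]
    exact memLocalIdeal_zero hMp.ne_top

/-- transitivity of normal inclusion when the bottom subgroup is normal in the top one. -/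
theorem bp_trans {p : ℕ} [Fact p.Prime] {M : Ideal AlgInt} (hM : IsPModular p M)
    [hMp : M.IsPrime] (Q R P : Subgroup G)
    (f : Set (IrrCharacter (Subgroup.centralizer (Q : Set G))))
    (g : Set (IrrCharacter (Subgroup.centralizer (R : Set G))))
    (e : Set (IrrCharacter (Subgroup.centralizer (P : Set G))))
    (h₁ : IsNormalSubpair p M Q f R g) (h₂ : IsNormalSubpair p M R g P e)
    (hPN : P ≤ Subgroup.normalizer (Q : Set G)) :
    IsNormalSubpair p M Q f P e := by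
  classical
  haveI : Fintype (Subgroup.centralizer (Q : Set G)) := Fintype.ofFinite _
  haveI : Fintype (Subgroup.centralizer (R : Set G)) := Fintype.ofFinite _
  haveI : Fintype (Subgroup.centralizer (P : Set G)) := Fintype.ofFinite _
  have h₁' := h₁
  have h₂' := h₂
  obtain ⟨hQf, hRg, hQR, hRN, hstR, hbr₁⟩ := h₁
  obtain ⟨-, hPe, hRP, hPNR, hstP, hbr₂⟩ := h₂
  obtain ⟨hQ, η₁, hfeq⟩ := hQf
  have hNK : ∀ x ∈ P, x ∈ Subgroup.normalizer (((Subgroup.centralizer (Q : Set G)) : Subgroup G) : Set G) :=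
    fun x hx => pf_norm_cent Q x (hPN hx)
  have hCRK : (Subgroup.centralizer (R : Set G)) ≤ (Subgroup.centralizer (Q : Set G)) := Subgroup.centralizer_le hQR
  obtain ⟨ξg, hξg⟩ : ∃ ξg, ξg ∈ g := by
    obtain ⟨ξg, hg⟩ := hRg.2
    exact ⟨ξg, by rw [hg]; exact sameBlock_refl _⟩
  have hloc : ∀ (k : G) (hk : k ∈ (Subgroup.centralizer (Q : Set G))), MemLocalRing M (blockCoeff f ⟨k, hk⟩) := by
    intro k hk
    rw [hfeq]
    exact blockCoeff_memLocalRing η₁ _
  have key : ∀ x ∈ P, ∀ φ : ↥(Subgroup.centralizer (Q : Set G)) ≃* ↥(Subgroup.centralizer (Q : Set G)), (∀ a : (Subgroup.centralizer (Q : Set G)), ((φ a : (Subgroup.centralizer (Q : Set G))) : G) = x * a * x⁻¹) →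
      ∀ η ∈ f, η ∈ fm_tr φ f := by
    intro x hx φ hφ η hη
    by_contra hcon
    obtain ⟨ξ'', hξ''g, hconj⟩ := (hstP x⁻¹ (P.inv_mem hx)).2 ξg hξg
    have hxK : ∀ k ∈ (Subgroup.centralizer (Q : Set G)), x⁻¹ * k * x ∈ (Subgroup.centralizer (Q : Set G)) := fun k hk => bp_norm_inv _ x (hNK x hx) k hk
    have hFv : ∀ (k : G) (hk : k ∈ (Subgroup.centralizer (Q : Set G))),
        subgroupBlockCoeff (Subgroup.centralizer (Q : Set G)) (fm_tr φ f) k = subgroupBlockCoeff (Subgroup.centralizer (Q : Set G)) f (x⁻¹ * k * x) := by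
      intro k hk
      unfold subgroupBlockCoeff
      rw [dif_pos hk, dif_pos (hxK k hk)]
      have h3 := fm_tr_coeff φ f ⟨x⁻¹ * k * x, hxK k hk⟩
      have eφ : φ ⟨x⁻¹ * k * x, hxK k hk⟩ = ⟨k, hk⟩ := by
        apply Subtype.ext
        rw [hφ]
        show x * (x⁻¹ * k * x) * x⁻¹ = k
        group
      rw [eφ] at h3
      exact h3
    have hF := bp_normal_omega hM R Q g f h₁' (subgroupBlockCoeff (Subgroup.centralizer (Q : Set G)) (fm_tr φ f))
      (fun k k' hk hk' => bp_sbc_class _ (fm_tr φ f) k k' hk hk')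
      (fun u hu k hk => by
        have huK : u * k * u⁻¹ ∈ (Subgroup.centralizer (Q : Set G)) :=
          (Subgroup.mem_normalizer_iff.mp (pf_norm_cent Q u (hRN hu)) k).mp hk
        have hu' : x⁻¹ * u * x ∈ R := bp_norm_inv R x (hPNR hx) u hu
        rw [hFv _ huK, hFv _ hk]
        have e1 : x⁻¹ * (u * k * u⁻¹) * x
            = (x⁻¹ * u * x) * (x⁻¹ * k * x) * (x⁻¹ * u * x)⁻¹ := by group
        rw [e1]
        exact bp_sbc_stab R _ f hstR _ hu' _ (hxK k hk))
      (fun k hk => by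
        rw [hFv _ hk]
        unfold subgroupBlockCoeff
        rw [dif_pos (hxK k hk)]
        exact hloc _ _) ξg hξg η hη
    rw [(bp_omega_self Q (fm_tr φ f) η).2 hcon, sub_zero] at hF
    have hxNR : x ∈ Subgroup.normalizer (((Subgroup.centralizer (R : Set G)) : Subgroup G) : Set G) :=
      pf_norm_cent R x (hPNR hx)
    obtain ⟨ψ, hψ⟩ : ∃ ψ : ↥(Subgroup.centralizer (R : Set G)) ≃* ↥(Subgroup.centralizer (R : Set G)), ∀ z : (Subgroup.centralizer (R : Set G)), ((ψ z : (Subgroup.centralizer (R : Set G))) : G) = x * z * x⁻¹ :=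
      ⟨conjEquiv (Subgroup.centralizer (R : Set G)) x (fun g hg => (Subgroup.mem_normalizer_iff.mp hxNR g).mp hg)
        (fun g hg => bp_norm_inv _ x hxNR g hg), fun z => rfl⟩
    have e1 : brauerOmega R (subgroupBlockCoeff (Subgroup.centralizer (Q : Set G)) (fm_tr φ f)) (ξg : (Subgroup.centralizer (R : Set G)) → ℂ)
        = brauerOmega R (subgroupBlockCoeff (Subgroup.centralizer (Q : Set G)) f) (ξ'' : (Subgroup.centralizer (R : Set G)) → ℂ) := by
      unfold brauerOmega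
      rw [finsum_eq_sum_of_fintype, finsum_eq_sum_of_fintype,
        ← Equiv.sum_comp ψ.toEquiv (fun y : (Subgroup.centralizer (R : Set G)) => subgroupBlockCoeff (Subgroup.centralizer (Q : Set G)) (fm_tr φ f) (y : G)
          * (ξg : (Subgroup.centralizer (R : Set G)) → ℂ) y / (ξg : (Subgroup.centralizer (R : Set G)) → ℂ) 1)]
      refine Finset.sum_congr rfl fun z _ => ?_
      show subgroupBlockCoeff (Subgroup.centralizer (Q : Set G)) (fm_tr φ f) ((ψ z : (Subgroup.centralizer (R : Set G))) : G) * (ξg : (Subgroup.centralizer (R : Set G)) → ℂ) (ψ z)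
          / (ξg : (Subgroup.centralizer (R : Set G)) → ℂ) 1
        = subgroupBlockCoeff (Subgroup.centralizer (Q : Set G)) f (z : G) * (ξ'' : (Subgroup.centralizer (R : Set G)) → ℂ) z / (ξ'' : (Subgroup.centralizer (R : Set G)) → ℂ) 1
      have ez : (ξ'' : (Subgroup.centralizer (R : Set G)) → ℂ) z = (ξg : (Subgroup.centralizer (R : Set G)) → ℂ) (ψ z) := hconj (ψ z) z (by
        rw [hψ]
        group)
      have e1' : (ξ'' : (Subgroup.centralizer (R : Set G)) → ℂ) 1 = (ξg : (Subgroup.centralizer (R : Set G)) → ℂ) 1 := by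
        have h4 := hconj (ψ 1) 1 (by
          rw [hψ]
          simp)
        rw [h4, map_one]
      have hzK : x * (z : G) * x⁻¹ ∈ (Subgroup.centralizer (Q : Set G)) :=
        (Subgroup.mem_normalizer_iff.mp (hNK x hx) _).mp (hCRK z.2)
      have eF : subgroupBlockCoeff (Subgroup.centralizer (Q : Set G)) (fm_tr φ f) ((ψ z : (Subgroup.centralizer (R : Set G))) : G)
          = subgroupBlockCoeff (Subgroup.centralizer (Q : Set G)) f (z : G) := by
        rw [hψ, hFv _ hzK]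
        congr 1
        group
      rw [eF, ez, e1']
    rw [e1] at hF
    have h3 := hbr₁ ξ'' hξ''g
    have h4 := memLocalIdeal_sub hF h3
    rw [sub_sub_cancel] at h4
    exact not_memLocalIdeal_one h4
  have hstab : ∀ x ∈ P, StabilizesBlock (Subgroup.centralizer (Q : Set G)) f x := by
    intro x hx
    refine ⟨hNK x hx, fun χ hχ => ?_⟩
    have hxi : x⁻¹ ∈ Subgroup.normalizer (((Subgroup.centralizer (Q : Set G)) : Subgroup G) : Set G) := inv_mem (hNK x hx)
    obtain ⟨φ, hφ⟩ : ∃ φ : ↥(Subgroup.centralizer (Q : Set G)) ≃* ↥(Subgroup.centralizer (Q : Set G)), ∀ a : (Subgroup.centralizer (Q : Set G)), ((φ a : (Subgroup.centralizer (Q : Set G))) : G) = x⁻¹ * a * x⁻¹⁻¹ :=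
      ⟨conjEquiv (Subgroup.centralizer (Q : Set G)) x⁻¹ (fun g hg => (Subgroup.mem_normalizer_iff.mp hxi g).mp hg)
        (fun g hg => bp_norm_inv _ x⁻¹ hxi g hg), fun a => rfl⟩
    have h3 := key x⁻¹ (P.inv_mem hx) φ hφ χ hχ
    rw [fm_tr_mem] at h3
    refine ⟨_, h3, ?_⟩
    intro k k' hkk'
    show (χ : (Subgroup.centralizer (Q : Set G)) → ℂ) (φ k') = (χ : (Subgroup.centralizer (Q : Set G)) → ℂ) k
    have e : φ k' = k := by
      apply Subtype.ext
      rw [hφ, hkk']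
      group
    rw [e]
  refine ⟨⟨hQ, η₁, hfeq⟩, hPe, hQR.trans hRP, hPN, hstab, ?_⟩
  intro ξ' hξ'
  have h5 := bp_normal_omega hM P R e g h₂' (subgroupBlockCoeff (Subgroup.centralizer (Q : Set G)) f)
    (fun k k' hk hk' => bp_sbc_class _ f k k' (hCRK hk) (hCRK hk'))
    (fun u hu k hk => bp_sbc_stab P _ f hstab u hu k (hCRK hk))
    (fun k hk => by
      unfold subgroupBlockCoeff
      rw [dif_pos (hCRK hk)]
      exact hloc _ _) ξ' hξ' ξg hξg
  have h6 := hbr₁ ξg hξg
  have h7 := memLocalIdeal_add hMp h5 h6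
  rw [sub_add_sub_cancel] at h7
  exact h7

/-- a chain from a pair to a pair whose subgroup normalizes the bottom subgroup collapses to a
normal inclusion. -/
theorem bp_collapse {p : ℕ} [Fact p.Prime] {M : Ideal AlgInt} (hM : IsPModular p M)
    [hMp : M.IsPrime] (a b : BrauerPairIdx G)
    (h : Relation.ReflTransGen (NormalSubpairRel p M) a b) (ha : IsBrauerPair p M a.1 a.2)
    (hN : b.1 ≤ Subgroup.normalizer (a.1 : Set G)) : NormalSubpairRel p M a b := by
  induction h with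
  | refl => exact bp_refl_normal a.1 a.2 ha
  | tail hab hbc ih =>
    have h1 := ih (le_trans hbc.2.2.1 hN)
    exact bp_trans hM _ _ _ _ _ _ h1 hbc hN

/-- the first strict step of a chain. -/
theorem bp_first_strict {p : ℕ} [Fact p.Prime] {M : Ideal AlgInt} (hM : IsPModular p M)
    [hMp : M.IsPrime] (a b : BrauerPairIdx G)
    (h : Relation.ReflTransGen (NormalSubpairRel p M) a b) :
    a.1 ≠ b.1 → ∃ c : BrauerPairIdx G, NormalSubpairRel p M a c ∧
      Relation.ReflTransGen (NormalSubpairRel p M) c b ∧ a.1 ≠ c.1 := by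
  induction h using Relation.ReflTransGen.head_induction_on with
  | refl => exact fun hne => absurd rfl hne
  | head h' hcb ih =>
    rename_i a' c'
    intro hne
    by_cases hac : a'.1 = c'.1
    · obtain ⟨Q, f⟩ := a'
      obtain ⟨Q₁, f₁⟩ := c'
      have hac' : Q = Q₁ := hac
      subst hac'
      have h'' : IsNormalSubpair p M Q f Q f₁ := h'
      have hff : f = f₁ := bp_normal_unique hM Q Q f₁ f f₁ h'' (bp_refl_normal Q f₁ h''.2.1)
      subst hff
      exact ih hne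
    · exact ⟨c', h', hcb, hac⟩

theorem bp_norm_grow {p : ℕ} [Fact p.Prime] (S Q : Subgroup G) (hS : IsPGroup p S)
    (hQS : Q ≤ S) (hQ : Q ≠ S) :
    Nat.card Q < Nat.card (S ⊓ Subgroup.normalizer (Q : Set G) : Subgroup G) := by
  have hnil : Group.IsNilpotent S := hS.isNilpotent
  have hnc := Group.normalizerCondition_of_isNilpotent (G := S)
  have hlt : Q.subgroupOf S < ⊤ := by
    rw [lt_top_iff_ne_top]
    intro h
    rw [Subgroup.subgroupOf_eq_top] at h
    exact hQ (le_antisymm hQS h)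
  have h2 := hnc _ hlt
  obtain ⟨x, hxN, hxQ⟩ := SetLike.exists_of_lt h2
  have hxQ' : (x : G) ∉ Q := fun h => hxQ (Subgroup.mem_subgroupOf.mpr h)
  have hxN' : (x : G) ∈ Subgroup.normalizer (Q : Set G) := by
    rw [Subgroup.mem_normalizer_iff] at hxN ⊢
    intro q
    constructor
    · intro hq
      have h3 := (hxN ⟨q, hQS hq⟩).mp (Subgroup.mem_subgroupOf.mpr hq)
      exact Subgroup.mem_subgroupOf.mp h3
    · intro hq
      have hqS : q ∈ S := by
        have h4 : q = (x : G)⁻¹ * ((x : G) * q * (x : G)⁻¹) * (x : G) := by group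
        rw [h4]
        exact S.mul_mem (S.mul_mem (S.inv_mem x.2) (hQS hq)) x.2
      have h3 := (hxN ⟨q, hqS⟩).mpr (Subgroup.mem_subgroupOf.mpr hq)
      exact Subgroup.mem_subgroupOf.mp h3
  have hQQ₁ : Q ≤ S ⊓ Subgroup.normalizer (Q : Set G) := le_inf hQS Subgroup.le_normalizer
  have hxQ₁ : (x : G) ∈ S ⊓ Subgroup.normalizer (Q : Set G) := ⟨x.2, hxN'⟩
  by_contra hc
  have h5 := Subgroup.eq_of_le_of_card_ge hQQ₁ (by omega)
  rw [← h5] at hxQ₁
  exact hxQ' hxQ₁

/-- existence of a subpair on every subgroup. -/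
theorem bp_sub_exists {p : ℕ} [Fact p.Prime] {M : Ideal AlgInt} (hM : IsPModular p M)
    [hMp : M.IsPrime] (P : Subgroup G) (e : Set (IrrCharacter (Subgroup.centralizer (P : Set G))))
    (hPe : IsBrauerPair p M P e) :
    ∀ (n : ℕ) (Q : Subgroup G), Q ≤ P → Nat.card P - Nat.card Q ≤ n →
      ∃ f : Set (IrrCharacter (Subgroup.centralizer (Q : Set G))), IsPBlock M f ∧
        Relation.ReflTransGen (NormalSubpairRel p M) ⟨Q, f⟩ ⟨P, e⟩ := by
  intro n
  induction n with
  | zero =>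
    intro Q hQP hn
    have hle : Nat.card P ≤ Nat.card Q := by omega
    obtain rfl := Subgroup.eq_of_le_of_card_ge hQP hle
    exact ⟨e, hPe.2, Relation.ReflTransGen.refl⟩
  | succ n ih =>
    intro Q hQP hn
    by_cases hQ : Q = P
    · subst hQ
      exact ⟨e, hPe.2, Relation.ReflTransGen.refl⟩
    have hgrow := bp_norm_grow P Q hPe.1 hQP hQ
    obtain ⟨R, hR⟩ : ∃ R : Subgroup G, R = P ⊓ Subgroup.normalizer (Q : Set G) := ⟨_, rfl⟩
    rw [← hR] at hgrow
    have hQR : Q ≤ R := by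
      rw [hR]
      exact le_inf hQP Subgroup.le_normalizer
    have hRP : R ≤ P := by rw [hR]; exact inf_le_left
    have hRN : R ≤ Subgroup.normalizer (Q : Set G) := by rw [hR]; exact inf_le_right
    obtain ⟨g, hg, hchain⟩ := ih R hRP (by omega)
    obtain ⟨f, hf⟩ := bp_normal_exists hM R Q g ⟨hPe.1.to_le hRP, hg⟩ hQR hRN
    have hstep : NormalSubpairRel p M ⟨Q, f⟩ ⟨R, g⟩ := hf
    exact ⟨f, hf.1.2, Relation.ReflTransGen.head hstep hchain⟩

/-- uniqueness of the subpair on every subgroup. -/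
theorem bp_sub_unique {p : ℕ} [Fact p.Prime] {M : Ideal AlgInt} (hM : IsPModular p M)
    [hMp : M.IsPrime] (P : Subgroup G) (e : Set (IrrCharacter (Subgroup.centralizer (P : Set G))))
    (hPe : IsBrauerPair p M P e) :
    ∀ (n : ℕ) (Q : Subgroup G), Q ≤ P → Nat.card P - Nat.card Q ≤ n →
      ∀ f₁ f₂ : Set (IrrCharacter (Subgroup.centralizer (Q : Set G))), IsPBlock M f₁ → IsPBlock M f₂ →
        Relation.ReflTransGen (NormalSubpairRel p M) ⟨Q, f₁⟩ ⟨P, e⟩ →
        Relation.ReflTransGen (NormalSubpairRel p M) ⟨Q, f₂⟩ ⟨P, e⟩ → f₁ = f₂ := by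
  have hnormal : ∀ Q : Subgroup G, Q ≤ P → P ≤ Subgroup.normalizer (Q : Set G) →
      ∀ f₁ f₂ : Set (IrrCharacter (Subgroup.centralizer (Q : Set G))), IsPBlock M f₁ → IsPBlock M f₂ →
        Relation.ReflTransGen (NormalSubpairRel p M) ⟨Q, f₁⟩ ⟨P, e⟩ →
        Relation.ReflTransGen (NormalSubpairRel p M) ⟨Q, f₂⟩ ⟨P, e⟩ → f₁ = f₂ := by
    intro Q hQP hN f₁ f₂ hf₁ hf₂ h₁ h₂
    have hQ : IsPGroup p Q := hPe.1.to_le hQP
    have k₁ := bp_collapse hM ⟨Q, f₁⟩ ⟨P, e⟩ h₁ ⟨hQ, hf₁⟩ hN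
    have k₂ := bp_collapse hM ⟨Q, f₂⟩ ⟨P, e⟩ h₂ ⟨hQ, hf₂⟩ hN
    exact bp_normal_unique hM P Q e f₁ f₂ k₁ k₂
  intro n
  induction n with
  | zero =>
    intro Q hQP hn f₁ f₂ hf₁ hf₂ h₁ h₂
    have hle : Nat.card P ≤ Nat.card Q := by omega
    obtain rfl := Subgroup.eq_of_le_of_card_ge hQP hle
    exact hnormal Q le_rfl Subgroup.le_normalizer f₁ f₂ hf₁ hf₂ h₁ h₂
  | succ n ih =>
    intro Q hQP hn f₁ f₂ hf₁ hf₂ h₁ h₂
    by_cases hN : P ≤ Subgroup.normalizer (Q : Set G)
    · exact hnormal Q hQP hN f₁ f₂ hf₁ hf₂ h₁ h₂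
    have hQne : Q ≠ P := by
      rintro rfl
      exact hN Subgroup.le_normalizer
    have hQ : IsPGroup p Q := hPe.1.to_le hQP
    obtain ⟨R, hR⟩ : ∃ R : Subgroup G, R = P ⊓ Subgroup.normalizer (Q : Set G) := ⟨_, rfl⟩
    have hQR : Q ≤ R := by
      rw [hR]
      exact le_inf hQP Subgroup.le_normalizer
    have hRP : R ≤ P := by rw [hR]; exact inf_le_left
    have hRN : R ≤ Subgroup.normalizer (Q : Set G) := by rw [hR]; exact inf_le_right
    obtain ⟨g, hg, hgchain⟩ := bp_sub_exists hM P e hPe _ R hRP le_rfl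
    have hRg : IsBrauerPair p M R g := ⟨hPe.1.to_le hRP, hg⟩
    have claim : ∀ f : Set (IrrCharacter (Subgroup.centralizer (Q : Set G))), IsPBlock M f →
        Relation.ReflTransGen (NormalSubpairRel p M) ⟨Q, f⟩ ⟨P, e⟩ →
        IsNormalSubpair p M Q f R g := by
      intro f hf hchain
      obtain ⟨c, hac, hcb, hne⟩ := bp_first_strict hM ⟨Q, f⟩ ⟨P, e⟩ hchain hQne
      obtain ⟨Q₁, f₁⟩ := c
      have hac' : IsNormalSubpair p M Q f Q₁ f₁ := hac
      have hne' : Q ≠ Q₁ := hne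
      have hQQ₁ : Q ≤ Q₁ := hac'.2.2.1
      have hQ₁N : Q₁ ≤ Subgroup.normalizer (Q : Set G) := hac'.2.2.2.1
      have hQ₁P : Q₁ ≤ P := pf_le _ _ hcb
      have hQ₁R : Q₁ ≤ R := by
        rw [hR]
        exact le_inf hQ₁P hQ₁N
      have hcard : Nat.card Q < Nat.card Q₁ := by
        by_contra hc
        exact hne' (Subgroup.eq_of_le_of_card_ge hQQ₁ (by omega))
      have hcardle : Nat.card Q₁ ≤ Nat.card P := Subgroup.card_le_of_le hQ₁P
      obtain ⟨h, hh, hhchain⟩ := bp_sub_exists hM R g hRg _ Q₁ hQ₁R le_rfl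
      have hh2 : Relation.ReflTransGen (NormalSubpairRel p M) ⟨Q₁, h⟩ ⟨P, e⟩ :=
        hhchain.trans hgchain
      have heq : f₁ = h := ih Q₁ hQ₁P (by omega) f₁ h hac'.2.1.2 hh hcb hh2
      subst heq
      have hQR' : Relation.ReflTransGen (NormalSubpairRel p M) ⟨Q, f⟩ ⟨R, g⟩ :=
        Relation.ReflTransGen.head hac hhchain
      exact bp_collapse hM ⟨Q, f⟩ ⟨R, g⟩ hQR' ⟨hQ, hf⟩ hRN
    exact bp_normal_unique hM R Q g f₁ f₂ (claim f₁ hf₁ h₁) (claim f₂ hf₂ h₂)

end Cfsg.Agent.Helper24
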