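import Mathlib
import Cfsg.Agent.Helper24.BP4
import Cfsg.Agent.Helper22.BlkNil

/-!
helper24: orbit sums of block idempotents of a normal subgroup supporting all block idempotents
are block idempotents.
-/

set_option autoImplicit false

namespace Cfsg.Agent.Helper24

open Cfsg Cfsg.Agent.Helper5 Cfsg.Agent.Helper22

universe u

section Abs

variable {Y : Type u} [Group Y] [Fintype Y] {K : Type u} [Group K] [Fintype K]
  [MulDistribMulAction Y K]

theorem bp_specFun_inj {X : Type u} [Group X] [Fintype X] (c c' : IrrCharacter X → ℂ)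
    (h : ∀ x, specFun c x = specFun c' x) : c = c' := by
  funext ψ
  have h1 := spec_inversion c ψ
  have h2 := spec_inversion c' ψ
  rw [Finset.sum_congr rfl fun g _ => by rw [h g]] at h1
  rw [h1] at h2
  exact mul_right_cancel₀ (Cfsg.Agent.Helper5.irr_one_ne_zero ψ) h2

theorem bp_specFun_tw (y : Y) (c : IrrCharacter K → ℂ) (x : K) :
    specFun (fun θ => c (bp_tw y⁻¹ θ)) x = specFun c (y⁻¹ • x) := by
  classical
  letI : MulAction Y (IrrCharacter K) := bp_irrAct Y K
  have hsm : ∀ (u : Y) (η : IrrCharacter K) (x : K),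
      ((u • η : IrrCharacter K) : K → ℂ) x = (η : K → ℂ) (u⁻¹ • x) := fun _ _ _ => rfl
  unfold specFun
  congr 1
  rw [← Equiv.sum_comp (MulAction.toPerm y) (fun ψ : IrrCharacter K =>
    c (bp_tw y⁻¹ ψ) * ((ψ : K → ℂ) 1 * starRingEnd ℂ ((ψ : K → ℂ) x)))]
  refine Finset.sum_congr rfl fun χ _ => ?_
  show c (y⁻¹ • (y • χ)) * (((y • χ : IrrCharacter K) : K → ℂ) 1
    * starRingEnd ℂ (((y • χ : IrrCharacter K) : K → ℂ) x)) = _
  rw [hsm, hsm, smul_one, inv_smul_smul]

theorem bp_tw_sameBlock {M : Ideal AlgInt} (y : Y) (θ ψ : IrrCharacter K)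
    (h : SameBlock M (θ : K → ℂ) (ψ : K → ℂ)) :
    SameBlock M (bp_tw y θ : K → ℂ) (bp_tw y ψ : K → ℂ) := by
  intro g
  have hcc : ∀ η : IrrCharacter K,
      centralChar ((bp_tw y η : IrrCharacter K) : K → ℂ) g
        = centralChar (η : K → ℂ) (y⁻¹ • g) :=
    fun η => fm_cc (MulDistribMulAction.toMulEquiv K y⁻¹) (η : K → ℂ) g
  rw [hcc, hcc]
  exact h _

/-- the sum of the idempotents of the conjugates of a block of a normal subgroup which
supports all block idempotents is a block idempotent. -/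
theorem bp_orbit_block {M : Ideal AlgInt} [hMp : M.IsPrime] (ι : K →* Y)
    (hι : Function.Injective ι) (hcompat : ∀ (y : Y) (k : K), ι (y • k) = y * ι k * y⁻¹)
    (hsupp : ∀ (χ : IrrCharacter Y) (g : Y), g ∉ Set.range ι →
      blockCoeff (blockOf M (χ : Y → ℂ)) g = 0)
    (θ₀ : IrrCharacter K) (A : Set (IrrCharacter K))
    (hA : ∀ θ, θ ∈ A ↔ ∃ y : Y, bp_tw y θ ∈ blockOf M (θ₀ : K → ℂ)) :
    ∃ χ₁ : IrrCharacter Y, ∀ k : K,
      blockCoeff (blockOf M (χ₁ : Y → ℂ)) (ι k) = blockCoeff A k := by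
  classical
  letI : MulAction Y (IrrCharacter K) := bp_irrAct Y K
  have hsm : ∀ (u : Y) (η : IrrCharacter K) (x : K),
      ((u • η : IrrCharacter K) : K → ℂ) x = (η : K → ℂ) (u⁻¹ • x) := fun _ _ _ => rfl
  have htwsm : ∀ (u : Y) (η : IrrCharacter K), bp_tw u η = u • η := fun _ _ => rfl
  -- stability of A
  have hAst : ∀ (y : Y) (θ : IrrCharacter K), θ ∈ A → y • θ ∈ A := by
    intro y θ hθ
    obtain ⟨y', hy'⟩ := (hA θ).mp hθ
    refine (hA _).mpr ⟨y' * y⁻¹, ?_⟩
    rw [htwsm, mul_smul, inv_smul_smul]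
    exact hy'
  have hAst' : ∀ (y : Y) (θ : IrrCharacter K), y • θ ∈ A ↔ θ ∈ A := by
    intro y θ
    constructor
    · intro h
      have h2 := hAst y⁻¹ _ h
      rwa [inv_smul_smul] at h2
    · exact hAst y θ
  have hAblk : ∀ θ ∈ A, ∀ ψ : IrrCharacter K, SameBlock M (θ : K → ℂ) (ψ : K → ℂ) → ψ ∈ A := by
    intro θ hθ ψ hψ
    obtain ⟨y, hy⟩ := (hA θ).mp hθ
    refine (hA ψ).mpr ⟨y, ?_⟩
    exact sameBlock_trans' hy (bp_tw_sameBlock y θ ψ hψ)
  have hθ₀A : θ₀ ∈ A := (hA θ₀).mpr ⟨1, by rw [htwsm, one_smul]; exact sameBlock_refl _⟩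
  obtain ⟨indA, hindA⟩ : ∃ indA : IrrCharacter K → ℂ, indA = fun θ => if θ ∈ A then 1 else 0 :=
    ⟨_, rfl⟩
  have hind1 : ∀ θ ∈ A, indA θ = 1 := fun θ h => by rw [hindA]; exact if_pos h
  have hind0 : ∀ θ, θ ∉ A → indA θ = 0 := fun θ h => by rw [hindA]; exact if_neg h
  have hβA : ∀ k : K, blockCoeff A k = specFun indA k := blockCoeff_eq_specFun A indA hind1 hind0
  have hindS : indA ∈ specRing M K := by
    choose cf hcf hcfv using fun θ : IrrCharacter K => osima (M := M) θ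
    have e : indA = 1 - ∏ θ ∈ Finset.univ.filter (fun θ : IrrCharacter K => θ ∈ A),
        (1 - cf θ) := by
      funext ψ
      rw [Pi.sub_apply, Pi.one_apply, Finset.prod_apply]
      by_cases hψ : ψ ∈ A
      · rw [hind1 ψ hψ, Finset.prod_eq_zero (f := fun θ : IrrCharacter K => (1 - cf θ) ψ)
          (Finset.mem_filter.mpr ⟨Finset.mem_univ _, hψ⟩) (by
            show 1 - cf ψ ψ = 0
            rw [(hcfv ψ ψ).1 (sameBlock_refl _), sub_self]), sub_zero]
      · rw [hind0 ψ hψ, Finset.prod_eq_one (fun θ hθ => by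
          show 1 - cf θ ψ = 1
          rw [(hcfv θ ψ).2 (fun h => hψ (hAblk θ (Finset.mem_filter.mp hθ).2 ψ h)), sub_zero]),
          sub_self]
    rw [e]
    exact (specRing M K).sub_mem (specRing M K).one_mem
      (Subring.prod_mem _ fun θ _ => (specRing M K).sub_mem (specRing M K).one_mem (hcf θ))
  have hindidem : indA * indA = indA := by
    funext θ
    rw [Pi.mul_apply]
    by_cases hθ : θ ∈ A
    · rw [hind1 θ hθ, mul_one]
    · rw [hind0 θ hθ, mul_zero]
  have hbAinv : ∀ (y : Y) (k : K), specFun indA (y • k) = specFun indA k := by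
    intro y k
    have h1 := bp_specFun_tw y⁻¹ indA k
    rw [inv_inv] at h1
    rw [← h1]
    congr 1
    funext θ
    rw [htwsm, hindA]
    exact if_congr (hAst' y θ) rfl rfl
  -- the function ε on Y
  obtain ⟨ε, hε⟩ : ∃ ε : Y → ℂ, ε = fun g => ∑ k : K, if ι k = g then specFun indA k else 0 :=
    ⟨_, rfl⟩
  have hεin : ∀ k : K, ε (ι k) = specFun indA k := by
    intro k
    rw [hε]
    show ∑ k' : K, (if ι k' = ι k then specFun indA k' else 0) = _
    rw [Finset.sum_eq_single k]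
    · rw [if_pos rfl]
    · intro k' _ hne
      rw [if_neg (fun h => hne (hι h))]
    · intro h
      exact absurd (Finset.mem_univ _) h
  have hεout : ∀ g : Y, g ∉ Set.range ι → ε g = 0 := by
    intro g hg
    rw [hε]
    exact Finset.sum_eq_zero fun k _ => if_neg (fun h => hg ⟨k, h⟩)
  have hrange_conj : ∀ (y g : Y), g ∈ Set.range ι → y * g * y⁻¹ ∈ Set.range ι := by
    rintro y _ ⟨k, rfl⟩
    exact ⟨y • k, hcompat y k⟩
  have hεcl : IsClassFunction Y ε := by
    intro g y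
    by_cases hg : g ∈ Set.range ι
    · obtain ⟨k, rfl⟩ := hg
      rw [← hcompat, hεin, hεin, hbAinv]
    · have hg' : y * g * y⁻¹ ∉ Set.range ι := by
        intro h
        have h2 := hrange_conj y⁻¹ _ h
        have e : y⁻¹ * (y * g * y⁻¹) * y⁻¹⁻¹ = g := by group
        rw [e] at h2
        exact hg h2
      rw [hεout g hg, hεout _ hg']
  have hεR : ∀ g, MemLocalRing M (ε g) := by
    intro g
    by_cases hg : g ∈ Set.range ι
    · obtain ⟨k, rfl⟩ := hg
      rw [hεin]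
      exact hindS k
    · rw [hεout g hg]
      exact (locRing M).zero_mem
  -- sums over Y of functions vanishing off the range
  have hsumK : ∀ f : Y → ℂ, (∀ g, g ∉ Set.range ι → f g = 0) →
      ∑ g : Y, f g = ∑ k : K, f (ι k) := by
    intro f hf
    rw [← Finset.sum_image (s := (Finset.univ : Finset K)) (g := ι) (f := f)
      (fun z _ z' _ hzz => hι hzz)]
    symm
    refine Finset.sum_subset (Finset.subset_univ _) fun g _ hg => hf g ?_
    rintro ⟨k, rfl⟩
    exact hg (Finset.mem_image_of_mem _ (Finset.mem_univ _))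
  have hmulout : ∀ (k : K) (g : Y), g ∉ Set.range ι → (ι k)⁻¹ * g ∉ Set.range ι := by
    rintro k g hg ⟨k', hk'⟩
    refine hg ⟨k * k', ?_⟩
    rw [map_mul, hk']
    group
  obtain ⟨cε, hcε⟩ : ∃ cε : IrrCharacter Y → ℂ, cε = fun χ : IrrCharacter Y =>
      ((χ : Y → ℂ) 1)⁻¹ * ∑ h : Y, ε h * (χ : Y → ℂ) h := ⟨_, rfl⟩
  have hspecε : ∀ g, specFun cε g = ε g := by
    intro g
    rw [hcε]
    exact congrFun (specFun_cvec ε hεcl) g
  have hcεS : cε ∈ specRing M Y := fun g => by rw [hspecε]; exact hεR g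
  have hconv : ∀ g : Y, ∑ h : Y, ε h * ε (h⁻¹ * g) = ε g := by
    intro g
    rw [hsumK (fun h => ε h * ε (h⁻¹ * g)) (fun h hh => by
      show ε h * ε (h⁻¹ * g) = 0
      rw [hεout h hh, zero_mul])]
    by_cases hg : g ∈ Set.range ι
    · obtain ⟨k₀, rfl⟩ := hg
      rw [hεin, ← hindidem, specFun_mul]
      refine Finset.sum_congr rfl fun k _ => ?_
      show ε (ι k) * ε ((ι k)⁻¹ * ι k₀) = _
      rw [hεin, ← map_inv, ← map_mul, hεin]
    · rw [hεout g hg]
      refine Finset.sum_eq_zero fun k _ => ?_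
      show ε (ι k) * ε ((ι k)⁻¹ * g) = 0
      rw [hεout _ (hmulout k g hg), mul_zero]
  have hidem : cε * cε = cε := by
    apply bp_specFun_inj
    intro x
    rw [specFun_mul, hspecε, ← hconv x]
    exact Finset.sum_congr rfl fun h _ => by rw [hspecε, hspecε]
  have hconst : ∀ χ ψ : IrrCharacter Y, SameBlock M (χ : Y → ℂ) (ψ : Y → ℂ) →
      cε χ = 1 → cε ψ = 1 := by
    intro χ ψ hsame hχ
    have h1 : cε ψ * cε ψ = cε ψ := congrFun hidem ψ
    have h2 : cε ψ = 0 ∨ cε ψ = 1 := by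
      have h3 : cε ψ * (cε ψ - 1) = 0 := by rw [mul_sub, h1, mul_one, sub_self]
      rcases mul_eq_zero.mp h3 with h4 | h4
      · exact Or.inl h4
      · exact Or.inr (sub_eq_zero.mp h4)
    rcases h2 with h2 | h2
    · exfalso
      have h3 := spec_congr hcεS hsame
      rw [hχ, h2, sub_zero] at h3
      exact not_memLocalIdeal_one h3
    · exact h2
  have hne : ∃ χ₁ : IrrCharacter Y, cε χ₁ = 1 := by
    by_contra hcon
    push Not at hcon
    have hzero : cε = 0 := by
      funext χ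
      have h1 : cε χ * cε χ = cε χ := congrFun hidem χ
      have h3 : cε χ * (cε χ - 1) = 0 := by rw [mul_sub, h1, mul_one, sub_self]
      rcases mul_eq_zero.mp h3 with h4 | h4
      · exact h4
      · exact absurd (sub_eq_zero.mp h4) (hcon χ)
    have h5 : indA = 0 := by
      apply bp_specFun_inj
      intro k
      rw [← hεin, ← hspecε, hzero, specFun_zero, specFun_zero]
    have h6 := hind1 θ₀ hθ₀A
    rw [h5] at h6
    exact zero_ne_one h6
  obtain ⟨χ₁, hχ₁⟩ := hne
  obtain ⟨cB, hcBS, hcBv⟩ := osima (M := M) χ₁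
  have hβB : ∀ g : Y, blockCoeff (blockOf M (χ₁ : Y → ℂ)) g = specFun cB g :=
    blockCoeff_eq_specFun (blockOf M (χ₁ : Y → ℂ)) cB (fun ψ hψ => (hcBv ψ).1 hψ)
      (fun ψ hψ => (hcBv ψ).2 hψ)
  have hBout : ∀ g : Y, g ∉ Set.range ι → specFun cB g = 0 := by
    intro g hg
    rw [← hβB]
    exact hsupp χ₁ g hg
  have hle : cB * cε = cB := by
    funext χ
    rw [Pi.mul_apply]
    by_cases hχ : SameBlock M (χ₁ : Y → ℂ) (χ : Y → ℂ)
    · rw [hconst χ₁ χ hχ hχ₁, mul_one]
    · rw [(hcBv χ).2 hχ, zero_mul]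
  have hBidem : cB * cB = cB := by
    funext χ
    rw [Pi.mul_apply]
    by_cases hχ : SameBlock M (χ₁ : Y → ℂ) (χ : Y → ℂ)
    · rw [(hcBv χ).1 hχ, mul_one]
    · rw [(hcBv χ).2 hχ, zero_mul]
  obtain ⟨F', hF'⟩ : ∃ F' : K → ℂ, F' = fun k => specFun cB (ι k) := ⟨_, rfl⟩
  have hF'v : ∀ k, F' k = specFun cB (ι k) := fun k => by rw [hF']
  have hF'cl : IsClassFunction K F' := by
    rw [hF']
    exact bp_res_class ι cB
  have hF'conv : ∀ k₀ : K, ∑ k : K, F' k * specFun indA (k⁻¹ * k₀) = F' k₀ := by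
    intro k₀
    have h1 := specFun_mul cB cε (ι k₀)
    rw [hle, hsumK (fun h => specFun cB h * specFun cε (h⁻¹ * ι k₀)) (fun h hh => by
      show specFun cB h * specFun cε (h⁻¹ * ι k₀) = 0
      rw [hBout h hh, zero_mul])] at h1
    rw [hF'v, h1]
    refine Finset.sum_congr rfl fun k _ => ?_
    show F' k * specFun indA (k⁻¹ * k₀) = specFun cB (ι k) * specFun cε ((ι k)⁻¹ * ι k₀)
    rw [hspecε, ← map_inv, ← map_mul, hεin, hF'v]
  have hF'conv2 : ∀ k₀ : K, ∑ k : K, F' k * F' (k⁻¹ * k₀) = F' k₀ := by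
    intro k₀
    have h1 := specFun_mul cB cB (ι k₀)
    rw [hBidem, hsumK (fun h => specFun cB h * specFun cB (h⁻¹ * ι k₀)) (fun h hh => by
      show specFun cB h * specFun cB (h⁻¹ * ι k₀) = 0
      rw [hBout h hh, zero_mul])] at h1
    rw [hF'v k₀, h1]
    refine Finset.sum_congr rfl fun k _ => ?_
    show F' k * F' (k⁻¹ * k₀) = specFun cB (ι k) * specFun cB ((ι k)⁻¹ * ι k₀)
    rw [← map_inv, ← map_mul, hF'v, hF'v]
  obtain ⟨c', hc'⟩ : ∃ c' : IrrCharacter K → ℂ, c' = fun θ : IrrCharacter K =>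
      ((θ : K → ℂ) 1)⁻¹ * ∑ k : K, F' k * (θ : K → ℂ) k := ⟨_, rfl⟩
  have hspec' : ∀ k, specFun c' k = F' k := by
    intro k
    rw [hc']
    exact congrFun (specFun_cvec F' hF'cl) k
  have hc'S : c' ∈ specRing M K := fun k => by
    rw [hspec', hF'v]
    exact hcBS (ι k)
  have hc'A : c' * indA = c' := by
    apply bp_specFun_inj
    intro x
    rw [specFun_mul, hspec', ← hF'conv x]
    exact Finset.sum_congr rfl fun h _ => by rw [hspec']
  have hc'idem : c' * c' = c' := by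
    apply bp_specFun_inj
    intro x
    rw [specFun_mul, hspec', ← hF'conv2 x]
    exact Finset.sum_congr rfl fun h _ => by rw [hspec', hspec']
  have hc'val : ∀ θ, c' θ = 0 ∨ c' θ = 1 := by
    intro θ
    have h1 : c' θ * c' θ = c' θ := congrFun hc'idem θ
    have h3 : c' θ * (c' θ - 1) = 0 := by rw [mul_sub, h1, mul_one, sub_self]
    rcases mul_eq_zero.mp h3 with h4 | h4
    · exact Or.inl h4
    · exact Or.inr (sub_eq_zero.mp h4)
  have hc'const : ∀ θ ψ : IrrCharacter K, SameBlock M (θ : K → ℂ) (ψ : K → ℂ) →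
      c' θ = 1 → c' ψ = 1 := by
    intro θ ψ hsame hθ
    rcases hc'val ψ with h2 | h2
    · exfalso
      have h3 := spec_congr hc'S hsame
      rw [hθ, h2, sub_zero] at h3
      exact not_memLocalIdeal_one h3
    · exact h2
  have hc'stab : ∀ (y : Y) (θ : IrrCharacter K), c' (y • θ) = c' θ := by
    intro y θ
    rw [hc']
    show (((y • θ : IrrCharacter K) : K → ℂ) 1)⁻¹
        * ∑ k : K, F' k * ((y • θ : IrrCharacter K) : K → ℂ) k
      = ((θ : K → ℂ) 1)⁻¹ * ∑ k : K, F' k * (θ : K → ℂ) k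
    rw [hsm, smul_one]
    congr 1
    rw [← Equiv.sum_comp (MulAction.toPerm y) (fun k : K =>
      F' k * ((y • θ : IrrCharacter K) : K → ℂ) k)]
    refine Finset.sum_congr rfl fun k _ => ?_
    show F' (y • k) * ((y • θ : IrrCharacter K) : K → ℂ) (y • k) = _
    rw [hsm, inv_smul_smul, hF'v, hF'v, hcompat]
    congr 1
    exact specFun_isClassFunction cB _ _
  have hc'ne : ∃ θ₁, c' θ₁ = 1 := by
    by_contra hcon
    push Not at hcon
    have hzero : c' = 0 := by
      funext θ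
      rcases hc'val θ with h4 | h4
      · exact h4
      · exact absurd h4 (hcon θ)
    have h5 : cB = 0 := by
      apply bp_specFun_inj
      intro g
      rw [specFun_zero]
      by_cases hg : g ∈ Set.range ι
      · obtain ⟨k, rfl⟩ := hg
        rw [← hF'v, ← hspec', hzero, specFun_zero]
      · exact hBout g hg
    have h6 := (hcBv χ₁).1 (sameBlock_refl _)
    rw [h5] at h6
    exact zero_ne_one h6
  obtain ⟨θ₁, hθ₁⟩ := hc'ne
  have hθ₁A : θ₁ ∈ A := by
    by_contra hcon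
    have h1 : c' θ₁ * indA θ₁ = c' θ₁ := congrFun hc'A θ₁
    rw [hind0 θ₁ hcon, mul_zero, hθ₁] at h1
    exact zero_ne_one h1
  obtain ⟨y₁, hy₁⟩ := (hA θ₁).mp hθ₁A
  have he1 : ∀ θ ∈ blockOf M (θ₀ : K → ℂ), c' θ = 1 := by
    intro θ hθ
    have h1 : c' (y₁ • θ₁) = 1 := by rw [hc'stab]; exact hθ₁
    exact hc'const (y₁ • θ₁) θ (sameBlock_trans' (sameBlock_symm hy₁) hθ) h1
  have hfin : c' = indA := by
    funext θ
    by_cases hθ : θ ∈ A
    · obtain ⟨y, hy⟩ := (hA θ).mp hθ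
      have h1 := he1 _ hy
      rw [htwsm, hc'stab] at h1
      rw [h1, hind1 θ hθ]
    · have h1 : c' θ * indA θ = c' θ := congrFun hc'A θ
      rw [hind0 θ hθ, mul_zero] at h1
      rw [← h1, hind0 θ hθ]
  refine ⟨χ₁, fun k => ?_⟩
  rw [hβB, hβA, ← hF'v, ← hspec', hfin]

end Abs

end Cfsg.Agent.Helper24
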