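import Mathlib
import Cfsg.Agent.Helper24.BP5

/-!
helper24: block idempotents over a normal `p`-subgroup as orbit sums of block idempotents of its
centralizer (concrete forms).
-/

set_option autoImplicit false

namespace Cfsg.Agent.Helper24

open Cfsg Cfsg.Agent.Helper5 Cfsg.Agent.Helper22

universe u

theorem bp_specFun_sum {X : Type u} [Group X] [Fintype X] {β : Type*} (T : Finset β)
    (a : β → IrrCharacter X → ℂ) (x : X) :
    specFun (∑ s ∈ T, a s) x = ∑ s ∈ T, specFun (a s) x := by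
  classical
  induction T using Finset.induction_on with
  | empty => rw [Finset.sum_empty, Finset.sum_empty, specFun_zero]
  | insert b T hb ih => rw [Finset.sum_insert hb, Finset.sum_insert hb, specFun_add, ih]

variable {G : Type u} [Group G]

/-- conjugate characters through an action by conjugation. -/
theorem bp_conj_tw (K : Subgroup G) [Fintype K] {Γ : Type u} [Group Γ]
    [MulDistribMulAction Γ K] (u : Γ) (x : G)
    (hux : ∀ k : K, ((u • k : K) : G) = x * k * x⁻¹) (χ χ' : IrrCharacter K) :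
    IsConjCharOf K x (χ : K → ℂ) (χ' : K → ℂ) ↔ χ' = bp_tw u χ := by
  constructor
  · intro h
    apply Subtype.ext
    funext k'
    show (χ' : K → ℂ) k' = (χ : K → ℂ) (u⁻¹ • k')
    exact h (u⁻¹ • k') k' (by rw [← hux, smul_inv_smul])
  · rintro rfl
    intro k k' hkk'
    show (χ : K → ℂ) (u⁻¹ • k') = (χ : K → ℂ) k
    have e : k' = u • k := Subtype.ext (by rw [hux]; exact hkk')
    rw [e, inv_smul_smul]

/-- the conjugation action of the whole group on a normal subgroup. -/
@[instance_reducible]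
def bp_mdaG (C : Subgroup G) (hC : C.Normal) : MulDistribMulAction G C where
  smul g k := ⟨g * k * g⁻¹, hC.conj_mem k k.2 g⟩
  one_smul k := Subtype.ext (by
    show (1 : G) * (k : G) * (1 : G)⁻¹ = k
    simp)
  mul_smul u v k := Subtype.ext (by
    show (u * v) * (k : G) * (u * v)⁻¹ = u * (v * k * v⁻¹) * u⁻¹
    simp [mul_assoc])
  smul_mul u k k' := Subtype.ext (by
    show u * ((k * k' : C) : G) * u⁻¹ = (u * k * u⁻¹) * (u * k' * u⁻¹)
    simp [mul_assoc])
  smul_one u := Subtype.ext (by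
    show u * ((1 : C) : G) * u⁻¹ = ((1 : C) : G)
    simp)

variable [Fintype G]

/-- over a subgroup `H` with `P ⊴ H` and `C_G(P) ≤ H`: the sum of the idempotents of the
`H`-conjugates of a block of `C_G(P)` is a block idempotent of `H`. -/
theorem bp_orbit_H {p : ℕ} [Fact p.Prime] {M : Ideal AlgInt} (hM : IsPModular p M)
    [hMp : M.IsPrime] (P H : Subgroup G) (hP : IsPGroup p P) (hPH : P ≤ H)
    (hHN : H ≤ Subgroup.normalizer (P : Set G))
    (hCH : Subgroup.centralizer (P : Set G) ≤ H)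
    (θ₀ : IrrCharacter (Subgroup.centralizer (P : Set G)))
    (A : Set (IrrCharacter (Subgroup.centralizer (P : Set G))))
    (hA : ∀ θ : IrrCharacter (Subgroup.centralizer (P : Set G)), θ ∈ A ↔ ∃ y ∈ H,
      ∃ θ' ∈ blockOf M (θ₀ : Subgroup.centralizer (P : Set G) → ℂ),
        IsConjCharOf (Subgroup.centralizer (P : Set G)) y
          (θ : Subgroup.centralizer (P : Set G) → ℂ)
          (θ' : Subgroup.centralizer (P : Set G) → ℂ)) :
    ∃ χ₁ : IrrCharacter H, ∀ h : H, blockCoeff (blockOf M (χ₁ : H → ℂ)) h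
      = subgroupBlockCoeff (Subgroup.centralizer (P : Set G)) A (h : G) := by
  classical
  haveI : Fintype H := Fintype.ofFinite _
  haveI : Fintype (Subgroup.centralizer (P : Set G)) := Fintype.ofFinite _
  have hHC : H ≤ Subgroup.normalizer
      ((Subgroup.centralizer (P : Set G) : Subgroup G) : Set G) :=
    fun u hu => pf_norm_cent P u (hHN hu)
  letI := bp_mda H (Subgroup.centralizer (P : Set G)) hHC
  have hsm : ∀ (u : H) (k : Subgroup.centralizer (P : Set G)),
      ((u • k : Subgroup.centralizer (P : Set G)) : G) = (u : G) * k * (u : G)⁻¹ :=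
    fun u k => rfl
  obtain ⟨ι, hιdef⟩ : ∃ ι : ↥(Subgroup.centralizer (P : Set G)) →* ↥H,
      ι = Subgroup.inclusion hCH := ⟨_, rfl⟩
  have hιv : ∀ y, ((ι y : H) : G) = (y : G) := by
    intro y
    rw [hιdef]
    rfl
  have hι : Function.Injective ι := by
    rw [hιdef]
    exact Subgroup.inclusion_injective hCH
  have hcompat : ∀ (y : H) (k : Subgroup.centralizer (P : Set G)),
      ι (y • k) = y * ι k * y⁻¹ := by
    intro y k
    apply Subtype.ext
    rw [hιv, hsm]
    show (y : G) * (k : G) * (y : G)⁻¹ = (y : G) * ((ι k : H) : G) * ((y⁻¹ : H) : G)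
    rw [hιv]
    rfl
  haveI hPn : (P.subgroupOf H).Normal := Subgroup.normal_subgroupOf_of_le_normalizer hHN
  have hsupp : ∀ (χ : IrrCharacter H) (g : H), g ∉ Set.range ι →
      blockCoeff (blockOf M (χ : H → ℂ)) g = 0 := by
    intro χ g hg
    refine blockCoeff_eq_zero_of_normal hM (P.subgroupOf H) hP.comap_subtype χ g
      (fun hgc => hg ?_)
    have h2 := (fm_cent_iff P H hPH g).mp hgc
    exact ⟨⟨(g : G), h2⟩, Subtype.ext (hιv _)⟩
  have hA' : ∀ θ : IrrCharacter (Subgroup.centralizer (P : Set G)), θ ∈ A ↔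
      ∃ y : H, bp_tw y θ ∈ blockOf M (θ₀ : Subgroup.centralizer (P : Set G) → ℂ) := by
    intro θ
    rw [hA]
    constructor
    · rintro ⟨y, hy, θ', hθ', hc⟩
      have h2 := (bp_conj_tw (Subgroup.centralizer (P : Set G)) (⟨y, hy⟩ : H) y
        (fun k => rfl) θ θ').mp hc
      exact ⟨⟨y, hy⟩, h2 ▸ hθ'⟩
    · rintro ⟨y, hy⟩
      exact ⟨(y : G), y.2, bp_tw y θ, hy,
        (bp_conj_tw (Subgroup.centralizer (P : Set G)) y (y : G) (fun k => rfl) θ _).mpr rfl⟩
  obtain ⟨χ₁, h1⟩ := bp_orbit_block (M := M) ι hι hcompat hsupp θ₀ A hA'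
  refine ⟨χ₁, fun h => ?_⟩
  by_cases hh : (h : G) ∈ Subgroup.centralizer (P : Set G)
  · unfold subgroupBlockCoeff
    rw [dif_pos hh, ← h1]
    congr 1
    exact Subtype.ext (hιv ⟨(h : G), hh⟩).symm
  · unfold subgroupBlockCoeff
    rw [dif_neg hh]
    refine hsupp χ₁ h ?_
    rintro ⟨k, rfl⟩
    exact hh (by rw [hιv]; exact k.2)

/-- a stable set of characters equals its orbit union. -/
theorem bp_stab_orbit (K : Subgroup G) (T : Subgroup G) (e : Set (IrrCharacter K))
    (hT : ∀ x ∈ T, StabilizesBlock K e x) (θ : IrrCharacter K) :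
    θ ∈ e ↔ ∃ y ∈ T, ∃ θ' ∈ e, IsConjCharOf K y (θ : K → ℂ) (θ' : K → ℂ) := by
  constructor
  · intro hθ
    refine ⟨1, T.one_mem, θ, hθ, ?_⟩
    intro k k' hkk'
    have e1 : k' = k := Subtype.ext (by rw [hkk']; group)
    rw [e1]
  · rintro ⟨y, hy, θ', hθ', hc⟩
    obtain ⟨χ'', hχ'', hc2⟩ := (hT y⁻¹ (T.inv_mem hy)).2 θ' hθ'
    have hyN := (hT y hy).1
    have e1 : χ'' = θ := by
      apply Subtype.ext
      funext k''
      have hk : y * (k'' : G) * y⁻¹ ∈ K := (Subgroup.mem_normalizer_iff.mp hyN _).mp k''.2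
      have h3 := hc2 ⟨y * (k'' : G) * y⁻¹, hk⟩ k'' (by
        show (k'' : G) = y⁻¹ * (y * (k'' : G) * y⁻¹) * y⁻¹⁻¹
        group)
      have h4 := hc k'' ⟨y * (k'' : G) * y⁻¹, hk⟩ rfl
      rw [h3, h4]
    rw [← e1]
    exact hχ''

/-- over a normal `p`-subgroup `P`: the idempotent of the block `B` a Brauer pair `(P, e)`
belongs to is the sum of the distinct conjugates of the idempotent of `e`. -/
theorem bp_orbit_G {p : ℕ} [Fact p.Prime] {M : Ideal AlgInt} (hM : IsPModular p M)
    [hMp : M.IsPrime] (P : Subgroup G) [hPn : P.Normal] (hP : IsPGroup p P)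
    (B : Set (IrrCharacter G)) (e : Set (IrrCharacter (Subgroup.centralizer (P : Set G))))
    (hBe : IsBrauerPairOf p M B P e) (T : Subgroup G)
    (hT : ∀ x : G, x ∈ T ↔ StabilizesBlock (Subgroup.centralizer (P : Set G)) e x) (g : G) :
    blockCoeff B g = (Nat.card T : ℂ)⁻¹
      * ∑ x : G, subgroupBlockCoeff (Subgroup.centralizer (P : Set G)) e (x⁻¹ * g * x) := by
  classical
  haveI : Fintype (Subgroup.centralizer (P : Set G)) := Fintype.ofFinite _
  have hCn : (Subgroup.centralizer (P : Set G)).Normal := inferInstance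
  letI := bp_mdaG (Subgroup.centralizer (P : Set G)) hCn
  have hsm : ∀ (u : G) (k : Subgroup.centralizer (P : Set G)),
      ((u • k : Subgroup.centralizer (P : Set G)) : G) = u * k * u⁻¹ := fun u k => rfl
  letI : MulAction G (IrrCharacter (Subgroup.centralizer (P : Set G))) :=
    bp_irrAct G (Subgroup.centralizer (P : Set G))
  have htwsm : ∀ (u : G) (η : IrrCharacter (Subgroup.centralizer (P : Set G))),
      bp_tw u η = u • η := fun _ _ => rfl
  obtain ⟨hPe, hB, hbr⟩ := hBe
  obtain ⟨θ₀, he⟩ := hPe.2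
  -- stabilizer in terms of the action
  have hTiff : ∀ x : G, x ∈ T ↔ ∀ χ ∈ e, x • χ ∈ e := by
    intro x
    rw [hT]
    constructor
    · rintro ⟨-, h⟩ χ hχ
      obtain ⟨χ', hχ', hc⟩ := h χ hχ
      have h2 := (bp_conj_tw (Subgroup.centralizer (P : Set G)) x x (fun k => rfl) χ χ').mp hc
      rw [← htwsm, ← h2]
      exact hχ'
    · intro h
      refine ⟨?_, fun χ hχ => ⟨x • χ, h χ hχ,
        (bp_conj_tw (Subgroup.centralizer (P : Set G)) x x (fun k => rfl) χ _).mpr rfl⟩⟩
      rw [Subgroup.mem_normalizer_iff]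
      intro k
      constructor
      · intro hk
        exact hCn.conj_mem k hk x
      · intro hk
        have h2 := hCn.conj_mem _ hk x⁻¹
        have e1 : x⁻¹ * (x * k * x⁻¹) * x⁻¹⁻¹ = k := by group
        rwa [e1] at h2
  have hTone : ∀ (x : G) (θ : IrrCharacter (Subgroup.centralizer (P : Set G))), θ ∈ e →
      x • θ ∈ e → x ∈ T := by
    intro x θ hθ hxθ
    rw [hTiff]
    intro χ hχ
    rw [he] at hθ hχ hxθ ⊢
    have h2 : SameBlock M (θ : Subgroup.centralizer (P : Set G) → ℂ)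
        (χ : Subgroup.centralizer (P : Set G) → ℂ) := sameBlock_trans' (sameBlock_symm hθ) hχ
    exact sameBlock_trans' hxθ (bp_tw_sameBlock x θ χ h2)
  obtain ⟨A, hAdef⟩ : ∃ A : Set (IrrCharacter (Subgroup.centralizer (P : Set G))),
      A = {θ | ∃ y : G, bp_tw y θ ∈ e} := ⟨_, rfl⟩
  have hA : ∀ θ, θ ∈ A ↔ ∃ y : G, bp_tw y θ
      ∈ blockOf M (θ₀ : Subgroup.centralizer (P : Set G) → ℂ) := by
    intro θ
    rw [hAdef, ← he]
    exact Iff.rfl
  have hsupp : ∀ (χ : IrrCharacter G) (g : G),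
      g ∉ Set.range (Subgroup.centralizer (P : Set G)).subtype →
      blockCoeff (blockOf M (χ : G → ℂ)) g = 0 := by
    intro χ g hg
    refine blockCoeff_eq_zero_of_normal hM P hP χ g (fun hgc => hg ⟨⟨g, hgc⟩, rfl⟩)
  obtain ⟨χ₁, h1⟩ := bp_orbit_block (M := M) (Subgroup.centralizer (P : Set G)).subtype
    (Subgroup.subtype_injective _) (fun y k => rfl) hsupp θ₀ A hA
  have heA : ∀ θ ∈ e, θ ∈ A := by
    intro θ hθ
    rw [hAdef]
    exact ⟨1, by rw [htwsm, one_smul]; exact hθ⟩
  -- the block of χ₁ is B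
  have hB' : IsBrauerPairOf p M (blockOf M (χ₁ : G → ℂ)) P e := by
    refine ⟨hPe, ⟨χ₁, rfl⟩, fun ξ hξ => ?_⟩
    have e1 : brauerOmega P (blockCoeff (blockOf M (χ₁ : G → ℂ)))
        (ξ : Subgroup.centralizer (P : Set G) → ℂ)
        = brauerOmega P (subgroupBlockCoeff (Subgroup.centralizer (P : Set G)) A)
          (ξ : Subgroup.centralizer (P : Set G) → ℂ) := by
      unfold brauerOmega
      refine finsum_congr fun x => ?_
      have e2 : subgroupBlockCoeff (Subgroup.centralizer (P : Set G)) A (x : G)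
          = blockCoeff A x := by
        unfold subgroupBlockCoeff
        rw [dif_pos x.2]
      rw [e2, ← h1 x]
      rfl
    rw [e1, (bp_omega_self P A ξ).1 (heA ξ hξ), sub_self]
    exact memLocalIdeal_zero hMp.ne_top
  have hBeq : B = blockOf M (χ₁ : G → ℂ) :=
    (brauerPair_unique_block hM P e hPe).unique ⟨hPe, hB, hbr⟩ hB'
  rw [hBeq]
  by_cases hg : g ∈ Subgroup.centralizer (P : Set G)
  · have h2 := h1 ⟨g, hg⟩
    have h3 : blockCoeff (blockOf M (χ₁ : G → ℂ)) g = blockCoeff A ⟨g, hg⟩ := h2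
    rw [h3]
    obtain ⟨inde, hinde⟩ : ∃ inde : IrrCharacter (Subgroup.centralizer (P : Set G)) → ℂ,
        inde = fun θ => if θ ∈ e then 1 else 0 := ⟨_, rfl⟩
    have hβe : ∀ k, blockCoeff e k = specFun inde k :=
      blockCoeff_eq_specFun e inde (fun θ h => by rw [hinde]; exact if_pos h)
        (fun θ h => by rw [hinde]; exact if_neg h)
    obtain ⟨indA, hindA⟩ : ∃ indA : IrrCharacter (Subgroup.centralizer (P : Set G)) → ℂ,
        indA = fun θ => if θ ∈ A then 1 else 0 := ⟨_, rfl⟩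
    have hβA : ∀ k, blockCoeff A k = specFun indA k :=
      blockCoeff_eq_specFun A indA (fun θ h => by rw [hindA]; exact if_pos h)
        (fun θ h => by rw [hindA]; exact if_neg h)
    have hterm : ∀ x : G, subgroupBlockCoeff (Subgroup.centralizer (P : Set G)) e (x⁻¹ * g * x)
        = specFun (fun θ => inde (bp_tw x⁻¹ θ)) (⟨g, hg⟩ : Subgroup.centralizer (P : Set G)) := by
      intro x
      rw [bp_specFun_tw x inde ⟨g, hg⟩, ← hβe]
      have hk : x⁻¹ * g * x ∈ Subgroup.centralizer (P : Set G) := by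
        have h4 := hCn.conj_mem g hg x⁻¹
        rwa [inv_inv] at h4
      unfold subgroupBlockCoeff
      rw [dif_pos hk]
      congr 1
      apply Subtype.ext
      rw [hsm]
      show x⁻¹ * g * x = x⁻¹ * g * x⁻¹⁻¹
      rw [inv_inv]
    rw [Finset.sum_congr rfl fun x _ => hterm x, ← bp_specFun_sum, ← specFun_smul, hβA]
    congr 1
    funext θ
    rw [Finset.sum_apply, hindA]
    show (if θ ∈ A then (1 : ℂ) else 0) = (Nat.card T : ℂ)⁻¹ * ∑ x : G, inde (bp_tw x⁻¹ θ)
    by_cases hθ : θ ∈ A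
    · rw [if_pos hθ]
      rw [hAdef] at hθ
      obtain ⟨y₀, hy₀⟩ := hθ
      have hcount : ∀ x : G, inde (bp_tw x⁻¹ θ) = if y₀ * x ∈ T then 1 else 0 := by
        intro x
        rw [hinde]
        show (if bp_tw x⁻¹ θ ∈ e then (1 : ℂ) else 0) = _
        refine if_congr ?_ rfl rfl
        constructor
        · intro h5
          refine hTone (y₀ * x) (bp_tw x⁻¹ θ) h5 ?_
          rw [htwsm, ← mul_smul, mul_assoc, mul_inv_cancel, mul_one, ← htwsm]
          exact hy₀
        · intro h5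
          have h6 := (hTiff _).mp (T.inv_mem h5) (bp_tw y₀ θ) hy₀
          rw [htwsm, ← mul_smul, mul_inv_rev, inv_mul_cancel_right] at h6
          rw [htwsm]
          exact h6
      have hs : ∑ x : G, (if y₀ * x ∈ T then (1 : ℂ) else 0)
          = ∑ x : G, if x ∈ T then (1 : ℂ) else 0 :=
        Equiv.sum_comp (Equiv.mulLeft y₀) (fun x : G => if x ∈ T then (1 : ℂ) else 0)
      rw [Finset.sum_congr rfl fun x _ => hcount x, hs, Finset.sum_boole]
      have hcard : ((Finset.univ.filter (fun x : G => x ∈ T)).card : ℂ) = (Nat.card T : ℂ) := by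
        congr 1
        rw [Nat.card_eq_fintype_card, Fintype.card_subtype]
      rw [hcard]
      have hT0 : (Nat.card T : ℂ) ≠ 0 := Nat.cast_ne_zero.mpr Nat.card_pos.ne'
      field_simp
    · rw [if_neg hθ]
      have hz : ∀ x : G, inde (bp_tw x⁻¹ θ) = 0 := by
        intro x
        rw [hinde]
        refine if_neg fun h5 => hθ ?_
        rw [hAdef]
        exact ⟨x⁻¹, h5⟩
      rw [Finset.sum_eq_zero fun x _ => hz x, mul_zero]
  · have h2 : blockCoeff (blockOf M (χ₁ : G → ℂ)) g = 0 :=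
      blockCoeff_eq_zero_of_normal hM P hP χ₁ g hg
    rw [h2]
    have hz : ∀ x : G, subgroupBlockCoeff (Subgroup.centralizer (P : Set G)) e (x⁻¹ * g * x)
        = 0 := by
      intro x
      unfold subgroupBlockCoeff
      refine dif_neg fun h5 => hg ?_
      have h6 := hCn.conj_mem _ h5 x
      have e1 : x * (x⁻¹ * g * x) * x⁻¹ = g := by group
      rwa [e1] at h6
    rw [Finset.sum_eq_zero fun x _ => hz x, mul_zero]

end Cfsg.Agent.Helper24
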