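import Mathlib
import Cfsg.Agent.Helper24.BP6

/-!
helper24: Brauer pairs: going up.  A stable block whose Brauer-map image at a larger `p`-subgroup
is nonzero has a Brauer pair above it.
-/

set_option autoImplicit false

namespace Cfsg.Agent.Helper24

open Cfsg Cfsg.Agent.Helper5 Cfsg.Agent.Helper22

universe u

section Abs

variable {X : Type u} [Group X] [Fintype X] {Γ : Type u} [Group Γ] [MulDistribMulAction Γ X]
  {C : Type u} [Group C] [Fintype C]

/-- pointwise multiplicativity of the Brauer map, modulo the local ideal. -/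
theorem bp_conv_loc {p : ℕ} [Fact p.Prime] {M : Ideal AlgInt} (hM : IsPModular p M)
    [hMp : M.IsPrime] (hΓ : IsPGroup p Γ) (ι : C →* X) (hι : Function.Injective ι)
    (hfix : ∀ x : X, x ∈ Set.range ι ↔ ∀ u : Γ, u • x = x)
    (a b : IrrCharacter X → ℂ) (ha : a ∈ bp_S M Γ X) (hb : b ∈ bp_S M Γ X) (y : C) :
    MemLocalIdeal M (specFun (a * b) (ι y)
      - ∑ z : C, specFun a (ι z) * specFun b (ι (z⁻¹ * y))) := by
  classical
  have hTval : specFun (a * b) (ι y) - ∑ z : C, specFun a (ι z) * specFun b (ι (z⁻¹ * y))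
      = ∑ h ∈ Finset.univ.filter (fun h : X => h ∉ Set.range ι),
        specFun a h * specFun b (h⁻¹ * ι y) := by
    rw [specFun_mul, ← Finset.sum_filter_add_sum_filter_not Finset.univ
      (fun h : X => h ∈ Set.range ι)]
    have e1 : Finset.univ.filter (fun h : X => h ∈ Set.range ι)
        = (Finset.univ : Finset C).image ι := by
      ext h
      simp
    rw [e1, Finset.sum_image (fun z _ z' _ hzz => hι hzz)]
    have e2 : ∀ z : C, specFun a (ι z) * specFun b ((ι z)⁻¹ * ι y)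
        = specFun a (ι z) * specFun b (ι (z⁻¹ * y)) := by
      intro z
      rw [map_mul, map_inv]
    rw [Finset.sum_congr rfl fun z _ => e2 z]
    ring
  rw [hTval]
  have hyfix : ∀ u : Γ, u • ι y = ι y := (hfix (ι y)).mp ⟨y, rfl⟩
  refine bp_pfix hM hΓ (fun h : X => specFun a h * specFun b (h⁻¹ * ι y)) ?_ _ _ le_rfl
    ?_ ?_ ?_
  · intro u h
    show specFun a (u • h) * specFun b ((u • h)⁻¹ * ι y) = _
    have e : (u • h)⁻¹ * ι y = u • (h⁻¹ * ι y) := by
      rw [smul_mul', smul_inv', hyfix u]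
    rw [e, ha.2, hb.2]
  · intro h _
    exact (locRing M).mul_mem (ha.1 h) (hb.1 _)
  · intro h hh u
    rw [Finset.mem_filter] at hh ⊢
    refine ⟨Finset.mem_univ _, fun hr => hh.2 ?_⟩
    have h1 := (hfix (u • h)).mp hr
    have h2 : h = u • h := by
      have := h1 u⁻¹
      rw [inv_smul_smul] at this
      exact this
    rw [h2]
    exact hr
  · intro h hh
    by_contra hcon
    push Not at hcon
    exact (Finset.mem_filter.mp hh).2 ((hfix h).mpr hcon)

/-- a spectral vector which is idempotent modulo the local ideal and has a coefficient outside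
the local ideal has a central character value outside the local ideal. -/
theorem bp_idem_nonzero {Y : Type u} [Group Y] [Fintype Y] {M : Ideal AlgInt}
    [hMp : M.IsPrime] (c : IrrCharacter Y → ℂ) (hc : c ∈ specRing M Y)
    (hidem : ∀ y, MemLocalIdeal M (specFun (c * c) y - specFun c y)) (y₀ : Y)
    (hy₀ : ¬ MemLocalIdeal M (specFun c y₀)) :
    ∃ ξ : IrrCharacter Y, ¬ MemLocalIdeal M (c ξ) := by
  classical
  by_contra hall
  push Not at hall
  obtain ⟨J, hJdef⟩ : ∃ J : (IrrCharacter Y → ℂ) → Prop,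
      J = fun a => ∃ d ∈ specRing M Y, a = (1 - c) * d := ⟨_, rfl⟩
  have hJ0 : J 0 := by
    rw [hJdef]
    exact ⟨0, (specRing M Y).zero_mem, (mul_zero _).symm⟩
  have hJadd : ∀ a b, J a → J b → J (a + b) := by
    intro a b ha hb
    rw [hJdef] at ha hb ⊢
    obtain ⟨d₁, hd₁, rfl⟩ := ha
    obtain ⟨d₂, hd₂, rfl⟩ := hb
    exact ⟨d₁ + d₂, (specRing M Y).add_mem hd₁ hd₂, (mul_add _ _ _).symm⟩
  have hJmul : ∀ a b, J a → b ∈ specRing M Y → J (a * b) := by
    intro a b ha hb
    rw [hJdef] at ha ⊢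
    obtain ⟨d₁, hd₁, rfl⟩ := ha
    exact ⟨d₁ * b, (specRing M Y).mul_mem hd₁ hb, mul_assoc _ _ _⟩
  have h1c : J (1 - c) := by
    rw [hJdef]
    exact ⟨1, (specRing M Y).one_mem, (mul_one _).symm⟩
  have hall' : ∀ χ₀ : IrrCharacter Y, ∀ cβ ∈ specRing M Y,
      (∀ ψ : IrrCharacter Y, (SameBlock M (χ₀ : Y → ℂ) (ψ : Y → ℂ) → cβ ψ = 1) ∧
        (¬ SameBlock M (χ₀ : Y → ℂ) (ψ : Y → ℂ) → cβ ψ = 0)) → J cβ := by
    intro χ₀ cβ hcβ hcv
    refine osima_ideal J hJ0 hJadd hJmul χ₀ (1 - c) h1c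
      ((specRing M Y).sub_mem (specRing M Y).one_mem hc) ?_ cβ hcβ hcv
    intro χ _ hmem
    have h2 := memLocalIdeal_add hMp hmem (hall χ)
    have e : (1 - c) χ + c χ = 1 := by
      show 1 - c χ + c χ = 1
      ring
    rw [e] at h2
    exact not_memLocalIdeal_one h2
  have hJ1 := one_mem_of_blocks J hJ0 hJadd hJmul hall'
  rw [hJdef] at hJ1
  obtain ⟨d, hd, h1d⟩ := hJ1
  have e : c = (c + -(c * c)) * d := by
    calc c = c * 1 := (mul_one c).symm
      _ = c * ((1 - c) * d) := by rw [← h1d]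
      _ = (c + -(c * c)) * d := by ring
  apply hy₀
  rw [e, specFun_mul]
  refine memLocalIdeal_sum _ _ fun h _ => ?_
  rw [mul_comm]
  refine memLocalIdeal_mul_left (hd _) ?_
  rw [specFun_add, specFun_neg]
  have h3 := memLocalIdeal_neg (hidem h)
  have e2 : -(specFun (c * c) h - specFun c h) = specFun c h + -specFun (c * c) h := by ring
  rwa [e2] at h3

/-- going up: a stable idempotent with a coefficient on the fixed points outside the local
ideal has a block of the fixed-point group above it. -/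
theorem bp_up {p : ℕ} [Fact p.Prime] {M : Ideal AlgInt} (hM : IsPModular p M)
    [hMp : M.IsPrime] (hΓ : IsPGroup p Γ) (ι : C →* X) (hι : Function.Injective ι)
    (hfix : ∀ x : X, x ∈ Set.range ι ↔ ∀ u : Γ, u • x = x)
    (cf : IrrCharacter X → ℂ) (hcf : cf ∈ bp_S M Γ X) (hidem : cf * cf = cf) (y₀ : C)
    (hy₀ : ¬ MemLocalIdeal M (specFun cf (ι y₀))) :
    ∃ ξ : IrrCharacter C, ∀ ξ' : IrrCharacter C, SameBlock M (ξ : C → ℂ) (ξ' : C → ℂ) →
      MemLocalIdeal M (bp_mu ι (ξ' : C → ℂ) cf - 1) := by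
  classical
  obtain ⟨F, hF⟩ : ∃ F : C → ℂ, F = fun y => specFun cf (ι y) := ⟨_, rfl⟩
  have hFv : ∀ y, F y = specFun cf (ι y) := fun y => by rw [hF]
  have hFcl : IsClassFunction C F := by
    rw [hF]
    exact bp_res_class ι cf
  obtain ⟨c, hc⟩ : ∃ c : IrrCharacter C → ℂ, c = fun ξ : IrrCharacter C =>
      ((ξ : C → ℂ) 1)⁻¹ * ∑ y : C, F y * (ξ : C → ℂ) y := ⟨_, rfl⟩
  have hcμ : ∀ ξ : IrrCharacter C, c ξ = bp_mu ι (ξ : C → ℂ) cf := by
    intro ξ
    rw [hc, hF]
    rfl
  have hspec : ∀ y, specFun c y = F y := by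
    intro y
    rw [hc]
    exact congrFun (specFun_cvec F hFcl) y
  have hcS : c ∈ specRing M C := fun y => by
    rw [hspec, hFv]
    exact hcf.1 (ι y)
  have hidem' : ∀ y, MemLocalIdeal M (specFun (c * c) y - specFun c y) := by
    intro y
    have h1 := bp_conv_loc hM hΓ ι hι hfix cf cf hcf hcf y
    rw [hidem] at h1
    have h2 := memLocalIdeal_neg h1
    have e : -(specFun cf (ι y) - ∑ z : C, specFun cf (ι z) * specFun cf (ι (z⁻¹ * y)))
        = specFun (c * c) y - specFun c y := by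
      have e3 : ∑ z : C, specFun c z * specFun c (z⁻¹ * y)
          = ∑ z : C, specFun cf (ι z) * specFun cf (ι (z⁻¹ * y)) :=
        Finset.sum_congr rfl fun z _ => by rw [hspec, hspec, hFv, hFv]
      rw [specFun_mul, hspec, hFv, e3]
      ring
    rwa [e] at h2
  obtain ⟨ξ, hξ⟩ := bp_idem_nonzero c hcS hidem' y₀ (by rw [hspec, hFv]; exact hy₀)
  rw [hcμ] at hξ
  have hμR : MemLocalRing M (bp_mu ι (ξ : C → ℂ) cf) := bp_mu_mem ι ξ cf hcf.1
  have hμ1 : MemLocalIdeal M (bp_mu ι (ξ : C → ℂ) cf - 1) := by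
    by_contra hcon
    have h2 := bp_mu_mul hM hΓ ι hι hfix ξ cf cf hcf hcf
    rw [hidem] at h2
    have h4 := not_memLocalIdeal_mul hμR hξ hcon
    have h5 := memLocalIdeal_neg h2
    have e : -(bp_mu ι (ξ : C → ℂ) cf - bp_mu ι (ξ : C → ℂ) cf * bp_mu ι (ξ : C → ℂ) cf)
        = bp_mu ι (ξ : C → ℂ) cf * (bp_mu ι (ξ : C → ℂ) cf - 1) := by ring
    rw [e] at h5
    exact h4 h5
  refine ⟨ξ, fun ξ' hξ' => ?_⟩
  have h2 : MemLocalIdeal M (bp_mu ι (ξ : C → ℂ) cf - bp_mu ι (ξ' : C → ℂ) cf) :=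
    classFun_congr (bp_res_class ι cf) (fun y => hcf.1 (ι y)) hξ'
  have h3 := memLocalIdeal_sub hμ1 h2
  have e : bp_mu ι (ξ : C → ℂ) cf - 1 - (bp_mu ι (ξ : C → ℂ) cf - bp_mu ι (ξ' : C → ℂ) cf)
      = bp_mu ι (ξ' : C → ℂ) cf - 1 := by ring
  rwa [e] at h3

end Abs

variable {G : Type u} [Group G] [Fintype G]

/-- going up, concretely: a Brauer pair `(P, e)`, a `p`-subgroup `R` with `P ⊴ R` stabilizing
`e`, and an element of `C_G(R)` at which the idempotent of `e` has a coefficient outside the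
local ideal: then some Brauer pair on `R` lies normally above `(P, e)`. -/
theorem bp_up' {p : ℕ} [Fact p.Prime] {M : Ideal AlgInt} (hM : IsPModular p M)
    [hMp : M.IsPrime] (P R : Subgroup G)
    (e : Set (IrrCharacter (Subgroup.centralizer (P : Set G))))
    (hPe : IsBrauerPair p M P e) (hR : IsPGroup p R) (hPR : P ≤ R)
    (hRN : R ≤ Subgroup.normalizer (P : Set G))
    (hst : ∀ x ∈ R, StabilizesBlock (Subgroup.centralizer (P : Set G)) e x)
    (g₂ : G) (hg₂ : g₂ ∈ Subgroup.centralizer (R : Set G))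
    (hne : ¬ MemLocalIdeal M (subgroupBlockCoeff (Subgroup.centralizer (P : Set G)) e g₂)) :
    ∃ g : Set (IrrCharacter (Subgroup.centralizer (R : Set G))),
      IsNormalSubpair p M P e R g := by
  classical
  obtain ⟨η₀, he⟩ := hPe.2
  obtain ⟨K, hK⟩ : ∃ K : Subgroup G, K = Subgroup.centralizer (P : Set G) := ⟨_, rfl⟩
  have hN : R ≤ Subgroup.normalizer (K : Set G) := by
    rw [hK]
    exact fun u hu => pf_norm_cent P u (hRN hu)
  have hCK : Subgroup.centralizer (R : Set G) ≤ K := by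
    rw [hK]
    exact Subgroup.centralizer_le hPR
  haveI : Fintype K := Fintype.ofFinite _
  haveI : Fintype (Subgroup.centralizer (R : Set G)) := Fintype.ofFinite _
  subst hK
  letI := bp_mda R (Subgroup.centralizer (P : Set G)) hN
  have hsm : ∀ (u : R) (k : Subgroup.centralizer (P : Set G)),
      ((u • k : Subgroup.centralizer (P : Set G)) : G) = (u : G) * k * (u : G)⁻¹ :=
    fun u k => rfl
  obtain ⟨ι, hιdef⟩ : ∃ ι : ↥(Subgroup.centralizer (R : Set G))
      →* ↥(Subgroup.centralizer (P : Set G)), ι = Subgroup.inclusion hCK := ⟨_, rfl⟩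
  have hιv : ∀ y, ((ι y : Subgroup.centralizer (P : Set G)) : G) = (y : G) := by
    intro y
    rw [hιdef]
    rfl
  have hι : Function.Injective ι := by
    rw [hιdef]
    exact Subgroup.inclusion_injective hCK
  have hfix : ∀ x : Subgroup.centralizer (P : Set G), x ∈ Set.range ι ↔ ∀ u : R, u • x = x := by
    intro x
    constructor
    · rintro ⟨y, rfl⟩ u
      apply Subtype.ext
      rw [hsm, hιv]
      have h2 := (Subgroup.mem_centralizer_iff.mp y.2) (u : G) u.2
      rw [h2]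
      group
    · intro hx
      have hxC : (x : G) ∈ Subgroup.centralizer (R : Set G) := by
        rw [Subgroup.mem_centralizer_iff]
        intro h hh
        have h2 := congrArg Subtype.val (hx ⟨h, hh⟩)
        rw [hsm] at h2
        have h3 : h * (x : G) = (h * (x : G) * h⁻¹) * h := by group
        rw [h3]
        exact congrArg (· * h) h2
      exact ⟨⟨(x : G), hxC⟩, Subtype.ext (hιv _)⟩
  obtain ⟨cf, hcfS, hcv⟩ := osima (M := M) η₀
  have hβ : ∀ g : Subgroup.centralizer (P : Set G),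
      blockCoeff (blockOf M (η₀ : Subgroup.centralizer (P : Set G) → ℂ)) g = specFun cf g :=
    blockCoeff_eq_specFun _ cf (fun ψ hψ => (hcv ψ).1 hψ) (fun ψ hψ => (hcv ψ).2 hψ)
  have hcf : cf ∈ bp_S M ↥R ↥(Subgroup.centralizer (P : Set G)) := by
    refine ⟨hcfS, fun u x => ?_⟩
    rw [← hβ, ← hβ, ← he]
    have hk' : (u : G) * (x : G) * (u : G)⁻¹ ∈ Subgroup.centralizer (P : Set G) := (u • x).2
    exact bp_stab_coeff _ e (u : G) (hst u u.2) (hst _ (R.inv_mem u.2)) (x : G) x.2 hk'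
  have hidem : cf * cf = cf := by
    funext ψ
    rw [Pi.mul_apply]
    by_cases hψ : SameBlock M (η₀ : Subgroup.centralizer (P : Set G) → ℂ)
        (ψ : Subgroup.centralizer (P : Set G) → ℂ)
    · rw [(hcv ψ).1 hψ, mul_one]
    · rw [(hcv ψ).2 hψ, mul_zero]
  have hsbc : ∀ y : Subgroup.centralizer (R : Set G),
      subgroupBlockCoeff (Subgroup.centralizer (P : Set G)) e (y : G) = specFun cf (ι y) := by
    intro y
    unfold subgroupBlockCoeff
    rw [dif_pos (hCK y.2), ← hβ, ← he]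
    congr 1
    exact Subtype.ext (hιv y).symm
  have hy₀ : ¬ MemLocalIdeal M (specFun cf (ι ⟨g₂, hg₂⟩)) := by
    rw [← hsbc]
    exact hne
  obtain ⟨ξ, hξ⟩ := bp_up hM (show IsPGroup p ↥R from hR) ι hι hfix cf hcf hidem ⟨g₂, hg₂⟩ hy₀
  refine ⟨blockOf M (ξ : Subgroup.centralizer (R : Set G) → ℂ), hPe, ⟨hR, ξ, rfl⟩, hPR, hRN,
    hst, fun ξ' hξ' => ?_⟩
  have hμcf : bp_mu ι (ξ' : Subgroup.centralizer (R : Set G) → ℂ) cf
      = brauerOmega R (subgroupBlockCoeff (Subgroup.centralizer (P : Set G)) e)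
        (ξ' : Subgroup.centralizer (R : Set G) → ℂ) := by
    unfold bp_mu brauerOmega
    rw [finsum_eq_sum_of_fintype, Finset.mul_sum]
    refine Finset.sum_congr rfl fun y _ => ?_
    rw [hsbc]
    ring
  rw [← hμcf]
  exact hξ ξ' hξ'

end Cfsg.Agent.Helper24
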