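import Mathlib
import Cfsg.Agent.Helper24.BP7

/-!
helper24: the subgroup of a maximal Brauer pair of a block is a defect group of the block.
-/

set_option autoImplicit false

namespace Cfsg.Agent.Helper24

open Cfsg Cfsg.Agent.Helper5 Cfsg.Agent.Helper22

open scoped Pointwise

universe u

variable {G : Type u} [Group G] [Fintype G]

set_option maxHeartbeats 1000000 in
/-- if `(P, e)` is a maximal Brauer pair of `B`, then `P` is a defect group of `B`. -/
theorem bp_max_defect {p : ℕ} [Fact p.Prime] {M : Ideal AlgInt} (hM : IsPModular p M)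
    [hMp : M.IsPrime] (B : Set (IrrCharacter G)) (P : Subgroup G)
    (e : Set (IrrCharacter (Subgroup.centralizer (P : Set G))))
    (hmax : IsMaximalBrauerPair p M B P e) : IsDefectGroup p M B P := by
  classical
  obtain ⟨hBe, hmaxi⟩ := hmax
  have hBe' := hBe
  obtain ⟨hPe, hB, hbr⟩ := hBe
  have hPe' := hPe
  obtain ⟨hP, θ₀, he⟩ := hPe
  obtain ⟨N, hNdef⟩ : ∃ N : Subgroup G, N = Subgroup.normalizer (P : Set G) := ⟨_, rfl⟩
  have hPN : P ≤ N := by rw [hNdef]; exact Subgroup.le_normalizer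
  have hNN : N ≤ Subgroup.normalizer (P : Set G) := by rw [hNdef]
  have hNN' : Subgroup.normalizer (P : Set G) ≤ N := by rw [hNdef]
  have hCN : Subgroup.centralizer (P : Set G) ≤ N := by
    rw [hNdef]
    exact Subgroup.centralizer_le_normalizer _
  haveI : Fintype N := Fintype.ofFinite _
  haveI : Fintype (Subgroup.centralizer (P : Set G)) := Fintype.ofFinite _
  have hNC : N ≤ Subgroup.normalizer
      ((Subgroup.centralizer (P : Set G) : Subgroup G) : Set G) :=
    fun u hu => pf_norm_cent P u (hNN hu)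
  letI := bp_mda N (Subgroup.centralizer (P : Set G)) hNC
  have hsm : ∀ (u : N) (k : Subgroup.centralizer (P : Set G)),
      ((u • k : Subgroup.centralizer (P : Set G)) : G) = (u : G) * k * (u : G)⁻¹ :=
    fun u k => rfl
  letI : MulAction N (IrrCharacter (Subgroup.centralizer (P : Set G))) :=
    bp_irrAct N (Subgroup.centralizer (P : Set G))
  have htwsm : ∀ (u : N) (η : IrrCharacter (Subgroup.centralizer (P : Set G))),
      bp_tw u η = u • η := fun _ _ => rfl
  obtain ⟨A, hAdef⟩ : ∃ A : Set (IrrCharacter (Subgroup.centralizer (P : Set G))),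
      A = {θ | ∃ y : N, y • θ ∈ e} := ⟨_, rfl⟩
  have hA : ∀ θ : IrrCharacter (Subgroup.centralizer (P : Set G)), θ ∈ A ↔ ∃ y ∈ N,
      ∃ θ' ∈ blockOf M (θ₀ : Subgroup.centralizer (P : Set G) → ℂ),
        IsConjCharOf (Subgroup.centralizer (P : Set G)) y
          (θ : Subgroup.centralizer (P : Set G) → ℂ)
          (θ' : Subgroup.centralizer (P : Set G) → ℂ) := by
    intro θ
    rw [hAdef, ← he]
    constructor
    · rintro ⟨y, hy⟩
      exact ⟨(y : G), y.2, y • θ, hy,
        (bp_conj_tw (Subgroup.centralizer (P : Set G)) y (y : G) (fun k => rfl) θ _).mpr rfl⟩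
    · rintro ⟨y, hy, θ', hθ', hc⟩
      have h2 := (bp_conj_tw (Subgroup.centralizer (P : Set G)) (⟨y, hy⟩ : N) y
        (fun k => rfl) θ θ').mp hc
      refine ⟨⟨y, hy⟩, ?_⟩
      rw [← htwsm, ← h2]
      exact hθ'
  obtain ⟨χ₁, h1⟩ := bp_orbit_H hM P N hP hPN hNN hCN θ₀ A hA
  obtain ⟨g₀, hg₀⟩ := exists_defect_class (M := M) χ₁
  have hg₀C : (g₀ : G) ∈ Subgroup.centralizer (P : Set G) := by
    by_contra hcon
    have h2 := h1 g₀
    unfold subgroupBlockCoeff at h2
    rw [dif_neg hcon] at h2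
    exact hg₀.2.1 (h2 ▸ memLocalIdeal_zero hMp.ne_top)
  obtain ⟨k₀, hk₀⟩ : ∃ k₀ : Subgroup.centralizer (P : Set G), k₀ = ⟨(g₀ : G), hg₀C⟩ :=
    ⟨_, rfl⟩
  have hAk₀ : ¬ MemLocalIdeal M (blockCoeff A k₀) := by
    have h2 := h1 g₀
    unfold subgroupBlockCoeff at h2
    rw [dif_pos hg₀C] at h2
    rw [hk₀, ← h2]
    exact hg₀.2.1
  obtain ⟨R₀⟩ : Nonempty (Sylow p (Subgroup.centralizer ({g₀} : Set N))) := inferInstance
  obtain ⟨R₁, hR₁⟩ : ∃ R₁ : Subgroup N, R₁ = (R₀ : Subgroup _).map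
      (Subgroup.centralizer ({g₀} : Set N)).subtype := ⟨_, rfl⟩
  have hR₁p : IsPGroup p R₁ := by
    rw [hR₁]
    exact R₀.isPGroup'.map _
  have hR₁c : ∀ r ∈ R₁, (r : G) * (g₀ : G) = (g₀ : G) * (r : G) := by
    intro r hr
    rw [hR₁] at hr
    obtain ⟨z, -, rfl⟩ := hr
    have h2 := Subgroup.mem_centralizer_singleton_iff.mp z.2
    exact congrArg Subtype.val h2
  have hP'R₁ : P.subgroupOf N ≤ R₁ := by
    have hPZ : P.subgroupOf N ≤ Subgroup.centralizer ({g₀} : Set N) := by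
      intro x hx
      rw [Subgroup.mem_centralizer_singleton_iff]
      apply Subtype.ext
      exact (Subgroup.mem_centralizer_iff.mp hg₀C) (x : G) (Subgroup.mem_subgroupOf.mp hx)
    haveI hn1 : (P.subgroupOf N).Normal := Subgroup.normal_subgroupOf_of_le_normalizer hNN
    haveI hn2 : ((P.subgroupOf N).subgroupOf (Subgroup.centralizer ({g₀} : Set N))).Normal :=
      hn1.subgroupOf _
    have hpp : IsPGroup p ((P.subgroupOf N).subgroupOf (Subgroup.centralizer ({g₀} : Set N))) :=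
      (hP.comap_subtype).comap_subtype
    have hle := IsPGroup.le_sylow_of_normal hpp R₀
    intro x hx
    rw [hR₁]
    exact ⟨⟨x, hPZ hx⟩, hle (Subgroup.mem_subgroupOf.mpr hx), rfl⟩
  -- indicators
  obtain ⟨ind, hind⟩ : ∃ ind : Set (IrrCharacter (Subgroup.centralizer (P : Set G))) →
      IrrCharacter (Subgroup.centralizer (P : Set G)) → ℂ,
      ind = fun s ψ => if ψ ∈ s then 1 else 0 := ⟨_, rfl⟩
  have hindv : ∀ s ψ, ind s ψ = if ψ ∈ s then 1 else 0 := by
    intro s ψ
    rw [hind]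
  have hβ : ∀ (s : Set (IrrCharacter (Subgroup.centralizer (P : Set G))))
      (k : Subgroup.centralizer (P : Set G)), blockCoeff s k = specFun (ind s) k := by
    intro s k
    exact blockCoeff_eq_specFun s (ind s) (fun ψ h => by rw [hindv]; exact if_pos h)
      (fun ψ h => by rw [hindv]; exact if_neg h) k
  have htw : ∀ (u : N) (s : Set (IrrCharacter (Subgroup.centralizer (P : Set G))))
      (x : Subgroup.centralizer (P : Set G)),
      specFun (ind (u • s)) x = specFun (ind s) (u⁻¹ • x) := by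
    intro u s x
    rw [← bp_specFun_tw u (ind s) x]
    congr 1
    funext θ
    rw [hindv, hindv, htwsm]
    exact if_congr Set.mem_smul_set_iff_inv_smul_mem rfl rfl
  have hblk : ∀ (u : N) (η : IrrCharacter (Subgroup.centralizer (P : Set G))),
      u • blockOf M (η : Subgroup.centralizer (P : Set G) → ℂ)
        = blockOf M ((u • η : IrrCharacter (Subgroup.centralizer (P : Set G))) :
          Subgroup.centralizer (P : Set G) → ℂ) := by
    intro u η
    ext ψ
    rw [Set.mem_smul_set_iff_inv_smul_mem]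
    constructor
    · intro h
      have h2 := bp_tw_sameBlock u η (u⁻¹ • ψ) h
      rw [htwsm, htwsm, smul_inv_smul] at h2
      exact h2
    · intro h
      have h2 := bp_tw_sameBlock u⁻¹ (u • η) ψ h
      rw [htwsm, htwsm, inv_smul_smul] at h2
      exact h2
  have hindS : ∀ η : IrrCharacter (Subgroup.centralizer (P : Set G)),
      ind (blockOf M (η : Subgroup.centralizer (P : Set G) → ℂ))
        ∈ specRing M (Subgroup.centralizer (P : Set G)) := by
    intro η
    obtain ⟨c, hc, hcv⟩ := osima (M := M) η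
    have e1 : ind (blockOf M (η : Subgroup.centralizer (P : Set G) → ℂ)) = c := by
      funext ψ
      rw [hindv]
      by_cases hψ : SameBlock M (η : Subgroup.centralizer (P : Set G) → ℂ)
          (ψ : Subgroup.centralizer (P : Set G) → ℂ)
      · rw [(hcv ψ).1 hψ]
        exact if_pos hψ
      · rw [(hcv ψ).2 hψ]
        exact if_neg hψ
    rw [e1]
    exact hc
  obtain ⟨Ω, hΩ⟩ : ∃ Ω : Finset (Set (IrrCharacter (Subgroup.centralizer (P : Set G)))),
      Ω = Finset.univ.filter (fun s => ∃ y : N, s = y • e) := ⟨_, rfl⟩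
  have hΩmem : ∀ s, s ∈ Ω ↔ ∃ y : N, s = y • e := by
    intro s
    rw [hΩ, Finset.mem_filter]
    exact ⟨fun h => h.2, fun h => ⟨Finset.mem_univ _, h⟩⟩
  have hΩblk : ∀ s ∈ Ω, ∃ η : IrrCharacter (Subgroup.centralizer (P : Set G)),
      s = blockOf M (η : Subgroup.centralizer (P : Set G) → ℂ) := by
    intro s hs
    obtain ⟨y, rfl⟩ := (hΩmem s).mp hs
    exact ⟨y • θ₀, by rw [he, hblk]⟩
  have hΩsum : (∑ s ∈ Ω, ind s) = ind A := by
    funext θ
    rw [Finset.sum_apply, hindv]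
    by_cases hθ : θ ∈ A
    · rw [if_pos hθ]
      rw [hAdef] at hθ
      obtain ⟨y, hy⟩ := hθ
      have hθs : θ ∈ y⁻¹ • e := by
        rw [Set.mem_smul_set_iff_inv_smul_mem, inv_inv]
        exact hy
      rw [Finset.sum_eq_single (y⁻¹ • e)]
      · rw [hindv]
        exact if_pos hθs
      · intro s hs hne
        rw [hindv]
        refine if_neg fun hθ' => hne ?_
        obtain ⟨η, rfl⟩ := hΩblk s hs
        obtain ⟨η', hη'⟩ := hΩblk (y⁻¹ • e) ((hΩmem _).mpr ⟨y⁻¹, rfl⟩)
        rw [hη'] at hθs ⊢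
        rw [blockOf_eq_of_sameBlock hθ', blockOf_eq_of_sameBlock hθs]
      · intro h
        exact absurd ((hΩmem _).mpr ⟨y⁻¹, rfl⟩) h
    · rw [if_neg hθ]
      refine Finset.sum_eq_zero fun s hs => ?_
      rw [hindv]
      refine if_neg fun hθ' => hθ ?_
      obtain ⟨y, rfl⟩ := (hΩmem s).mp hs
      rw [hAdef]
      exact ⟨y⁻¹, Set.mem_smul_set_iff_inv_smul_mem.mp hθ'⟩
  have hsumk₀ : ∑ s ∈ Ω, specFun (ind s) k₀ = blockCoeff A k₀ := by
    rw [← bp_specFun_sum, hΩsum, hβ]
  have hk₀fix : ∀ u : R₁, (u : N)⁻¹ • k₀ = k₀ := by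
    intro u
    apply Subtype.ext
    rw [hsm, hk₀]
    show ((u : N)⁻¹ : N).1 * (g₀ : G) * (((u : N)⁻¹ : N).1)⁻¹ = (g₀ : G)
    have h2 := hR₁c (u : N) u.2
    have e1 : (((u : N)⁻¹ : N) : G) = ((u : N) : G)⁻¹ := rfl
    rw [e1, inv_inv, mul_assoc, ← h2]
    group
  have hsmR : ∀ (u : R₁) (s : Set (IrrCharacter (Subgroup.centralizer (P : Set G)))),
      u • s = (u : N) • s := fun u s => rfl
  have hns : MemLocalIdeal M (∑ s ∈ Ω.filter (fun s => ¬ ∀ u : R₁, u • s = s),
      specFun (ind s) k₀) := by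
    refine bp_pfix hM hR₁p (fun s : Set (IrrCharacter (Subgroup.centralizer (P : Set G))) =>
      specFun (ind s) k₀) ?_ _ _ le_rfl ?_ ?_ ?_
    · intro u s
      show specFun (ind (u • s)) k₀ = specFun (ind s) k₀
      rw [hsmR, htw, hk₀fix]
    · intro s hs
      obtain ⟨η, rfl⟩ := hΩblk s (Finset.mem_filter.mp hs).1
      exact hindS η k₀
    · intro s hs u
      rw [Finset.mem_filter] at hs ⊢
      obtain ⟨y, rfl⟩ := (hΩmem s).mp hs.1
      refine ⟨(hΩmem _).mpr ⟨(u : N) * y, by rw [hsmR, mul_smul]⟩, fun hst => hs.2 ?_⟩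
      have e1 : y • e = u • (y • e) := by
        have h2 := hst u⁻¹
        rwa [inv_smul_smul] at h2
      intro v
      have h3 := hst v
      rw [← e1] at h3
      exact h3
    · intro s hs
      have h2 := (Finset.mem_filter.mp hs).2
      by_contra hcon
      push Not at hcon
      exact h2 hcon
  obtain ⟨s, hsΩ, hsst, hsne⟩ : ∃ s, s ∈ Ω ∧ (∀ u : R₁, u • s = s) ∧
      ¬ MemLocalIdeal M (specFun (ind s) k₀) := by
    by_contra hcon
    push Not at hcon
    have h2 : MemLocalIdeal M (∑ s ∈ Ω.filter (fun s => ∀ u : R₁, u • s = s),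
        specFun (ind s) k₀) := by
      refine memLocalIdeal_sum _ _ fun s hs => ?_
      rw [Finset.mem_filter] at hs
      exact hcon s hs.1 hs.2
    have h3 := memLocalIdeal_add hMp h2 hns
    rw [Finset.sum_filter_add_sum_filter_not, hsumk₀] at h3
    exact hAk₀ h3
  obtain ⟨y, rfl⟩ := (hΩmem s).mp hsΩ
  -- the conjugate subgroup
  obtain ⟨R₂, hR₂⟩ : ∃ R₂ : Subgroup G, R₂ = ((R₁.map N.subtype).map
      (MulAut.conj ((y : G)⁻¹)).toMonoidHom) := ⟨_, rfl⟩
  have hR₂mem : ∀ x : G, x ∈ R₂ ↔ ∃ r : N, r ∈ R₁ ∧ (y : G)⁻¹ * (r : G) * (y : G) = x := by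
    intro x
    rw [hR₂, pf_conj_mem]
    constructor
    · rintro ⟨q, hq, rfl⟩
      obtain ⟨r, hr, rfl⟩ := hq
      exact ⟨r, hr, by rw [inv_inv]; rfl⟩
    · rintro ⟨r, hr, rfl⟩
      exact ⟨(r : G), ⟨r, hr, rfl⟩, by rw [inv_inv]⟩
  have hR₂p : IsPGroup p R₂ := by
    rw [hR₂]
    exact (hR₁p.map _).map _
  have hPR₂ : P ≤ R₂ := by
    intro x hx
    have hx' : (y : G) * x * (y : G)⁻¹ ∈ P := (Subgroup.mem_normalizer_iff.mp (hNN y.2) x).mp hx
    refine (hR₂mem x).mpr ⟨⟨(y : G) * x * (y : G)⁻¹, hPN hx'⟩,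
      hP'R₁ (Subgroup.mem_subgroupOf.mpr hx'), ?_⟩
    show (y : G)⁻¹ * ((y : G) * x * (y : G)⁻¹) * (y : G) = x
    group
  have hR₂N' : R₂ ≤ N := by
    intro x hx
    obtain ⟨r, -, rfl⟩ := (hR₂mem x).mp hx
    exact N.mul_mem (N.mul_mem (N.inv_mem y.2) r.2) y.2
  have hR₂N : R₂ ≤ Subgroup.normalizer (P : Set G) := fun x hx => hNN (hR₂N' hx)
  have hst : ∀ x ∈ R₂, StabilizesBlock (Subgroup.centralizer (P : Set G)) e x := by
    intro x hx
    obtain ⟨r, hr, hrx⟩ := (hR₂mem x).mp hx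
    obtain ⟨x', hx'⟩ : ∃ x' : N, x' = y⁻¹ * r * y := ⟨_, rfl⟩
    have hx'v : (x' : G) = x := by
      rw [hx', ← hrx]
      rfl
    have hfixe : x' • e = e := by
      have h2 : (r : N) • (y • e) = y • e := hsst ⟨r, hr⟩
      rw [hx', mul_smul, mul_smul, h2, inv_smul_smul]
    refine ⟨hNC (hR₂N' hx), fun χ hχ => ⟨x' • χ, ?_, ?_⟩⟩
    · have h2 : x' • χ ∈ x' • e := Set.smul_mem_smul_set hχ
      rw [hfixe] at h2
      exact h2
    · exact (bp_conj_tw (Subgroup.centralizer (P : Set G)) x' x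
        (fun k => by rw [hsm, hx'v]) χ _).mpr rfl
  obtain ⟨g₂, hg₂def⟩ : ∃ g₂ : G, g₂ = (y : G)⁻¹ * (g₀ : G) * (y : G) := ⟨_, rfl⟩
  have hg₂ : g₂ ∈ Subgroup.centralizer (R₂ : Set G) := by
    rw [Subgroup.mem_centralizer_iff]
    intro x hx
    obtain ⟨r, hr, rfl⟩ := (hR₂mem x).mp hx
    have h2 := hR₁c r hr
    rw [hg₂def]
    calc (y : G)⁻¹ * (r : G) * (y : G) * ((y : G)⁻¹ * (g₀ : G) * (y : G))
        = (y : G)⁻¹ * ((r : G) * (g₀ : G)) * (y : G) := by group
      _ = (y : G)⁻¹ * ((g₀ : G) * (r : G)) * (y : G) := by rw [h2]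
      _ = (y : G)⁻¹ * (g₀ : G) * (y : G) * ((y : G)⁻¹ * (r : G) * (y : G)) := by group
  have hne : ¬ MemLocalIdeal M (subgroupBlockCoeff (Subgroup.centralizer (P : Set G)) e g₂) := by
    have hg₂C : g₂ ∈ Subgroup.centralizer (P : Set G) := by
      rw [hg₂def]
      have h2 := ((y⁻¹ : N) • k₀).2
      rw [hsm, hk₀] at h2
      have e1 : ((y⁻¹ : N) : G) = (y : G)⁻¹ := rfl
      rw [e1, inv_inv] at h2
      exact h2
    have e2 : subgroupBlockCoeff (Subgroup.centralizer (P : Set G)) e g₂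
        = specFun (ind (y • e)) k₀ := by
      unfold subgroupBlockCoeff
      rw [dif_pos hg₂C, htw, ← hβ]
      congr 1
      apply Subtype.ext
      rw [hsm, hk₀]
      show g₂ = ((y⁻¹ : N) : G) * (g₀ : G) * (((y⁻¹ : N) : G))⁻¹
      have e1 : ((y⁻¹ : N) : G) = (y : G)⁻¹ := rfl
      rw [e1, inv_inv]
      exact hg₂def
    rw [e2]
    exact hsne
  obtain ⟨g, hnorm⟩ := bp_up' hM P R₂ e hPe' hR₂p hPR₂ hR₂N hst g₂ hg₂ hne
  have hBR := (bp_of_normal hM R₂ P g e hnorm B hB).mpr hBe'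
  have hR₂P : R₂ = P := hmaxi R₂ g hBR (Relation.ReflTransGen.single hnorm)
  have hR₁eq : R₁ = P.subgroupOf N := by
    refine le_antisymm ?_ hP'R₁
    intro r hr
    have h2 : (y : G)⁻¹ * (r : G) * (y : G) ∈ R₂ := (hR₂mem _).mpr ⟨r, hr, rfl⟩
    rw [hR₂P] at h2
    have h3 := (Subgroup.mem_normalizer_iff.mp (hNN y.2) _).mp h2
    rw [Subgroup.mem_subgroupOf]
    have e1 : (y : G) * ((y : G)⁻¹ * (r : G) * (y : G)) * (y : G)⁻¹ = r := by group
    rwa [e1] at h3
  have hbD : IsDefectGroup p M (blockOf M (χ₁ : N → ℂ)) (P.subgroupOf N) :=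
    ⟨g₀, hg₀, R₀, by rw [← hR₁eq, hR₁]⟩
  obtain ⟨B', ⟨hB'blk, hB'D, hB'c⟩, -⟩ := (fm_main hM P N hP hNN').2
    (blockOf M (χ₁ : N → ℂ)) ⟨χ₁, rfl⟩ hbD
  have hB'pair : IsBrauerPairOf p M B' P e := by
    refine ⟨hPe', hB'blk, fun ξ hξ => ?_⟩
    have hξA : ξ ∈ A := by
      rw [hAdef]
      exact ⟨1, by rw [one_smul]; exact hξ⟩
    have e1 : brauerOmega P (subgroupBlockCoeff (Subgroup.centralizer (P : Set G)) A)
        (ξ : Subgroup.centralizer (P : Set G) → ℂ) = 1 := (bp_omega_self P A ξ).1 hξA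
    have h2 : MemLocalIdeal M (brauerOmega P (blockCoeff B')
        (ξ : Subgroup.centralizer (P : Set G) → ℂ)
        - brauerOmega P (subgroupBlockCoeff (Subgroup.centralizer (P : Set G)) A)
          (ξ : Subgroup.centralizer (P : Set G) → ℂ)) := by
      unfold brauerOmega
      rw [finsum_eq_sum_of_fintype, finsum_eq_sum_of_fintype, ← Finset.sum_sub_distrib]
      have e2 : ∑ x : Subgroup.centralizer (P : Set G),
          (blockCoeff B' (x : G) * (ξ : Subgroup.centralizer (P : Set G) → ℂ) x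
              / (ξ : Subgroup.centralizer (P : Set G) → ℂ) 1
            - subgroupBlockCoeff (Subgroup.centralizer (P : Set G)) A (x : G)
              * (ξ : Subgroup.centralizer (P : Set G) → ℂ) x
              / (ξ : Subgroup.centralizer (P : Set G) → ℂ) 1)
          = ((ξ : Subgroup.centralizer (P : Set G) → ℂ) 1)⁻¹
            * ∑ x : Subgroup.centralizer (P : Set G),
              (blockCoeff B' (x : G)
                - subgroupBlockCoeff (Subgroup.centralizer (P : Set G)) A (x : G))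
              * (ξ : Subgroup.centralizer (P : Set G) → ℂ) x := by
        rw [Finset.mul_sum]
        exact Finset.sum_congr rfl fun x _ => by ring
      rw [e2]
      refine classFun_char_memIdeal (fun x : Subgroup.centralizer (P : Set G) =>
        blockCoeff B' (x : G)
          - subgroupBlockCoeff (Subgroup.centralizer (P : Set G)) A (x : G)) ?_ ?_ ξ
      · intro k c
        show blockCoeff B' ((c * k * c⁻¹ : Subgroup.centralizer (P : Set G)) : G)
            - subgroupBlockCoeff (Subgroup.centralizer (P : Set G)) A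
              ((c * k * c⁻¹ : Subgroup.centralizer (P : Set G)) : G)
          = blockCoeff B' (k : G)
            - subgroupBlockCoeff (Subgroup.centralizer (P : Set G)) A (k : G)
        have e3 : ((c * k * c⁻¹ : Subgroup.centralizer (P : Set G)) : G)
            = (c : G) * (k : G) * (c : G)⁻¹ := rfl
        rw [e3, bp_coeff_class B' (k : G) (c : G),
          bp_sbc_class (Subgroup.centralizer (P : Set G)) A (k : G) (c : G) k.2 c.2]
      · intro x
        have h3 := hB'c (x : G) x.2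
        have h1x : blockCoeff (blockOf M (χ₁ : N → ℂ)) ⟨(x : G), hCN x.2⟩
            = subgroupBlockCoeff (Subgroup.centralizer (P : Set G)) A (x : G) :=
          h1 ⟨(x : G), hCN x.2⟩
        have e4 : subgroupBlockCoeff N (blockOf M (χ₁ : N → ℂ)) (x : G)
            = subgroupBlockCoeff (Subgroup.centralizer (P : Set G)) A (x : G) := by
          rw [← h1x]
          unfold subgroupBlockCoeff
          rw [dif_pos (hCN x.2)]
        rw [e4] at h3
        exact h3
    rw [e1] at h2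
    exact h2
  have hBeq : B = B' := (brauerPair_unique_block hM P e hPe').unique hBe' hB'pair
  rw [hBeq]
  exact hB'D

end Cfsg.Agent.Helper24
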