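import Mathlib
import Cfsg.Agent.Helper24.BP8

/-!
helper24: conjugation of Brauer pairs and of chains of normal inclusions.
-/

set_option autoImplicit false

namespace Cfsg.Agent.Helper24

open Cfsg Cfsg.Agent.Helper5 Cfsg.Agent.Helper22

universe u

variable {G : Type u} [Group G]

/-- `Q'` is the conjugate of `Q` by `z`. -/
def bc_sub (z : G) (Q Q' : Subgroup G) : Prop := ∀ g, g ∈ Q' ↔ ∃ q ∈ Q, z * q * z⁻¹ = g

theorem bc_sub_map (z : G) (Q : Subgroup G) :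
    bc_sub z Q (Q.map (MulAut.conj z).toMonoidHom) := fun g => pf_conj_mem Q z g

theorem bc_sub_eq {z : G} {Q Q' : Subgroup G} (h : bc_sub z Q Q') :
    Q' = Q.map (MulAut.conj z).toMonoidHom := by
  ext g
  rw [h g, pf_conj_mem]

theorem bc_sub_inv {z : G} {Q Q' : Subgroup G} (h : bc_sub z Q Q') : bc_sub z⁻¹ Q' Q := by
  intro g
  constructor
  · intro hg
    exact ⟨z * g * z⁻¹, (h _).mpr ⟨g, hg, rfl⟩, by group⟩
  · rintro ⟨q', hq', rfl⟩
    obtain ⟨q, hq, rfl⟩ := (h q').mp hq'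
    have e : z⁻¹ * (z * q * z⁻¹) * z⁻¹⁻¹ = q := by group
    rw [e]
    exact hq

theorem bc_sub_mul {x y : G} {Q Q' Q'' : Subgroup G} (h1 : bc_sub x Q Q')
    (h2 : bc_sub y Q' Q'') : bc_sub (y * x) Q Q'' := by
  intro g
  rw [h2 g]
  constructor
  · rintro ⟨q', hq', rfl⟩
    obtain ⟨q, hq, rfl⟩ := (h1 q').mp hq'
    exact ⟨q, hq, by group⟩
  · rintro ⟨q, hq, rfl⟩
    exact ⟨x * q * x⁻¹, (h1 _).mpr ⟨q, hq, rfl⟩, by group⟩

theorem bc_cent {z : G} {Q Q' : Subgroup G} (h : bc_sub z Q Q') (c : G)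
    (hc : c ∈ (Subgroup.centralizer (Q : Set G))) : z * c * z⁻¹ ∈ (Subgroup.centralizer (Q' : Set G)) := by
  rw [Subgroup.mem_centralizer_iff] at hc ⊢
  intro g hg
  obtain ⟨q, hq, rfl⟩ := (h g).mp hg
  have h3 := hc q hq
  calc z * q * z⁻¹ * (z * c * z⁻¹) = z * (q * c) * z⁻¹ := by group
    _ = z * (c * q) * z⁻¹ := by rw [h3]
    _ = z * c * z⁻¹ * (z * q * z⁻¹) := by group

theorem bc_cent' {z : G} {Q Q' : Subgroup G} (h : bc_sub z Q Q') (c : G)
    (hc : c ∈ (Subgroup.centralizer (Q' : Set G))) : z⁻¹ * c * z ∈ (Subgroup.centralizer (Q : Set G)) := by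
  have h2 := bc_cent (bc_sub_inv h) c hc
  rwa [inv_inv] at h2

/-- the isomorphism of centralizers given by conjugation. -/
def bc_equiv (z : G) (Q Q' : Subgroup G) (h : bc_sub z Q Q') :
    ↥(Subgroup.centralizer (Q : Set G)) ≃* ↥(Subgroup.centralizer (Q' : Set G)) where
  toFun c := ⟨z * c * z⁻¹, bc_cent h c c.2⟩
  invFun c' := ⟨z⁻¹ * c' * z, bc_cent' h c' c'.2⟩
  left_inv c := Subtype.ext (by
    show z⁻¹ * (z * (c : G) * z⁻¹) * z = c
    group)
  right_inv c' := Subtype.ext (by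
    show z * (z⁻¹ * (c' : G) * z) * z⁻¹ = c'
    group)
  map_mul' a b := Subtype.ext (by
    show z * ((a : G) * (b : G)) * z⁻¹ = (z * (a : G) * z⁻¹) * (z * (b : G) * z⁻¹)
    group)

/-- `f'` is the conjugate of `f` by `z`. -/
def bc_blk (z : G) (Q Q' : Subgroup G) (f : Set (IrrCharacter (Subgroup.centralizer (Q : Set G))))
    (f' : Set (IrrCharacter (Subgroup.centralizer (Q' : Set G)))) : Prop :=
  ∀ ξ' : IrrCharacter (Subgroup.centralizer (Q' : Set G)), ξ' ∈ f' ↔ ∃ ξ ∈ f, ∀ (c : (Subgroup.centralizer (Q : Set G))) (c' : (Subgroup.centralizer (Q' : Set G))),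
    (c' : G) = z * (c : G) * z⁻¹ → (ξ' : (Subgroup.centralizer (Q' : Set G)) → ℂ) c' = (ξ : (Subgroup.centralizer (Q : Set G)) → ℂ) c

theorem bc_blk_iff {z : G} {Q Q' : Subgroup G} (h : bc_sub z Q Q')
    (f : Set (IrrCharacter (Subgroup.centralizer (Q : Set G)))) (f' : Set (IrrCharacter (Subgroup.centralizer (Q' : Set G)))) :
    bc_blk z Q Q' f f' ↔ f' = fm_tr (bc_equiv z Q Q' h) f := by
  have key : ∀ ξ' : IrrCharacter (Subgroup.centralizer (Q' : Set G)), (∃ ξ ∈ f, ∀ (c : (Subgroup.centralizer (Q : Set G))) (c' : (Subgroup.centralizer (Q' : Set G))),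
      (c' : G) = z * (c : G) * z⁻¹ → (ξ' : (Subgroup.centralizer (Q' : Set G)) → ℂ) c' = (ξ : (Subgroup.centralizer (Q : Set G)) → ℂ) c)
      ↔ ξ' ∈ fm_tr (bc_equiv z Q Q' h) f := by
    intro ξ'
    rw [fm_tr_mem]
    constructor
    · rintro ⟨ξ, hξ, hc⟩
      have e : (⟨fun a => (ξ' : (Subgroup.centralizer (Q' : Set G)) → ℂ) (bc_equiv z Q Q' h a),
          isIrrCharacter_comp_mulEquiv (bc_equiv z Q Q' h) ξ'.2⟩ : IrrCharacter (Subgroup.centralizer (Q : Set G))) = ξ :=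
        Subtype.ext (funext fun a => hc a (bc_equiv z Q Q' h a) rfl)
      rw [e]
      exact hξ
    · intro hmem
      refine ⟨_, hmem, fun c c' hcc' => ?_⟩
      show (ξ' : (Subgroup.centralizer (Q' : Set G)) → ℂ) c' = (ξ' : (Subgroup.centralizer (Q' : Set G)) → ℂ) (bc_equiv z Q Q' h c)
      have e : c' = bc_equiv z Q Q' h c := Subtype.ext hcc'
      rw [e]
  constructor
  · intro hb
    ext ξ'
    rw [hb ξ', key]
  · intro hb ξ'
    rw [hb, key]

/-- conjugation of Brauer pair indices, as a relation. -/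
def bc_rel (z : G) (a a' : BrauerPairIdx G) : Prop :=
  bc_sub z a.1 a'.1 ∧ bc_blk z a.1 a'.1 a.2 a'.2

theorem bc_rel_cj (z : G) (a : BrauerPairIdx G) :
    bc_rel z a ⟨a.1.map (MulAut.conj z).toMonoidHom, conjBlock a.1 z a.2⟩ :=
  ⟨bc_sub_map z a.1, fun _ => Iff.rfl⟩

theorem bc_rel_unique {z : G} {a a' a'' : BrauerPairIdx G} (h1 : bc_rel z a a')
    (h2 : bc_rel z a a'') : a' = a'' := by
  obtain ⟨Q', f'⟩ := a'
  obtain ⟨Q'', f''⟩ := a''
  obtain ⟨h1s, h1b⟩ := h1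
  obtain ⟨h2s, h2b⟩ := h2
  have hQ : Q' = Q'' := by
    ext g
    exact (h1s g).trans (h2s g).symm
  subst hQ
  have hf : f' = f'' := Set.ext fun ξ => (h1b ξ).trans (h2b ξ).symm
  rw [hf]

theorem bc_rel_inv {z : G} {a a' : BrauerPairIdx G} (h : bc_rel z a a') : bc_rel z⁻¹ a' a := by
  obtain ⟨Q, f⟩ := a
  obtain ⟨Q', f'⟩ := a'
  obtain ⟨hs, hb⟩ := h
  have hs' : bc_sub z Q Q' := hs
  have hb' : bc_blk z Q Q' f f' := hb
  have hf' := (bc_blk_iff hs' f f').mp hb'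
  refine ⟨bc_sub_inv hs', ?_⟩
  show bc_blk z⁻¹ Q' Q f' f
  intro ξ
  constructor
  · intro hξ
    refine ⟨⟨fun b => (ξ : (Subgroup.centralizer (Q : Set G)) → ℂ) ((bc_equiv z Q Q' hs').symm b),
      isIrrCharacter_comp_mulEquiv (bc_equiv z Q Q' hs').symm ξ.2⟩, ?_, ?_⟩
    · rw [hf', fm_tr_mem]
      have e : (⟨fun a => ((⟨fun b => (ξ : (Subgroup.centralizer (Q : Set G)) → ℂ) ((bc_equiv z Q Q' hs').symm b),
          isIrrCharacter_comp_mulEquiv (bc_equiv z Q Q' hs').symm ξ.2⟩ :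
            IrrCharacter (Subgroup.centralizer (Q' : Set G))) : (Subgroup.centralizer (Q' : Set G)) → ℂ) (bc_equiv z Q Q' hs' a),
          isIrrCharacter_comp_mulEquiv (bc_equiv z Q Q' hs')
            (isIrrCharacter_comp_mulEquiv (bc_equiv z Q Q' hs').symm ξ.2)⟩ :
          IrrCharacter (Subgroup.centralizer (Q : Set G))) = ξ := by
        apply Subtype.ext
        funext a
        show (ξ : (Subgroup.centralizer (Q : Set G)) → ℂ) ((bc_equiv z Q Q' hs').symm (bc_equiv z Q Q' hs' a)) = _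
        rw [MulEquiv.symm_apply_apply]
      rw [e]
      exact hξ
    · intro c' c hcc'
      show (ξ : (Subgroup.centralizer (Q : Set G)) → ℂ) c = (ξ : (Subgroup.centralizer (Q : Set G)) → ℂ) ((bc_equiv z Q Q' hs').symm c')
      have e : c = (bc_equiv z Q Q' hs').symm c' := by
        apply Subtype.ext
        rw [hcc', inv_inv]
        rfl
      rw [e]
  · rintro ⟨ξ', hξ', hc⟩
    rw [hf', fm_tr_mem] at hξ'
    have e : (⟨fun a => (ξ' : (Subgroup.centralizer (Q' : Set G)) → ℂ) (bc_equiv z Q Q' hs' a),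
        isIrrCharacter_comp_mulEquiv (bc_equiv z Q Q' hs') ξ'.2⟩ : IrrCharacter (Subgroup.centralizer (Q : Set G))) = ξ := by
      apply Subtype.ext
      funext a
      exact (hc (bc_equiv z Q Q' hs' a) a (by
        show (a : G) = z⁻¹ * (z * (a : G) * z⁻¹) * z⁻¹⁻¹
        group)).symm
    rw [← e]
    exact hξ'

theorem bc_rel_mul {x y : G} {a a' a'' : BrauerPairIdx G} (h1 : bc_rel x a a')
    (h2 : bc_rel y a' a'') : bc_rel (y * x) a a'' := by
  obtain ⟨Q, f⟩ := a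
  obtain ⟨Q', f'⟩ := a'
  obtain ⟨Q'', f''⟩ := a''
  obtain ⟨h1s, h1b⟩ := h1
  obtain ⟨h2s, h2b⟩ := h2
  have h1s' : bc_sub x Q Q' := h1s
  have h2s' : bc_sub y Q' Q'' := h2s
  have h1b' : bc_blk x Q Q' f f' := h1b
  have h2b' : bc_blk y Q' Q'' f' f'' := h2b
  have hf' := (bc_blk_iff h1s' f f').mp h1b'
  have hf'' := (bc_blk_iff h2s' f' f'').mp h2b'
  have h3s : bc_sub (y * x) Q Q'' := bc_sub_mul h1s' h2s'
  refine ⟨h3s, ?_⟩
  show bc_blk (y * x) Q Q'' f f''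
  rw [bc_blk_iff h3s, hf'', hf']
  ext ξ''
  rw [fm_tr_mem, fm_tr_mem, fm_tr_mem]
  have e : (⟨fun a => ((⟨fun b => (ξ'' : (Subgroup.centralizer (Q'' : Set G)) → ℂ)
        (bc_equiv y Q' Q'' h2s' b), isIrrCharacter_comp_mulEquiv (bc_equiv y Q' Q'' h2s') ξ''.2⟩ :
        IrrCharacter (Subgroup.centralizer (Q' : Set G))) : (Subgroup.centralizer (Q' : Set G)) → ℂ) (bc_equiv x Q Q' h1s' a),
      isIrrCharacter_comp_mulEquiv (bc_equiv x Q Q' h1s')
        (isIrrCharacter_comp_mulEquiv (bc_equiv y Q' Q'' h2s') ξ''.2)⟩ : IrrCharacter (Subgroup.centralizer (Q : Set G)))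
      = ⟨fun a => (ξ'' : (Subgroup.centralizer (Q'' : Set G)) → ℂ) (bc_equiv (y * x) Q Q'' h3s a),
        isIrrCharacter_comp_mulEquiv (bc_equiv (y * x) Q Q'' h3s) ξ''.2⟩ := by
    apply Subtype.ext
    funext a
    show (ξ'' : (Subgroup.centralizer (Q'' : Set G)) → ℂ)
        (bc_equiv y Q' Q'' h2s' (bc_equiv x Q Q' h1s' a))
      = (ξ'' : (Subgroup.centralizer (Q'' : Set G)) → ℂ) (bc_equiv (y * x) Q Q'' h3s a)
    have e2 : bc_equiv y Q' Q'' h2s' (bc_equiv x Q Q' h1s' a) = bc_equiv (y * x) Q Q'' h3s a := by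
      apply Subtype.ext
      show y * (x * (a : G) * x⁻¹) * y⁻¹ = (y * x) * (a : G) * (y * x)⁻¹
      group
    rw [e2]
  rw [e]

variable [Fintype G]

/-- conjugation preserves normal inclusion of Brauer pairs. -/
theorem bc_normal {p : ℕ} {M : Ideal AlgInt} (z : G) (a b a' b' : BrauerPairIdx G)
    (h : NormalSubpairRel p M a b) (ha : bc_rel z a a') (hb : bc_rel z b b') :
    NormalSubpairRel p M a' b' := by
  obtain ⟨Q, f⟩ := a
  obtain ⟨P, e⟩ := b
  obtain ⟨Q', f'⟩ := a'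
  obtain ⟨P', e'⟩ := b'
  obtain ⟨hQs0, hfb0⟩ := ha
  obtain ⟨hPs0, heb0⟩ := hb
  have hQs : bc_sub z Q Q' := hQs0
  have hPs : bc_sub z P P' := hPs0
  have hfb : bc_blk z Q Q' f f' := hfb0
  have heb : bc_blk z P P' e e' := heb0
  have hf' := (bc_blk_iff hQs f f').mp hfb
  have he' := (bc_blk_iff hPs e e').mp heb
  have h' : IsNormalSubpair p M Q f P e := h
  obtain ⟨hQf, hPe, hQP, hPN, hst, hbr⟩ := h'
  show IsNormalSubpair p M Q' f' P' e'
  have hφQ : ∀ c : (Subgroup.centralizer (Q : Set G)), ((bc_equiv z Q Q' hQs c : (Subgroup.centralizer (Q' : Set G))) : G) = z * (c : G) * z⁻¹ := fun c => rfl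
  have hφQs : ∀ c' : (Subgroup.centralizer (Q' : Set G)), (((bc_equiv z Q Q' hQs).symm c' : (Subgroup.centralizer (Q : Set G))) : G) = z⁻¹ * (c' : G) * z :=
    fun c' => rfl
  have hφP : ∀ c : (Subgroup.centralizer (P : Set G)), ((bc_equiv z P P' hPs c : (Subgroup.centralizer (P' : Set G))) : G) = z * (c : G) * z⁻¹ := fun c => rfl
  have hPN' : ∀ u' ∈ P', u' ∈ Subgroup.normalizer (Q' : Set G) := by
    intro u' hu'
    obtain ⟨u, hu, rfl⟩ := (hPs u').mp hu'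
    have huN := hPN hu
    rw [Subgroup.mem_normalizer_iff]
    intro g
    constructor
    · intro hg
      obtain ⟨q, hq, rfl⟩ := (hQs g).mp hg
      exact (hQs _).mpr ⟨u * q * u⁻¹, (Subgroup.mem_normalizer_iff.mp huN q).mp hq, by group⟩
    · intro hg
      obtain ⟨q, hq, hqe⟩ := (hQs _).mp hg
      refine (hQs g).mpr ⟨u⁻¹ * q * u, bp_norm_inv Q u huN q hq, ?_⟩
      have e1 : g = (z * u * z⁻¹)⁻¹ * (z * q * z⁻¹) * (z * u * z⁻¹) := by
        rw [hqe]
        group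
      rw [e1]
      group
  refine ⟨⟨?_, ?_⟩, ⟨?_, ?_⟩, ?_, hPN', ?_, ?_⟩
  · rw [bc_sub_eq hQs]
    exact hQf.1.map _
  · rw [hf']
    exact fm_tr_isPBlock _ f hQf.2
  · rw [bc_sub_eq hPs]
    exact hPe.1.map _
  · rw [he']
    exact fm_tr_isPBlock _ e hPe.2
  · intro g hg
    obtain ⟨q, hq, rfl⟩ := (hQs g).mp hg
    exact (hPs _).mpr ⟨q, hQP hq, rfl⟩
  · intro u' hu'
    obtain ⟨u, hu, rfl⟩ := (hPs u').mp hu'
    obtain ⟨huN, hch⟩ := hst u hu
    refine ⟨pf_norm_cent Q' _ (hPN' _ hu'), fun χ' hχ' => ?_⟩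
    rw [hf', fm_tr_mem] at hχ'
    obtain ⟨χ₁, hχ₁, hc⟩ := hch _ hχ'
    refine ⟨⟨fun b => (χ₁ : (Subgroup.centralizer (Q : Set G)) → ℂ) ((bc_equiv z Q Q' hQs).symm b),
      isIrrCharacter_comp_mulEquiv (bc_equiv z Q Q' hQs).symm χ₁.2⟩, ?_, ?_⟩
    · rw [hf', fm_tr_mem]
      have e1 : (⟨fun a => ((⟨fun b => (χ₁ : (Subgroup.centralizer (Q : Set G)) → ℂ) ((bc_equiv z Q Q' hQs).symm b),
          isIrrCharacter_comp_mulEquiv (bc_equiv z Q Q' hQs).symm χ₁.2⟩ :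
            IrrCharacter (Subgroup.centralizer (Q' : Set G))) : (Subgroup.centralizer (Q' : Set G)) → ℂ) (bc_equiv z Q Q' hQs a),
          isIrrCharacter_comp_mulEquiv (bc_equiv z Q Q' hQs)
            (isIrrCharacter_comp_mulEquiv (bc_equiv z Q Q' hQs).symm χ₁.2)⟩ :
          IrrCharacter (Subgroup.centralizer (Q : Set G))) = χ₁ := by
        apply Subtype.ext
        funext a
        show (χ₁ : (Subgroup.centralizer (Q : Set G)) → ℂ) ((bc_equiv z Q Q' hQs).symm (bc_equiv z Q Q' hQs a)) = _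
        rw [MulEquiv.symm_apply_apply]
      rw [e1]
      exact hχ₁
    · intro k' k'' hkk
      show (χ₁ : (Subgroup.centralizer (Q : Set G)) → ℂ) ((bc_equiv z Q Q' hQs).symm k'') = (χ' : (Subgroup.centralizer (Q' : Set G)) → ℂ) k'
      have h3 := hc ((bc_equiv z Q Q' hQs).symm k') ((bc_equiv z Q Q' hQs).symm k'') (by
        rw [hφQs, hφQs, hkk]
        group)
      rw [h3]
      show (χ' : (Subgroup.centralizer (Q' : Set G)) → ℂ) (bc_equiv z Q Q' hQs ((bc_equiv z Q Q' hQs).symm k')) = _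
      rw [MulEquiv.apply_symm_apply]
  · intro ξ' hξ'
    rw [he', fm_tr_mem] at hξ'
    have h3 := hbr _ hξ'
    have e1 : brauerOmega P' (subgroupBlockCoeff (Subgroup.centralizer (Q' : Set G)) f') (ξ' : (Subgroup.centralizer (P' : Set G)) → ℂ)
        = brauerOmega P (subgroupBlockCoeff (Subgroup.centralizer (Q : Set G)) f)
          (fun a => (ξ' : (Subgroup.centralizer (P' : Set G)) → ℂ) (bc_equiv z P P' hPs a)) := by
      unfold brauerOmega
      rw [← finsum_comp_equiv (bc_equiv z P P' hPs).toEquiv]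
      refine finsum_congr fun x => ?_
      show subgroupBlockCoeff (Subgroup.centralizer (Q' : Set G)) f' ((bc_equiv z P P' hPs x : (Subgroup.centralizer (P' : Set G))) : G)
          * (ξ' : (Subgroup.centralizer (P' : Set G)) → ℂ) (bc_equiv z P P' hPs x) / (ξ' : (Subgroup.centralizer (P' : Set G)) → ℂ) 1
        = subgroupBlockCoeff (Subgroup.centralizer (Q : Set G)) f (x : G) * (ξ' : (Subgroup.centralizer (P' : Set G)) → ℂ) (bc_equiv z P P' hPs x)
          / (ξ' : (Subgroup.centralizer (P' : Set G)) → ℂ) (bc_equiv z P P' hPs 1)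
      rw [map_one]
      congr 2
      have hxQ : (x : G) ∈ (Subgroup.centralizer (Q : Set G)) := Subgroup.centralizer_le hQP x.2
      rw [hφP]
      unfold subgroupBlockCoeff
      rw [dif_pos hxQ, dif_pos (bc_cent hQs _ hxQ), hf']
      exact fm_tr_coeff (bc_equiv z Q Q' hQs) f ⟨(x : G), hxQ⟩
    rw [e1]
    exact h3

/-- conjugation preserves being a Brauer pair of a block. -/
theorem bc_pairOf {p : ℕ} {M : Ideal AlgInt} (z : G) (B : Set (IrrCharacter G))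
    (a a' : BrauerPairIdx G) (h : IsBrauerPairOf p M B a.1 a.2) (ha : bc_rel z a a') :
    IsBrauerPairOf p M B a'.1 a'.2 := by
  obtain ⟨Q, f⟩ := a
  obtain ⟨Q', f'⟩ := a'
  obtain ⟨hQs0, hfb0⟩ := ha
  have hQs : bc_sub z Q Q' := hQs0
  have hfb : bc_blk z Q Q' f f' := hfb0
  have hf' := (bc_blk_iff hQs f f').mp hfb
  have h' : IsBrauerPairOf p M B Q f := h
  obtain ⟨hQf, hB, hbr⟩ := h'
  show IsBrauerPairOf p M B Q' f'
  refine ⟨⟨?_, ?_⟩, hB, fun ξ' hξ' => ?_⟩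
  · rw [bc_sub_eq hQs]
    exact hQf.1.map _
  · rw [hf']
    exact fm_tr_isPBlock _ f hQf.2
  · rw [hf', fm_tr_mem] at hξ'
    have h3 := hbr _ hξ'
    have e1 : brauerOmega Q' (blockCoeff B) (ξ' : (Subgroup.centralizer (Q' : Set G)) → ℂ)
        = brauerOmega Q (blockCoeff B) (fun a => (ξ' : (Subgroup.centralizer (Q' : Set G)) → ℂ) (bc_equiv z Q Q' hQs a)) := by
      unfold brauerOmega
      rw [← finsum_comp_equiv (bc_equiv z Q Q' hQs).toEquiv]
      refine finsum_congr fun x => ?_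
      show blockCoeff B ((bc_equiv z Q Q' hQs x : (Subgroup.centralizer (Q' : Set G))) : G)
          * (ξ' : (Subgroup.centralizer (Q' : Set G)) → ℂ) (bc_equiv z Q Q' hQs x) / (ξ' : (Subgroup.centralizer (Q' : Set G)) → ℂ) 1
        = blockCoeff B (x : G) * (ξ' : (Subgroup.centralizer (Q' : Set G)) → ℂ) (bc_equiv z Q Q' hQs x)
          / (ξ' : (Subgroup.centralizer (Q' : Set G)) → ℂ) (bc_equiv z Q Q' hQs 1)
      rw [map_one]
      congr 2
      exact bp_coeff_class B (x : G) z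
    rw [e1]
    exact h3

/-- conjugation preserves inclusion of Brauer pairs. -/
theorem bc_chain {p : ℕ} {M : Ideal AlgInt} (z : G) (a b : BrauerPairIdx G)
    (h : Relation.ReflTransGen (NormalSubpairRel p M) a b) :
    ∀ a' b' : BrauerPairIdx G, bc_rel z a a' → bc_rel z b b' →
      Relation.ReflTransGen (NormalSubpairRel p M) a' b' := by
  induction h with
  | refl =>
    intro a' b' ha hb
    rw [bc_rel_unique ha hb]
  | tail _ hcb ih =>
    intro a' b' ha hb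
    exact Relation.ReflTransGen.tail (ih a' _ ha (bc_rel_cj z _))
      (bc_normal z _ _ _ _ hcb (bc_rel_cj z _) hb)

/-- conjugation preserves maximality of Brauer pairs. -/
theorem bc_max {p : ℕ} {M : Ideal AlgInt} (z : G) (B : Set (IrrCharacter G))
    (a a' : BrauerPairIdx G) (h : IsMaximalBrauerPair p M B a.1 a.2) (ha : bc_rel z a a') :
    IsMaximalBrauerPair p M B a'.1 a'.2 := by
  refine ⟨bc_pairOf z B a a' h.1 ha, fun R g hBR hle => ?_⟩
  have hle' : Relation.ReflTransGen (NormalSubpairRel p M) a' ⟨R, g⟩ := hle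
  have h2 := bc_chain z⁻¹ a' ⟨R, g⟩ hle' a _ (bc_rel_inv ha) (bc_rel_cj z⁻¹ ⟨R, g⟩)
  have h3 := bc_pairOf z⁻¹ B ⟨R, g⟩ _ hBR (bc_rel_cj z⁻¹ ⟨R, g⟩)
  have h4 : R.map (MulAut.conj z⁻¹).toMonoidHom = a.1 := h.2 _ _ h3 h2
  have hs := ha.1
  ext g'
  constructor
  · intro hg'
    have h5 : z⁻¹ * g' * z⁻¹⁻¹ ∈ R.map (MulAut.conj z⁻¹).toMonoidHom :=
      (pf_conj_mem R z⁻¹ _).mpr ⟨g', hg', rfl⟩
    rw [h4] at h5
    refine (hs g').mpr ⟨_, h5, ?_⟩
    group
  · intro hg'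
    obtain ⟨u, hu, rfl⟩ := (hs g').mp hg'
    rw [← h4] at hu
    obtain ⟨r, hr, rfl⟩ := (pf_conj_mem R z⁻¹ u).mp hu
    have e1 : z * (z⁻¹ * r * z⁻¹⁻¹) * z⁻¹ = r := by group
    rw [e1]
    exact hr

end Cfsg.Agent.Helper24
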