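import Mathlib
import Cfsg.Agent.Helper24.BP10
import Cfsg.Agent.Helper5.BlkDom2
import Cfsg.Agent.Helper5.BlkStab

/-!
helper24: every Brauer pair of a block is conjugate to a pair below a given maximal pair.
-/

set_option autoImplicit false

namespace Cfsg.Agent.Helper24

open Cfsg Cfsg.Agent.Helper5 Cfsg.Agent.Helper22

universe u

variable {G : Type u} [Group G] [Fintype G]

/-- every Brauer pair of `B` lies below a maximal one. -/
theorem bp_exists_max {p : ℕ} {M : Ideal AlgInt} (B : Set (IrrCharacter G)) :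
    ∀ (n : ℕ) (a : BrauerPairIdx G), IsBrauerPairOf p M B a.1 a.2 →
      Nat.card G - Nat.card a.1 ≤ n →
      ∃ b : BrauerPairIdx G, Relation.ReflTransGen (NormalSubpairRel p M) a b ∧
        IsMaximalBrauerPair p M B b.1 b.2 := by
  intro n
  induction n with
  | zero =>
    intro a ha hn
    obtain ⟨Q, f⟩ := a
    refine ⟨⟨Q, f⟩, Relation.ReflTransGen.refl, ha, fun R g hBR hle => ?_⟩
    have hle' : Q ≤ R := pf_le ⟨Q, f⟩ ⟨R, g⟩ hle
    have h1 : Nat.card R ≤ Nat.card G := Subgroup.card_le_card_group R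
    have hn' : Nat.card G - Nat.card Q ≤ 0 := hn
    exact (Subgroup.eq_of_le_of_card_ge hle' (by omega)).symm
  | succ n ih =>
    intro a ha hn
    obtain ⟨Q, f⟩ := a
    have ha' : IsBrauerPairOf p M B Q f := ha
    have hn' : Nat.card G - Nat.card Q ≤ n + 1 := hn
    by_cases hm : IsMaximalBrauerPair p M B Q f
    · exact ⟨⟨Q, f⟩, Relation.ReflTransGen.refl, hm⟩
    · have h2 : ∃ (R : Subgroup G) (g : Set (IrrCharacter (Subgroup.centralizer (R : Set G)))),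
          IsBrauerPairOf p M B R g ∧ SubpairLE p M Q f R g ∧ R ≠ Q := by
        by_contra hcon
        push Not at hcon
        exact hm ⟨ha', hcon⟩
      obtain ⟨R, g, hBR, hle, hne⟩ := h2
      have hle' : Q ≤ R := pf_le ⟨Q, f⟩ ⟨R, g⟩ hle
      have hcard : Nat.card Q < Nat.card R := by
        by_contra hc
        exact hne (Subgroup.eq_of_le_of_card_ge hle' (by omega)).symm
      have h1 : Nat.card R ≤ Nat.card G := Subgroup.card_le_card_group R
      obtain ⟨b, hb1, hb2⟩ := ih ⟨R, g⟩ hBR (by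
        show Nat.card G - Nat.card R ≤ n
        omega)
      exact ⟨b, Relation.ReflTransGen.trans hle hb1, hb2⟩

/-- two maximal Brauer pairs of `B` on the same subgroup are conjugate under its normalizer. -/
theorem bp_orbit_unique {p : ℕ} [Fact p.Prime] {M : Ideal AlgInt} (hM : IsPModular p M)
    [hMp : M.IsPrime] (B : Set (IrrCharacter G)) (P : Subgroup G)
    (e₁ e : Set (IrrCharacter (Subgroup.centralizer (P : Set G))))
    (h₁ : IsMaximalBrauerPair p M B P e₁) (h : IsMaximalBrauerPair p M B P e) :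
    ∃ y : G, bc_rel y (⟨P, e₁⟩ : BrauerPairIdx G) ⟨P, e⟩ := by
  classical
  haveI : Fintype (Subgroup.centralizer (P : Set G)) := Fintype.ofFinite _
  obtain ⟨A₁, χ₁, hA₁, hc₁, hD₁, hcong₁⟩ := bp_max_corr hM B P e₁ h₁
  obtain ⟨A, χ, hA, hc, hD, hcong⟩ := bp_max_corr hM B P e h
  have hDB := bp_max_defect hM B P e h
  have hB := h.1.2.1
  have huniq := (fm_main hM P (Subgroup.normalizer (P : Set G)) h.1.1.1 le_rfl).1 B hB hDB
  have heq : blockOf M (χ₁ : Subgroup.normalizer (P : Set G) → ℂ)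
      = blockOf M (χ : Subgroup.normalizer (P : Set G) → ℂ) :=
    huniq.unique ⟨⟨χ₁, rfl⟩, hD₁, hcong₁⟩ ⟨⟨χ, rfl⟩, hD, hcong⟩
  have hAeq : A₁ = A := by
    apply set_eq_of_blockCoeff_eq
    intro k
    have h1 := hc₁ ⟨(k : G), Subgroup.centralizer_le_normalizer _ k.2⟩
    have h2 := hc ⟨(k : G), Subgroup.centralizer_le_normalizer _ k.2⟩
    rw [heq, h2] at h1
    unfold subgroupBlockCoeff at h1
    rw [dif_pos k.2, dif_pos k.2] at h1
    exact h1.symm
  obtain ⟨θ₁, he₁⟩ := h₁.1.1.2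
  obtain ⟨θ₀, he⟩ := h.1.1.2
  have hθ₁ : θ₁ ∈ e₁ := by
    rw [he₁]
    exact sameBlock_refl _
  have hθ₁A : θ₁ ∈ A := by
    rw [← hAeq, hA₁]
    refine ⟨1, Subgroup.one_mem _, θ₁, hθ₁, ?_⟩
    intro k k' hkk'
    have e1 : k' = k := Subtype.ext (by rw [hkk']; group)
    rw [e1]
  obtain ⟨y, hyN, θ', hθ', hconj⟩ := (hA θ₁).mp hθ₁A
  have hsub : bc_sub y P P := by
    intro g
    constructor
    · intro hg
      exact ⟨y⁻¹ * g * y, bp_norm_inv P y hyN g hg, by group⟩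
    · rintro ⟨q, hq, rfl⟩
      exact (Subgroup.mem_normalizer_iff.mp hyN q).mp hq
  refine ⟨y, hsub, ?_⟩
  show bc_blk y P P e₁ e
  rw [bc_blk_iff hsub]
  obtain ⟨η, hη⟩ := fm_tr_isPBlock (bc_equiv y P P hsub) e₁ h₁.1.1.2
  have hmem : θ' ∈ fm_tr (bc_equiv y P P hsub) e₁ := by
    rw [fm_tr_mem]
    have e2 : (⟨fun a => (θ' : Subgroup.centralizer (P : Set G) → ℂ) (bc_equiv y P P hsub a),
        isIrrCharacter_comp_mulEquiv (bc_equiv y P P hsub) θ'.2⟩ :
        IrrCharacter (Subgroup.centralizer (P : Set G))) = θ₁ :=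
      Subtype.ext (funext fun a => hconj a (bc_equiv y P P hsub a) rfl)
    rw [e2]
    exact hθ₁
  rw [hη] at hmem ⊢
  rw [he] at hθ' ⊢
  rw [blockOf_eq_of_sameBlock hθ', blockOf_eq_of_sameBlock hmem]

/-- every Brauer pair of `B` has a conjugate below a given maximal Brauer pair of `B`. -/
theorem bp_conj_max {p : ℕ} [Fact p.Prime] {M : Ideal AlgInt} (hM : IsPModular p M)
    [hMp : M.IsPrime] (B : Set (IrrCharacter G)) (P Q : Subgroup G)
    (e : Set (IrrCharacter (Subgroup.centralizer (P : Set G))))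
    (f : Set (IrrCharacter (Subgroup.centralizer (Q : Set G))))
    (hmax : IsMaximalBrauerPair p M B P e) (hQf : IsBrauerPairOf p M B Q f) :
    ∃ x : G, SubpairLE p M (Q.map (MulAut.conj x).toMonoidHom) (conjBlock Q x f) P e := by
  classical
  obtain ⟨b, hab, hbmax⟩ := bp_exists_max (p := p) (M := M) B _ ⟨Q, f⟩ hQf le_rfl
  obtain ⟨P', e'⟩ := b
  have hbmax' : IsMaximalBrauerPair p M B P' e' := hbmax
  have hD := bp_max_defect hM B P e hmax
  have hD' := bp_max_defect hM B P' e' hbmax'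
  obtain ⟨χ₀, hBχ⟩ := hmax.1.2.1
  subst hBχ
  obtain ⟨x, hx⟩ := defect_groups_conj hM χ₀ P' P hD' hD
  have hrel1 := bc_rel_cj x (⟨P', e'⟩ : BrauerPairIdx G)
  obtain ⟨a₁, ha₁⟩ : ∃ a₁ : BrauerPairIdx G,
      a₁ = ⟨P'.map (MulAut.conj x).toMonoidHom, conjBlock P' x e'⟩ := ⟨_, rfl⟩
  have hrel1' : bc_rel x (⟨P', e'⟩ : BrauerPairIdx G) a₁ := by
    rw [ha₁]
    exact hrel1
  obtain ⟨P₁, e₁⟩ := a₁
  have hP₁ : P₁ = P := (congrArg Sigma.fst ha₁).trans hx.symm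
  subst hP₁
  have hmax₁ : IsMaximalBrauerPair p M (blockOf M (χ₀ : G → ℂ)) P₁ e₁ :=
    bc_max x _ ⟨P', e'⟩ ⟨P₁, e₁⟩ hbmax' hrel1'
  obtain ⟨y, hy⟩ := bp_orbit_unique hM _ P₁ e₁ e hmax₁ hmax
  have hc1 := bc_chain x ⟨Q, f⟩ ⟨P', e'⟩ hab _ ⟨P₁, e₁⟩ (bc_rel_cj x ⟨Q, f⟩) hrel1'
  have hc2 := bc_chain y _ ⟨P₁, e₁⟩ hc1 _ ⟨P₁, e⟩ (bc_rel_cj y _) hy
  have hcomp := bc_rel_mul (bc_rel_cj x (⟨Q, f⟩ : BrauerPairIdx G)) (bc_rel_cj y _)
  have heq := bc_rel_unique hcomp (bc_rel_cj (y * x) (⟨Q, f⟩ : BrauerPairIdx G))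
  rw [heq] at hc2
  exact ⟨y * x, hc2⟩

end Cfsg.Agent.Helper24
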