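import Mathlib
import Cfsg.Agent.Helper24.BP11

/-!
helper24: transport of Brauer pairs between a subgroup `H` (as a group) and the ambient group.
-/

set_option autoImplicit false

namespace Cfsg.Agent.Helper24

open Cfsg Cfsg.Agent.Helper5 Cfsg.Agent.Helper22

universe u

section PB

variable {A B : Type u} [Group A] [Group B]

/-- pull back of an irreducible character along an isomorphism. -/
def fm_pb (φ : A ≃* B) (χ : IrrCharacter B) : IrrCharacter A :=
  ⟨fun a => (χ : B → ℂ) (φ a), isIrrCharacter_comp_mulEquiv φ χ.2⟩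

theorem fm_tr_mem' (φ : A ≃* B) (b' : Set (IrrCharacter A)) (χ : IrrCharacter B) :
    χ ∈ fm_tr φ b' ↔ fm_pb φ χ ∈ b' := Iff.rfl

theorem fm_pb_apply (φ : A ≃* B) (χ : IrrCharacter B) (a : A) :
    (fm_pb φ χ : A → ℂ) a = (χ : B → ℂ) (φ a) := rfl

theorem fm_pb_symm (φ : A ≃* B) (θ : IrrCharacter A) : fm_pb φ (fm_pb φ.symm θ) = θ := by
  apply Subtype.ext
  funext a
  show (θ : A → ℂ) (φ.symm (φ a)) = (θ : A → ℂ) a
  rw [φ.symm_apply_apply]

theorem fm_pb_symm' (φ : A ≃* B) (χ : IrrCharacter B) : fm_pb φ.symm (fm_pb φ χ) = χ := by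
  apply Subtype.ext
  funext a
  show (χ : B → ℂ) (φ (φ.symm a)) = (χ : B → ℂ) a
  rw [φ.apply_symm_apply]

end PB

variable {G : Type u} [Group G]

/-- `R` is the image in `G` of the subgroup `R'` of `H`. -/
def bh_sub (H : Subgroup G) (R' : Subgroup H) (R : Subgroup G) : Prop :=
  ∀ g : G, g ∈ R ↔ ∃ h : H, h ∈ R' ∧ (h : G) = g

theorem bh_sub_map (H : Subgroup G) (R' : Subgroup H) : bh_sub H R' (R'.map H.subtype) := by
  intro g
  rw [Subgroup.mem_map]
  constructor
  · rintro ⟨h, hh, rfl⟩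
    exact ⟨h, hh, rfl⟩
  · rintro ⟨h, hh, rfl⟩
    exact ⟨h, hh, rfl⟩

theorem bh_sub_of (H : Subgroup G) (R : Subgroup G) (hR : R ≤ H) :
    bh_sub H (R.subgroupOf H) R := by
  intro g
  constructor
  · intro hg
    exact ⟨⟨g, hR hg⟩, Subgroup.mem_subgroupOf.mpr hg, rfl⟩
  · rintro ⟨h, hh, rfl⟩
    exact Subgroup.mem_subgroupOf.mp hh

theorem bh_sub_eq {H : Subgroup G} {R' : Subgroup H} {R : Subgroup G} (h : bh_sub H R' R) :
    R = R'.map H.subtype := by
  ext g
  rw [h g, bh_sub_map H R' g]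

theorem bh_sub_le {H : Subgroup G} {R₁' R₂' : Subgroup H} {R : Subgroup G}
    (h1 : bh_sub H R₁' R) (h2 : bh_sub H R₂' R) : R₁' ≤ R₂' := by
  intro h hh
  obtain ⟨h', hh', he⟩ := (h2 (h : G)).mp ((h1 (h : G)).mpr ⟨h, hh, rfl⟩)
  have e : h' = h := Subtype.ext he
  rw [← e]
  exact hh'

theorem bh_sub_inj {H : Subgroup G} {R₁' R₂' : Subgroup H} {R : Subgroup G}
    (h1 : bh_sub H R₁' R) (h2 : bh_sub H R₂' R) : R₁' = R₂' :=
  le_antisymm (bh_sub_le h1 h2) (bh_sub_le h2 h1)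

/-- the identification of the centralizer of `R'` in `H` with the centralizer of `R` in `G`. -/
def bh_equiv (H : Subgroup G) (R' : Subgroup H) (R : Subgroup G) (h : bh_sub H R' R)
    (hC : Subgroup.centralizer (R : Set G) ≤ H) :
    ↥(Subgroup.centralizer (R' : Set H)) ≃* ↥(Subgroup.centralizer (R : Set G)) where
  toFun c := ⟨((c : H) : G), by
    rw [Subgroup.mem_centralizer_iff]
    intro g hg
    obtain ⟨k, hk, rfl⟩ := (h g).mp hg
    have h1 := Subgroup.mem_centralizer_iff.mp c.2 k hk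
    exact congrArg (fun t : H => (t : G)) h1⟩
  invFun c' := ⟨⟨(c' : G), hC c'.2⟩, by
    rw [Subgroup.mem_centralizer_iff]
    intro k hk
    apply Subtype.ext
    exact Subgroup.mem_centralizer_iff.mp c'.2 (k : G) ((h _).mpr ⟨k, hk, rfl⟩)⟩
  left_inv c := Subtype.ext (Subtype.ext rfl)
  right_inv c' := Subtype.ext rfl
  map_mul' a b := Subtype.ext rfl

/-- the pair `a` of `G` is the image of the pair `a'` of `H`. -/
def bh_rel (H : Subgroup G) (a' : BrauerPairIdx H) (a : BrauerPairIdx G) : Prop :=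
  ∃ (h : bh_sub H a'.1 a.1) (hC : Subgroup.centralizer (a.1 : Set G) ≤ H),
    a.2 = fm_tr (bh_equiv H a'.1 a.1 h hC) a'.2

theorem bh_up (H : Subgroup G) (a' : BrauerPairIdx H)
    (hC : Subgroup.centralizer ((a'.1.map H.subtype : Subgroup G) : Set G) ≤ H) :
    bh_rel H a' ⟨a'.1.map H.subtype,
      fm_tr (bh_equiv H a'.1 (a'.1.map H.subtype) (bh_sub_map H a'.1) hC) a'.2⟩ :=
  ⟨bh_sub_map H a'.1, hC, rfl⟩

theorem bh_down (H : Subgroup G) (a : BrauerPairIdx G) (hR : a.1 ≤ H)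
    (hC : Subgroup.centralizer (a.1 : Set G) ≤ H) :
    bh_rel H ⟨a.1.subgroupOf H,
      fm_tr (bh_equiv H (a.1.subgroupOf H) a.1 (bh_sub_of H a.1 hR) hC).symm a.2⟩ a :=
  ⟨bh_sub_of H a.1 hR, hC, (fm_tr_tr' _ a.2).symm⟩

/-- a pair of `G` whose Brauer relation is taken with the idempotent of the block `f` of `H` gives
a Brauer pair of `f` in the group `H`. -/
theorem bh_pairOf {p : ℕ} {M : Ideal AlgInt} (H : Subgroup G) (f : Set (IrrCharacter H))
    (hf : IsPBlock M f) (a' : BrauerPairIdx H) (a : BrauerPairIdx G) (h : bh_rel H a' a)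
    (ha : IsBrauerPair p M a.1 a.2)
    (hbr : ∀ ξ ∈ a.2, MemLocalIdeal M (brauerOmega a.1 (subgroupBlockCoeff H f)
      (ξ : Subgroup.centralizer (a.1 : Set G) → ℂ) - 1)) :
    IsBrauerPairOf p M f a'.1 a'.2 := by
  obtain ⟨P', e'⟩ := a'
  obtain ⟨P, e⟩ := a
  obtain ⟨hs0, hC0, he0⟩ := h
  have hs : bh_sub H P' P := hs0
  have hC : Subgroup.centralizer (P : Set G) ≤ H := hC0
  have he : e = fm_tr (bh_equiv H P' P hs hC) e' := he0
  have ha' : IsBrauerPair p M P e := ha
  have hbr' : ∀ ξ ∈ e, MemLocalIdeal M (brauerOmega P (subgroupBlockCoeff H f)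
      (ξ : Subgroup.centralizer (P : Set G) → ℂ) - 1) := hbr
  show IsBrauerPairOf p M f P' e'
  have he' : e' = fm_tr (bh_equiv H P' P hs hC).symm e := by
    rw [he, fm_tr_tr]
  refine ⟨⟨?_, ?_⟩, hf, fun ξ' hξ' => ?_⟩
  · intro k
    obtain ⟨n, hn⟩ := ha'.1 ⟨((k : H) : G), (hs _).mpr ⟨k, k.2, rfl⟩⟩
    refine ⟨n, ?_⟩
    apply Subtype.ext
    apply Subtype.ext
    have h2 := congrArg (fun t : P => (t : G)) hn
    simpa using h2
  · rw [he']
    exact fm_tr_isPBlock _ e ha'.2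
  · have hmem : fm_pb (bh_equiv H P' P hs hC).symm ξ' ∈ e := by
      rw [he, fm_tr_mem', fm_pb_symm]
      exact hξ'
    have h3 := hbr' _ hmem
    have e2 : brauerOmega P' (blockCoeff f) (ξ' : Subgroup.centralizer (P' : Set H) → ℂ)
        = brauerOmega P (subgroupBlockCoeff H f)
          (fm_pb (bh_equiv H P' P hs hC).symm ξ' : Subgroup.centralizer (P : Set G) → ℂ) := by
      unfold brauerOmega
      rw [← finsum_comp_equiv (bh_equiv H P' P hs hC).toEquiv]
      refine finsum_congr fun x => ?_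
      show blockCoeff f (x : H) * (ξ' : Subgroup.centralizer (P' : Set H) → ℂ) x
          / (ξ' : Subgroup.centralizer (P' : Set H) → ℂ) 1
        = subgroupBlockCoeff H f (((x : H)) : G)
          * (ξ' : Subgroup.centralizer (P' : Set H) → ℂ)
            ((bh_equiv H P' P hs hC).symm (bh_equiv H P' P hs hC x))
          / (ξ' : Subgroup.centralizer (P' : Set H) → ℂ) ((bh_equiv H P' P hs hC).symm 1)
      rw [MulEquiv.symm_apply_apply, map_one]
      congr 2
      unfold subgroupBlockCoeff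
      rw [dif_pos (x : H).2]
    rw [e2]
    exact h3

variable [Fintype G]

/-- a normal inclusion of pairs of `H` gives a normal inclusion of their images in `G`. -/
theorem bh_normal {p : ℕ} {M : Ideal AlgInt} (H : Subgroup G) (a' b' : BrauerPairIdx H)
    (a b : BrauerPairIdx G) (h : NormalSubpairRel p M a' b') (ha : bh_rel H a' a)
    (hb : bh_rel H b' b) : NormalSubpairRel p M a b := by
  obtain ⟨Q', f'⟩ := a'
  obtain ⟨P', e'⟩ := b'
  obtain ⟨Q, f⟩ := a
  obtain ⟨P, e⟩ := b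
  obtain ⟨hQs0, hQC0, hf0⟩ := ha
  obtain ⟨hPs0, hPC0, he0⟩ := hb
  have hQs : bh_sub H Q' Q := hQs0
  have hPs : bh_sub H P' P := hPs0
  have hQC : Subgroup.centralizer (Q : Set G) ≤ H := hQC0
  have hPC : Subgroup.centralizer (P : Set G) ≤ H := hPC0
  have hf : f = fm_tr (bh_equiv H Q' Q hQs hQC) f' := hf0
  have he : e = fm_tr (bh_equiv H P' P hPs hPC) e' := he0
  have h' : IsNormalSubpair p M Q' f' P' e' := h
  obtain ⟨hQf, hPe, hQP, hPN, hst, hbr⟩ := h'
  show IsNormalSubpair p M Q f P e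
  have hφP : ∀ c : Subgroup.centralizer (P' : Set H),
      ((bh_equiv H P' P hPs hPC c : Subgroup.centralizer (P : Set G)) : G) = ((c : H) : G) :=
    fun c => rfl
  have hQP' : Q ≤ P := by
    intro g hg
    obtain ⟨k, hk, rfl⟩ := (hQs g).mp hg
    exact (hPs _).mpr ⟨k, hQP hk, rfl⟩
  have hPN' : ∀ u ∈ P, u ∈ Subgroup.normalizer (Q : Set G) := by
    intro u hu
    obtain ⟨v, hv, rfl⟩ := (hPs u).mp hu
    have hvN := hPN hv
    rw [Subgroup.mem_normalizer_iff]
    intro g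
    constructor
    · intro hg
      obtain ⟨k, hk, rfl⟩ := (hQs g).mp hg
      exact (hQs _).mpr ⟨v * k * v⁻¹, (Subgroup.mem_normalizer_iff.mp hvN k).mp hk, rfl⟩
    · intro hg
      obtain ⟨k, hk, hke⟩ := (hQs _).mp hg
      refine (hQs g).mpr ⟨v⁻¹ * k * v, bp_norm_inv Q' v hvN k hk, ?_⟩
      show ((v : G))⁻¹ * (k : G) * (v : G) = g
      rw [hke]
      group
  refine ⟨⟨?_, ?_⟩, ⟨?_, ?_⟩, hQP', hPN', ?_, ?_⟩
  · rw [bh_sub_eq hQs]
    exact hQf.1.map _
  · rw [hf]
    exact fm_tr_isPBlock _ f' hQf.2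
  · rw [bh_sub_eq hPs]
    exact hPe.1.map _
  · rw [he]
    exact fm_tr_isPBlock _ e' hPe.2
  · intro u hu
    obtain ⟨v, hv, rfl⟩ := (hPs u).mp hu
    obtain ⟨hvN, hch⟩ := hst v hv
    refine ⟨pf_norm_cent Q _ (hPN' _ hu), fun χ hχ => ?_⟩
    rw [hf, fm_tr_mem'] at hχ
    obtain ⟨χ₁, hχ₁, hc⟩ := hch _ hχ
    refine ⟨fm_pb (bh_equiv H Q' Q hQs hQC).symm χ₁, ?_, ?_⟩
    · rw [hf, fm_tr_mem', fm_pb_symm]
      exact hχ₁
    · intro k k' hkk
      show (χ₁ : Subgroup.centralizer (Q' : Set H) → ℂ) ((bh_equiv H Q' Q hQs hQC).symm k')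
        = (χ : Subgroup.centralizer (Q : Set G) → ℂ) k
      have h3 := hc ((bh_equiv H Q' Q hQs hQC).symm k) ((bh_equiv H Q' Q hQs hQC).symm k') (by
        apply Subtype.ext
        exact hkk)
      rw [h3]
      show (χ : Subgroup.centralizer (Q : Set G) → ℂ)
        (bh_equiv H Q' Q hQs hQC ((bh_equiv H Q' Q hQs hQC).symm k)) = _
      rw [MulEquiv.apply_symm_apply]
  · intro ξ hξ
    rw [he, fm_tr_mem'] at hξ
    have h3 := hbr _ hξ
    have e1 : brauerOmega P (subgroupBlockCoeff (Subgroup.centralizer (Q : Set G)) f)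
          (ξ : Subgroup.centralizer (P : Set G) → ℂ)
        = brauerOmega P' (subgroupBlockCoeff (Subgroup.centralizer (Q' : Set H)) f')
          (fm_pb (bh_equiv H P' P hPs hPC) ξ : Subgroup.centralizer (P' : Set H) → ℂ) := by
      unfold brauerOmega
      rw [← finsum_comp_equiv (bh_equiv H P' P hPs hPC).toEquiv]
      refine finsum_congr fun x => ?_
      show subgroupBlockCoeff (Subgroup.centralizer (Q : Set G)) f
            ((bh_equiv H P' P hPs hPC x : Subgroup.centralizer (P : Set G)) : G)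
          * (ξ : Subgroup.centralizer (P : Set G) → ℂ) (bh_equiv H P' P hPs hPC x)
          / (ξ : Subgroup.centralizer (P : Set G) → ℂ) 1
        = subgroupBlockCoeff (Subgroup.centralizer (Q' : Set H)) f' (x : H)
          * (ξ : Subgroup.centralizer (P : Set G) → ℂ) (bh_equiv H P' P hPs hPC x)
          / (ξ : Subgroup.centralizer (P : Set G) → ℂ) (bh_equiv H P' P hPs hPC 1)
      rw [map_one]
      congr 2
      have hxQ' : (x : H) ∈ Subgroup.centralizer (Q' : Set H) := Subgroup.centralizer_le hQP x.2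
      have hxQ : (((x : H)) : G) ∈ Subgroup.centralizer (Q : Set G) :=
        (bh_equiv H Q' Q hQs hQC ⟨(x : H), hxQ'⟩).2
      rw [hφP]
      unfold subgroupBlockCoeff
      rw [dif_pos hxQ', dif_pos hxQ, hf]
      exact fm_tr_coeff (bh_equiv H Q' Q hQs hQC) f' ⟨(x : H), hxQ'⟩
    rw [e1]
    exact h3

/-- conjugation inside `H` is conjugation in `G`. -/
theorem bh_conj (H : Subgroup G) (c : H) (a' b' : BrauerPairIdx H) (a b : BrauerPairIdx G)
    (h : bc_rel c a' b') (ha : bh_rel H a' a) (hb : bh_rel H b' b) : bc_rel (c : G) a b := by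
  obtain ⟨Q', f'⟩ := a'
  obtain ⟨P', e'⟩ := b'
  obtain ⟨Q, f⟩ := a
  obtain ⟨P, e⟩ := b
  obtain ⟨hQs0, hQC0, hf0⟩ := ha
  obtain ⟨hPs0, hPC0, he0⟩ := hb
  have hQs : bh_sub H Q' Q := hQs0
  have hPs : bh_sub H P' P := hPs0
  have hQC : Subgroup.centralizer (Q : Set G) ≤ H := hQC0
  have hPC : Subgroup.centralizer (P : Set G) ≤ H := hPC0
  have hf : f = fm_tr (bh_equiv H Q' Q hQs hQC) f' := hf0
  have he : e = fm_tr (bh_equiv H P' P hPs hPC) e' := he0
  obtain ⟨hs0, hb0⟩ := h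
  have hs : bc_sub c Q' P' := hs0
  have hbk : bc_blk c Q' P' f' e' := hb0
  have he' := (bc_blk_iff hs f' e').mp hbk
  have hsG : bc_sub (c : G) Q P := by
    intro g
    constructor
    · intro hg
      obtain ⟨k, hk, rfl⟩ := (hPs g).mp hg
      obtain ⟨q, hq, hqe⟩ := (hs k).mp hk
      refine ⟨(q : G), (hQs _).mpr ⟨q, hq, rfl⟩, ?_⟩
      rw [← hqe]
      rfl
    · rintro ⟨q, hq, rfl⟩
      obtain ⟨k, hk, rfl⟩ := (hQs q).mp hq
      exact (hPs _).mpr ⟨c * k * c⁻¹, (hs _).mpr ⟨k, hk, rfl⟩, rfl⟩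
  refine ⟨hsG, ?_⟩
  show bc_blk (c : G) Q P f e
  rw [bc_blk_iff hsG, he, he', hf]
  ext ξ
  rw [fm_tr_mem', fm_tr_mem', fm_tr_mem', fm_tr_mem']
  have e1 : fm_pb (bc_equiv c Q' P' hs) (fm_pb (bh_equiv H P' P hPs hPC) ξ)
      = fm_pb (bh_equiv H Q' Q hQs hQC) (fm_pb (bc_equiv (c : G) Q P hsG) ξ) := by
    apply Subtype.ext
    funext a
    show (ξ : Subgroup.centralizer (P : Set G) → ℂ)
        (bh_equiv H P' P hPs hPC (bc_equiv c Q' P' hs a))
      = (ξ : Subgroup.centralizer (P : Set G) → ℂ)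
        (bc_equiv (c : G) Q P hsG (bh_equiv H Q' Q hQs hQC a))
    have e2 : bh_equiv H P' P hPs hPC (bc_equiv c Q' P' hs a)
        = bc_equiv (c : G) Q P hsG (bh_equiv H Q' Q hQs hQC a) := Subtype.ext rfl
    rw [e2]
  rw [e1]

/-- a chain of pairs of `H` starting at a pair with an image in `G` lifts to `G`. -/
theorem bh_chain_up {p : ℕ} {M : Ideal AlgInt} (H : Subgroup G) (a' : BrauerPairIdx H)
    (a : BrauerPairIdx G) (ha : bh_rel H a' a) (b' : BrauerPairIdx H)
    (h : Relation.ReflTransGen (NormalSubpairRel p M) a' b') :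
    ∃ b : BrauerPairIdx G, bh_rel H b' b ∧
      Relation.ReflTransGen (NormalSubpairRel p M) a b := by
  induction h with
  | refl => exact ⟨a, ha, Relation.ReflTransGen.refl⟩
  | tail hab' hbc ih =>
    rename_i b' c'
    obtain ⟨b, hb, hab⟩ := ih
    have hC : Subgroup.centralizer ((c'.1.map H.subtype : Subgroup G) : Set G) ≤ H := by
      obtain ⟨hbs, hbC, _⟩ := hb
      refine le_trans (Subgroup.centralizer_le ?_) hbC
      intro g hg
      obtain ⟨k, hk, rfl⟩ := (hbs g).mp hg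
      exact Subgroup.mem_map.mpr ⟨k, hbc.2.2.1 hk, rfl⟩
    have hc := bh_up H c' hC
    exact ⟨_, hc, Relation.ReflTransGen.tail hab (bh_normal H b' c' b _ hbc hb hc)⟩

/-- the image of a maximal pair of `G` is maximal in `H`. -/
theorem bh_max {p : ℕ} [Fact p.Prime] {M : Ideal AlgInt} (hM : IsPModular p M)
    [hMp : M.IsPrime] (H : Subgroup G) (B : Set (IrrCharacter G)) (f : Set (IrrCharacter H))
    (a' : BrauerPairIdx H) (a : BrauerPairIdx G) (ha : bh_rel H a' a)
    (hmax : IsMaximalBrauerPair p M B a.1 a.2) (hpair : IsBrauerPairOf p M f a'.1 a'.2) :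
    IsMaximalBrauerPair p M f a'.1 a'.2 := by
  refine ⟨hpair, fun R' g' _ hle => ?_⟩
  have hle' : Relation.ReflTransGen (NormalSubpairRel p M) a' ⟨R', g'⟩ := hle
  obtain ⟨b, hb, hab⟩ := bh_chain_up H a' a ha ⟨R', g'⟩ hle'
  have hBb : IsBrauerPairOf p M B b.1 b.2 := (bp_of_le hM B hmax.1.2.1 a b hab).mpr hmax.1
  have hRP : b.1 = a.1 := hmax.2 b.1 b.2 hBb hab
  obtain ⟨hbs, _, _⟩ := hb
  obtain ⟨has, _, _⟩ := ha
  have hbs' : bh_sub H R' a.1 := by
    rw [← hRP]
    exact hbs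
  exact bh_sub_inj hbs' has

/-- an element conjugating a pair to itself normalizes the subgroup and stabilizes the block. -/
theorem bc_self_stab (y : G) (P : Subgroup G)
    (e : Set (IrrCharacter (Subgroup.centralizer (P : Set G))))
    (h : bc_rel y (⟨P, e⟩ : BrauerPairIdx G) ⟨P, e⟩) :
    y ∈ Subgroup.normalizer (P : Set G) ∧
      StabilizesBlock (Subgroup.centralizer (P : Set G)) e y := by
  obtain ⟨hs0, hb0⟩ := h
  have hs : bc_sub y P P := hs0
  have hb : bc_blk y P P e e := hb0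
  have hN : y ∈ Subgroup.normalizer (P : Set G) := by
    rw [Subgroup.mem_normalizer_iff]
    intro g
    constructor
    · intro hg
      exact (hs _).mpr ⟨g, hg, rfl⟩
    · intro hg
      obtain ⟨q, hq, hqe⟩ := (hs _).mp hg
      have e1 : q = g := mul_left_cancel (mul_right_cancel hqe)
      rw [← e1]
      exact hq
  refine ⟨hN, pf_norm_cent P y hN, fun χ hχ => ?_⟩
  refine ⟨fm_pb (bc_equiv y P P hs).symm χ, ?_, ?_⟩
  · refine (hb _).mpr ⟨χ, hχ, fun c c' hcc' => ?_⟩
    show (χ : Subgroup.centralizer (P : Set G) → ℂ) ((bc_equiv y P P hs).symm c')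
      = (χ : Subgroup.centralizer (P : Set G) → ℂ) c
    have e1 : (bc_equiv y P P hs).symm c' = c := by
      apply Subtype.ext
      show y⁻¹ * (c' : G) * y = c
      rw [hcc']
      group
    rw [e1]
  · intro k k' hkk
    show (χ : Subgroup.centralizer (P : Set G) → ℂ) ((bc_equiv y P P hs).symm k')
      = (χ : Subgroup.centralizer (P : Set G) → ℂ) k
    have e1 : (bc_equiv y P P hs).symm k' = k := by
      apply Subtype.ext
      show y⁻¹ * (k' : G) * y = k
      rw [hkk]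
      group
    rw [e1]

/-- an element normalizing the subgroup and stabilizing the block conjugates the pair to itself. -/
theorem bc_stab_self (y : G) (P : Subgroup G)
    (e : Set (IrrCharacter (Subgroup.centralizer (P : Set G))))
    (hN : y ∈ Subgroup.normalizer (P : Set G))
    (h1 : StabilizesBlock (Subgroup.centralizer (P : Set G)) e y)
    (h2 : StabilizesBlock (Subgroup.centralizer (P : Set G)) e y⁻¹) :
    bc_rel y (⟨P, e⟩ : BrauerPairIdx G) ⟨P, e⟩ := by
  have hs : bc_sub y P P := by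
    intro g
    constructor
    · intro hg
      exact ⟨y⁻¹ * g * y, bp_norm_inv P y hN g hg, by group⟩
    · rintro ⟨q, hq, rfl⟩
      exact (Subgroup.mem_normalizer_iff.mp hN q).mp hq
  refine ⟨hs, ?_⟩
  show bc_blk y P P e e
  rw [bc_blk_iff hs]
  ext χ
  rw [fm_tr_mem']
  constructor
  · intro hχ
    obtain ⟨χ', hχ', hc⟩ := h2.2 χ hχ
    have e1 : fm_pb (bc_equiv y P P hs) χ = χ' := by
      apply Subtype.ext
      funext a
      exact (hc (bc_equiv y P P hs a) a (by
        show (a : G) = y⁻¹ * (y * (a : G) * y⁻¹) * y⁻¹⁻¹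
        group)).symm
    rw [e1]
    exact hχ'
  · intro hmem
    obtain ⟨χ', hχ', hc⟩ := h1.2 _ hmem
    have e1 : χ' = χ := by
      apply Subtype.ext
      funext k'
      have h3 := hc ((bc_equiv y P P hs).symm k') k' (by
        show (k' : G) = y * (y⁻¹ * (k' : G) * y) * y⁻¹
        group)
      rw [h3]
      show (χ : Subgroup.centralizer (P : Set G) → ℂ)
        (bc_equiv y P P hs ((bc_equiv y P P hs).symm k')) = _
      rw [MulEquiv.apply_symm_apply]
    rw [← e1]
    exact hχ'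

end Cfsg.Agent.Helper24
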