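import Mathlib
import Cfsg.Agent.Helper24.BP12

/-!
helper24: blocks with abelian defect group: the stabilizer of a subpair is controlled by the
stabilizer of the maximal pair.
-/

set_option autoImplicit false

namespace Cfsg.Agent.Helper24

open Cfsg Cfsg.Agent.Helper5 Cfsg.Agent.Helper22

universe u

variable {G : Type u} [Group G] [Fintype G]

/-- Let `(P, e)` be a maximal pair, `(Q, f)` a normal subpair with `P ≤ C_G(Q)`.  Every element
normalizing `Q` and stabilizing `f` can be moved into the stabilizer of `(P, e)` by an element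
of `C_G(Q)`. -/
theorem bp_cent_split {p : ℕ} [Fact p.Prime] {M : Ideal AlgInt} (hM : IsPModular p M)
    [hMp : M.IsPrime] (B : Set (IrrCharacter G)) (P : Subgroup G)
    (e : Set (IrrCharacter (Subgroup.centralizer (P : Set G))))
    (hmax : IsMaximalBrauerPair p M B P e)
    (Q : Subgroup G) (f : Set (IrrCharacter (Subgroup.centralizer (Q : Set G))))
    (hPH : P ≤ Subgroup.centralizer (Q : Set G))
    (hN : IsNormalSubpair p M Q f P e)
    (x : G) (hxN : x ∈ Subgroup.normalizer (Q : Set G))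
    (hx1 : StabilizesBlock (Subgroup.centralizer (Q : Set G)) f x)
    (hx2 : StabilizesBlock (Subgroup.centralizer (Q : Set G)) f x⁻¹) :
    ∃ c ∈ Subgroup.centralizer (Q : Set G), c * x ∈ Subgroup.normalizer (P : Set G) ∧
      StabilizesBlock (Subgroup.centralizer (P : Set G)) e (c * x) := by
  classical
  have hPe : IsBrauerPair p M P e := hmax.1.1
  have hQP : Q ≤ P := hN.2.2.1
  have hf : IsPBlock M f := hN.1.2
  obtain ⟨a₂, ha₂⟩ : ∃ a₂ : BrauerPairIdx G,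
      a₂ = ⟨P.map (MulAut.conj x).toMonoidHom, conjBlock P x e⟩ := ⟨_, rfl⟩
  have hrel : bc_rel x (⟨P, e⟩ : BrauerPairIdx G) a₂ := by
    rw [ha₂]
    exact bc_rel_cj x ⟨P, e⟩
  clear ha₂
  have hQrel : bc_rel x (⟨Q, f⟩ : BrauerPairIdx G) ⟨Q, f⟩ := bc_stab_self x Q f hxN hx1 hx2
  have hN₂ : NormalSubpairRel p M ⟨Q, f⟩ a₂ := bc_normal x ⟨Q, f⟩ ⟨P, e⟩ ⟨Q, f⟩ a₂ hN hQrel hrel
  have hmax₂ : IsMaximalBrauerPair p M B a₂.1 a₂.2 := bc_max x B ⟨P, e⟩ a₂ hmax hrel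
  obtain ⟨P₂, e₂⟩ := a₂
  have hN₂' : IsNormalSubpair p M Q f P₂ e₂ := hN₂
  have hmax₂' : IsMaximalBrauerPair p M B P₂ e₂ := hmax₂
  have hrels : bc_sub x P P₂ := hrel.1
  have hQP₂ : Q ≤ P₂ := hN₂'.2.2.1
  have hP₂H : P₂ ≤ Subgroup.centralizer (Q : Set G) := by
    intro u hu
    obtain ⟨v, hv, rfl⟩ := (hrels u).mp hu
    exact (Subgroup.mem_normalizer_iff.mp (pf_norm_cent Q x hxN) v).mp (hPH hv)
  have hCP : Subgroup.centralizer (P : Set G) ≤ Subgroup.centralizer (Q : Set G) :=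
    Subgroup.centralizer_le hQP
  have hCP₂ : Subgroup.centralizer (P₂ : Set G) ≤ Subgroup.centralizer (Q : Set G) :=
    Subgroup.centralizer_le hQP₂
  obtain ⟨a', ha'⟩ : ∃ a' : BrauerPairIdx (Subgroup.centralizer (Q : Set G)),
      bh_rel (Subgroup.centralizer (Q : Set G)) a' ⟨P, e⟩ :=
    ⟨_, bh_down (Subgroup.centralizer (Q : Set G)) (⟨P, e⟩ : BrauerPairIdx G) hPH hCP⟩
  obtain ⟨a₂', ha₂'⟩ : ∃ a₂' : BrauerPairIdx (Subgroup.centralizer (Q : Set G)),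
      bh_rel (Subgroup.centralizer (Q : Set G)) a₂' ⟨P₂, e₂⟩ :=
    ⟨_, bh_down (Subgroup.centralizer (Q : Set G)) (⟨P₂, e₂⟩ : BrauerPairIdx G) hP₂H hCP₂⟩
  have hp' : IsBrauerPairOf p M f a'.1 a'.2 :=
    bh_pairOf (Subgroup.centralizer (Q : Set G)) f hf a' ⟨P, e⟩ ha' hPe hN.2.2.2.2.2
  have hp₂' : IsBrauerPairOf p M f a₂'.1 a₂'.2 :=
    bh_pairOf (Subgroup.centralizer (Q : Set G)) f hf a₂' ⟨P₂, e₂⟩ ha₂' hN₂'.2.1 hN₂'.2.2.2.2.2
  have hm' : IsMaximalBrauerPair p M f a'.1 a'.2 :=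
    bh_max hM (Subgroup.centralizer (Q : Set G)) B f a' ⟨P, e⟩ ha' hmax hp'
  have hm₂' : IsMaximalBrauerPair p M f a₂'.1 a₂'.2 :=
    bh_max hM (Subgroup.centralizer (Q : Set G)) B f a₂' ⟨P₂, e₂⟩ ha₂' hmax₂' hp₂'
  haveI : Fintype ↥(Subgroup.centralizer (Q : Set G)) := Fintype.ofFinite _
  obtain ⟨c, hc⟩ := bp_conj_max hM f a'.1 a₂'.1 a'.2 a₂'.2 hm' hp₂'
  obtain ⟨a₃', ha₃'⟩ : ∃ a₃' : BrauerPairIdx (Subgroup.centralizer (Q : Set G)),
      a₃' = ⟨a₂'.1.map (MulAut.conj c).toMonoidHom, conjBlock a₂'.1 c a₂'.2⟩ := ⟨_, rfl⟩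
  have hrel' : bc_rel c a₂' a₃' := by
    rw [ha₃']
    exact bc_rel_cj c a₂'
  have hc' : Relation.ReflTransGen (NormalSubpairRel p M) a₃' a' := by
    rw [ha₃']
    exact hc
  clear ha₃'
  have hm₃' : IsMaximalBrauerPair p M f a₃'.1 a₃'.2 := bc_max c f a₂' a₃' hm₂' hrel'
  have h13 : a'.1 = a₃'.1 := hm₃'.2 a'.1 a'.2 hp' hc'
  have heq : a₃' = a' := by
    obtain ⟨R, g⟩ := a₃'
    obtain ⟨P', e'⟩ := a'
    have h13' : P' = R := h13
    subst h13'
    have hu := bp_sub_unique hM _ _ hp'.1 0 _ le_rfl (le_of_eq (Nat.sub_self _)) _ _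
      hm₃'.1.1.2 hp'.1.2 hc' Relation.ReflTransGen.refl
    have hu' : g = e' := hu
    rw [hu']
  rw [heq] at hrel'
  have hG := bh_conj (Subgroup.centralizer (Q : Set G)) c a₂' a' ⟨P₂, e₂⟩ ⟨P, e⟩ hrel' ha₂' ha'
  have hfin := bc_rel_mul hrel hG
  obtain ⟨h1, h2⟩ := bc_self_stab ((c : G) * x) P e hfin
  exact ⟨(c : G), c.2, h1, h2⟩

/-- index bookkeeping for a product decomposition. -/
theorem bp_index_prod (C K TQ TP : Subgroup G) (hCTQ : C ≤ TQ) (hKTQ : K ≤ TQ)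
    (hTQN : TQ ≤ Subgroup.normalizer (C : Set G))
    (hprod : ∀ x ∈ TQ, ∃ y ∈ K, ∃ c ∈ C, x = y * c) (hK : K ≤ TP) :
    (C.subgroupOf TQ).index = ((TP ⊓ C).subgroupOf K).index := by
  haveI : (C.subgroupOf TQ).Normal := Subgroup.normal_subgroupOf_of_le_normalizer hTQN
  have h1 : K.subgroupOf TQ ⊔ C.subgroupOf TQ = ⊤ := by
    rw [eq_top_iff]
    intro t _
    obtain ⟨y, hy, c, hc, hxe⟩ := hprod t t.2
    have e1 : t = (⟨y, hKTQ hy⟩ : TQ) * ⟨c, hCTQ hc⟩ := Subtype.ext hxe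
    rw [e1]
    exact Subgroup.mul_mem_sup (Subgroup.mem_subgroupOf.mpr hy) (Subgroup.mem_subgroupOf.mpr hc)
  have h2 : (C.subgroupOf TQ).index = (C.subgroupOf TQ).relIndex (K.subgroupOf TQ) := by
    rw [← Subgroup.relIndex_top_right, ← h1, Subgroup.relIndex_sup_right]
  rw [h2, Subgroup.relIndex_subgroupOf hKTQ]
  show C.relIndex K = (TP ⊓ C).relIndex K
  rw [← Subgroup.inf_relIndex_right C K, ← Subgroup.inf_relIndex_right (TP ⊓ C) K]
  congr 1
  ext g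
  simp only [Subgroup.mem_inf]
  constructor
  · rintro ⟨h3, h4⟩
    exact ⟨⟨hK h4, h3⟩, h4⟩
  · rintro ⟨⟨_, h3⟩, h4⟩
    exact ⟨h3, h4⟩

/-- abelian maximal pair: structure of the stabilizer of a subpair. -/
theorem bp_abel_main {p : ℕ} [Fact p.Prime] {M : Ideal AlgInt} (hM : IsPModular p M)
    [hMp : M.IsPrime] (B : Set (IrrCharacter G)) (P : Subgroup G)
    (e : Set (IrrCharacter (Subgroup.centralizer (P : Set G))))
    (hmax : IsMaximalBrauerPair p M B P e) (hab : ∀ x ∈ P, ∀ y ∈ P, x * y = y * x)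
    (Q : Subgroup G) (f : Set (IrrCharacter (Subgroup.centralizer (Q : Set G))))
    (hQP : Q ≤ P) (hf : IsPBlock M f) (hle : SubpairLE p M Q f P e)
    (TQ : Subgroup G) (hTQ : ∀ y : G, y ∈ TQ ↔ y ∈ Subgroup.normalizer (Q : Set G) ∧
      StabilizesBlock (Subgroup.centralizer (Q : Set G)) f y)
    (TP : Subgroup G) (hTP : ∀ y : G, y ∈ TP ↔ y ∈ Subgroup.normalizer (P : Set G) ∧
      StabilizesBlock (Subgroup.centralizer (P : Set G)) e y) :
    (∀ x ∈ TQ, ∃ y ∈ TP, ∃ c ∈ Subgroup.centralizer (Q : Set G), x = y * c) ∧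
      ((Subgroup.centralizer (Q : Set G)).subgroupOf TQ).index
        = ((TP ⊓ Subgroup.centralizer (Q : Set G)).subgroupOf
            (TP ⊓ Subgroup.normalizer (Q : Set G))).index := by
  classical
  have hPe : IsBrauerPair p M P e := hmax.1.1
  have hQ : IsPGroup p Q := hPe.1.to_le hQP
  have hPH : P ≤ Subgroup.centralizer (Q : Set G) := by
    intro u hu
    rw [Subgroup.mem_centralizer_iff]
    intro q hq
    exact hab q (hQP hq) u hu
  have hPNQ : P ≤ Subgroup.normalizer (Q : Set G) :=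
    le_trans hPH (Subgroup.centralizer_le_normalizer _)
  have hN : IsNormalSubpair p M Q f P e := bp_collapse hM ⟨Q, f⟩ ⟨P, e⟩ hle ⟨hQ, hf⟩ hPNQ
  -- the strong form of the first claim
  have hsplit : ∀ x ∈ TQ, ∃ y ∈ TP ⊓ Subgroup.normalizer (Q : Set G),
      ∃ c ∈ Subgroup.centralizer (Q : Set G), x = y * c := by
    intro x hx
    have hx1 := (hTQ x).mp hx
    have hx2 := (hTQ x⁻¹).mp (TQ.inv_mem hx)
    obtain ⟨c₀, hc₀, h1, h2⟩ := bp_cent_split hM B P e hmax Q f hPH hN x hx1.1 hx1.2 hx2.2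
    have hyN : c₀ * x ∈ Subgroup.normalizer (Q : Set G) :=
      Subgroup.mul_mem _ (Subgroup.centralizer_le_normalizer _ hc₀) hx1.1
    refine ⟨c₀ * x, ⟨(hTP _).mpr ⟨h1, h2⟩, hyN⟩, (c₀ * x)⁻¹ * c₀⁻¹ * (c₀ * x), ?_, by group⟩
    exact bp_norm_inv _ (c₀ * x) (pf_norm_cent Q _ hyN) c₀⁻¹ (Subgroup.inv_mem _ hc₀)
  refine ⟨fun x hx => ?_, ?_⟩
  · obtain ⟨y, hy, c, hc, hxe⟩ := hsplit x hx
    exact ⟨y, hy.1, c, hc, hxe⟩
  · have hCTQ : Subgroup.centralizer (Q : Set G) ≤ TQ := by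
      intro c hc
      refine (hTQ c).mpr ⟨Subgroup.centralizer_le_normalizer _ hc, Subgroup.le_normalizer hc,
        fun χ hχ => ⟨χ, hχ, fun k k' hkk => ?_⟩⟩
      have e1 : k' = (⟨c, hc⟩ : Subgroup.centralizer (Q : Set G)) * k
          * (⟨c, hc⟩ : Subgroup.centralizer (Q : Set G))⁻¹ := Subtype.ext hkk
      rw [e1]
      exact irr_conj χ k ⟨c, hc⟩
    have hKTQ : TP ⊓ Subgroup.normalizer (Q : Set G) ≤ TQ := by
      intro y hy
      obtain ⟨hyP, hyN⟩ := hy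
      have hyP1 := (hTP y).mp hyP
      have hyP2 := (hTP y⁻¹).mp (TP.inv_mem hyP)
      have hrelP : bc_rel y (⟨P, e⟩ : BrauerPairIdx G) ⟨P, e⟩ :=
        bc_stab_self y P e hyP1.1 hyP1.2 hyP2.2
      have hrelQ := bc_rel_cj y (⟨Q, f⟩ : BrauerPairIdx G)
      have hch := bc_chain y ⟨Q, f⟩ ⟨P, e⟩ hle _ _ hrelQ hrelP
      have hQy : Q.map (MulAut.conj y).toMonoidHom = Q := by
        ext g
        rw [pf_conj_mem]
        constructor
        · rintro ⟨q, hq, rfl⟩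
          exact (Subgroup.mem_normalizer_iff.mp hyN q).mp hq
        · intro hg
          exact ⟨y⁻¹ * g * y, bp_norm_inv Q y hyN g hg, by group⟩
      obtain ⟨a₁, ha₁⟩ : ∃ a₁ : BrauerPairIdx G,
          a₁ = ⟨Q.map (MulAut.conj y).toMonoidHom, conjBlock Q y f⟩ := ⟨_, rfl⟩
      have hrelQ' : bc_rel y (⟨Q, f⟩ : BrauerPairIdx G) a₁ := by
        rw [ha₁]
        exact hrelQ
      have hch' : Relation.ReflTransGen (NormalSubpairRel p M) a₁ ⟨P, e⟩ := by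
        rw [ha₁]
        exact hch
      have h1 : a₁.1 = Q := by
        rw [ha₁]
        exact hQy
      have hblk : IsPBlock M a₁.2 := by
        have h5 := bc_blk_iff hrelQ'.1 f a₁.2
        rw [h5.mp hrelQ'.2]
        exact fm_tr_isPBlock _ f hf
      clear ha₁
      obtain ⟨Q₁, f₁⟩ := a₁
      have h1' : Q₁ = Q := h1
      subst h1'
      have hff : f₁ = f := bp_sub_unique hM P e hPe _ _ hQP le_rfl _ _ hblk hf hch' hle
      rw [hff] at hrelQ'
      have h6 := bc_self_stab y _ f hrelQ'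
      exact (hTQ y).mpr h6
    have hTQN : TQ ≤ Subgroup.normalizer
        ((Subgroup.centralizer (Q : Set G) : Subgroup G) : Set G) :=
      fun t ht => pf_norm_cent Q t ((hTQ t).mp ht).1
    exact bp_index_prod _ _ TQ TP hCTQ hKTQ hTQN hsplit inf_le_left

end Cfsg.Agent.Helper24
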