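import Mathlib
import Cfsg.Agent.Helper24.BP13

/-!
helper24: the inertial quotient of a maximal Brauer pair with `P ≤ C_G(P)` is a `p'`-group, and
the characterization of nilpotent blocks with abelian defect groups.
-/

set_option autoImplicit false

namespace Cfsg.Agent.Helper24

open Cfsg Cfsg.Agent.Helper5 Cfsg.Agent.Helper22

universe u

variable {G : Type u} [Group G] [Fintype G]

theorem bp_stab_one (K : Subgroup G) (e : Set (IrrCharacter K)) : StabilizesBlock K e 1 := by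
  refine ⟨Subgroup.one_mem _, fun χ hχ => ⟨χ, hχ, fun k k' hkk => ?_⟩⟩
  have e1 : k' = k := Subtype.ext (by rw [hkk]; group)
  rw [e1]

theorem bp_stab_mul (K : Subgroup G) (e : Set (IrrCharacter K)) (g h : G)
    (hg : StabilizesBlock K e g) (hh : StabilizesBlock K e h) : StabilizesBlock K e (g * h) := by
  refine ⟨Subgroup.mul_mem _ hg.1 hh.1, fun χ hχ => ?_⟩
  obtain ⟨χ', hχ', hc'⟩ := hh.2 χ hχ
  obtain ⟨χ'', hχ'', hc''⟩ := hg.2 χ' hχ'
  refine ⟨χ'', hχ'', fun k k'' hkk => ?_⟩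
  have hk' : h * (k : G) * h⁻¹ ∈ K := (Subgroup.mem_normalizer_iff.mp hh.1 k).mp k.2
  have h1 := hc' k ⟨_, hk'⟩ rfl
  have h2 := hc'' ⟨_, hk'⟩ k'' (by
    show (k'' : G) = g * (h * (k : G) * h⁻¹) * g⁻¹
    rw [hkk]
    group)
  rw [h2, h1]

theorem bp_stab_pow (K : Subgroup G) (e : Set (IrrCharacter K)) (g : G)
    (hg : StabilizesBlock K e g) (n : ℕ) : StabilizesBlock K e (g ^ n) := by
  induction n with
  | zero =>
    rw [pow_zero]
    exact bp_stab_one K e
  | succ n ih =>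
    rw [pow_succ]
    exact bp_stab_mul K e _ _ ih hg

theorem bp_stab_inv (K : Subgroup G) (e : Set (IrrCharacter K)) (g : G)
    (hg : StabilizesBlock K e g) : StabilizesBlock K e g⁻¹ := by
  have h1 : g * g ^ (orderOf g - 1) = 1 := by
    rw [← pow_succ', Nat.sub_add_cancel (orderOf_pos g), pow_orderOf_eq_one]
  rw [inv_eq_of_mul_eq_one_right h1]
  exact bp_stab_pow K e g hg _

/-- the stabilizer of a Brauer pair. -/
def bp_stabSub (P : Subgroup G) (e : Set (IrrCharacter (Subgroup.centralizer (P : Set G)))) : Subgroup G where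
  carrier := {y | y ∈ Subgroup.normalizer (P : Set G) ∧ StabilizesBlock (Subgroup.centralizer (P : Set G)) e y}
  mul_mem' := fun ha hb => ⟨Subgroup.mul_mem _ ha.1 hb.1, bp_stab_mul _ e _ _ ha.2 hb.2⟩
  one_mem' := ⟨Subgroup.one_mem _, bp_stab_one _ e⟩
  inv_mem' := fun ha => ⟨Subgroup.inv_mem _ ha.1, bp_stab_inv _ e _ ha.2⟩

theorem bp_mem_stabSub (P : Subgroup G) (e : Set (IrrCharacter (Subgroup.centralizer (P : Set G)))) (y : G) :
    y ∈ bp_stabSub P e ↔ y ∈ Subgroup.normalizer (P : Set G) ∧ StabilizesBlock (Subgroup.centralizer (P : Set G)) e y :=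
  Iff.rfl

theorem bp_cent_stab (P : Subgroup G) (e : Set (IrrCharacter (Subgroup.centralizer (P : Set G)))) (c : G) (hc : c ∈ (Subgroup.centralizer (P : Set G))) :
    StabilizesBlock (Subgroup.centralizer (P : Set G)) e c := by
  refine ⟨Subgroup.le_normalizer hc, fun χ hχ => ⟨χ, hχ, fun k k' hkk => ?_⟩⟩
  have e1 : k' = (⟨c, hc⟩ : (Subgroup.centralizer (P : Set G))) * k * (⟨c, hc⟩ : (Subgroup.centralizer (P : Set G)))⁻¹ := Subtype.ext hkk
  rw [e1]
  exact irr_conj χ k ⟨c, hc⟩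

set_option maxHeartbeats 800000 in
/-- elements of `p`-power order in the stabilizer of a maximal pair `(P, e)` with `P ≤ C_G(P)`
centralize `P`. -/
theorem bp_inertial_p {p : ℕ} [Fact p.Prime] {M : Ideal AlgInt} (hM : IsPModular p M)
    [hMp : M.IsPrime] (B : Set (IrrCharacter G)) (P : Subgroup G) (e : Set (IrrCharacter (Subgroup.centralizer (P : Set G))))
    (hmax : IsMaximalBrauerPair p M B P e) (hPC : P ≤ (Subgroup.centralizer (P : Set G)))
    (u : G) (hu : u ∈ bp_stabSub P e) (k : ℕ) (hord : orderOf u = p ^ k) : u ∈ (Subgroup.centralizer (P : Set G)) := by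
  classical
  obtain ⟨H, hHdef⟩ : ∃ H : Subgroup G, H = Subgroup.zpowers u ⊔ (Subgroup.centralizer (P : Set G)) := ⟨_, rfl⟩
  have hCH : (Subgroup.centralizer (P : Set G)) ≤ H := by
    rw [hHdef]
    exact le_sup_right
  have huH : u ∈ H := by
    rw [hHdef]
    exact Subgroup.mem_sup_left (Subgroup.mem_zpowers u)
  have hHT : H ≤ bp_stabSub P e := by
    rw [hHdef]
    refine sup_le ?_ ?_
    · rw [Subgroup.zpowers_le]
      exact hu
    · intro c hc
      exact ⟨Subgroup.centralizer_le_normalizer _ hc, bp_cent_stab P e c hc⟩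
  have hHN : H ≤ Subgroup.normalizer (P : Set G) := fun h hh => (hHT hh).1
  have hHNC : H ≤ Subgroup.normalizer (((Subgroup.centralizer (P : Set G)) : Subgroup G) : Set G) :=
    fun h hh => pf_norm_cent P h (hHN hh)
  haveI hnorm : ((Subgroup.centralizer (P : Set G)).subgroupOf H).Normal := Subgroup.normal_subgroupOf_of_le_normalizer hHNC
  haveI : Fintype H := Fintype.ofFinite _
  haveI : Fintype (Subgroup.centralizer (P : Set G)) := Fintype.ofFinite _
  haveI : Fintype ((Subgroup.centralizer (P : Set G)).subgroupOf H) := Fintype.ofFinite _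
  have hidx : ∃ j : ℕ, ((Subgroup.centralizer (P : Set G)).subgroupOf H).index = p ^ j := by
    have hpg : IsPGroup p (H ⧸ (Subgroup.centralizer (P : Set G)).subgroupOf H) := by
      intro q
      refine ⟨k, ?_⟩
      obtain ⟨h, rfl⟩ := QuotientGroup.mk_surjective q
      have hmem : (h : G) ∈ ((Subgroup.zpowers u ⊔ (Subgroup.centralizer (P : Set G)) : Subgroup G) : Set G) := by
        rw [← hHdef]
        exact h.2
      rw [Subgroup.coe_mul_of_left_le_normalizer_right (Subgroup.zpowers u) (Subgroup.centralizer (P : Set G)) (by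
        rw [Subgroup.zpowers_le]
        exact pf_norm_cent P u hu.1)] at hmem
      obtain ⟨y, hy, z, hz, hyz⟩ := Set.mem_mul.mp hmem
      obtain ⟨n, rfl⟩ := Subgroup.mem_zpowers_iff.mp hy
      have hyH : u ^ n ∈ H := H.zpow_mem huH n
      have hzH : z ∈ H := hCH hz
      have e1 : h = (⟨u ^ n, hyH⟩ : H) * ⟨z, hzH⟩ := Subtype.ext hyz.symm
      have e2 : ((⟨z, hzH⟩ : H) : H ⧸ (Subgroup.centralizer (P : Set G)).subgroupOf H) = 1 :=
        (QuotientGroup.eq_one_iff _).mpr (Subgroup.mem_subgroupOf.mpr hz)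
      rw [e1, QuotientGroup.mk_mul, e2, mul_one, ← QuotientGroup.mk_pow]
      have e3 : (⟨u ^ n, hyH⟩ : H) ^ p ^ k = 1 := by
        apply Subtype.ext
        show (u ^ n) ^ p ^ k = (1 : G)
        rw [← zpow_natCast, ← zpow_mul, zpow_mul', zpow_natCast, ← hord, pow_orderOf_eq_one,
          one_zpow]
      rw [e3]
      rfl
    obtain ⟨j, hj⟩ := IsPGroup.iff_card.mp hpg
    exact ⟨j, by rw [Subgroup.index_eq_card]; exact hj⟩
  obtain ⟨φ, hφ⟩ : ∃ φ : ↥((Subgroup.centralizer (P : Set G)).subgroupOf H) ≃* ↥(Subgroup.centralizer (P : Set G)), φ = Subgroup.subgroupOfEquivOfLe hCH :=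
    ⟨_, rfl⟩
  have hφv : ∀ c : (Subgroup.centralizer (P : Set G)).subgroupOf H, ((φ c : (Subgroup.centralizer (P : Set G))) : G) = ((c : H) : G) := by
    intro c
    rw [hφ]
    rfl
  obtain ⟨c, hcdef⟩ : ∃ c : Set (IrrCharacter ((Subgroup.centralizer (P : Set G)).subgroupOf H)), c = fm_tr φ.symm e := ⟨_, rfl⟩
  have hcblk : IsPBlock M c := by
    rw [hcdef]
    exact fm_tr_isPBlock _ e hmax.1.1.2
  have hccoef : ∀ k : (Subgroup.centralizer (P : Set G)).subgroupOf H, blockCoeff c k = blockCoeff e (φ k) := by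
    intro k
    have h3 := fm_tr_coeff φ.symm e (φ k)
    rw [φ.symm_apply_apply] at h3
    rw [hcdef]
    exact h3
  have hcst : ∀ x : H, StabilizesBlock ((Subgroup.centralizer (P : Set G)).subgroupOf H) c x := by
    intro x
    refine ⟨(Subgroup.le_normalizer_of_normal : (⊤ : Subgroup H) ≤ _) (Subgroup.mem_top x),
      fun χ hχ => ?_⟩
    rw [hcdef, fm_tr_mem'] at hχ
    obtain ⟨θ', hθ', hc⟩ := (hHT x.2).2.2 _ hχ
    refine ⟨fm_pb φ θ', ?_, ?_⟩
    · rw [hcdef, fm_tr_mem', fm_pb_symm']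
      exact hθ'
    · intro k k' hkk
      show (θ' : (Subgroup.centralizer (P : Set G)) → ℂ) (φ k') = (χ : (Subgroup.centralizer (P : Set G)).subgroupOf H → ℂ) k
      have h3 := hc (φ k) (φ k') (by
        rw [hφv, hφv, hkk]
        rfl)
      rw [h3]
      show (χ : (Subgroup.centralizer (P : Set G)).subgroupOf H → ℂ) (φ.symm (φ k)) = _
      rw [φ.symm_apply_apply]
  obtain ⟨θ₀, hθ₀⟩ := hcblk
  have hcst' : ∀ x : H, StabilizesBlock ((Subgroup.centralizer (P : Set G)).subgroupOf H)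
      (blockOf M (θ₀ : (Subgroup.centralizer (P : Set G)).subgroupOf H → ℂ)) x := by
    rw [← hθ₀]
    exact hcst
  obtain ⟨⟨χ₁, hχ₁⟩, h2⟩ := stable_block_main ((Subgroup.centralizer (P : Set G)).subgroupOf H) hM hidx θ₀ hcst'
  obtain ⟨g₀, hg₀⟩ := exists_defect_class (M := M) χ₁
  obtain ⟨S₀⟩ : Nonempty (Sylow p (Subgroup.centralizer ({g₀} : Set H))) := inferInstance
  obtain ⟨D, hDdef⟩ : ∃ D : Subgroup H, D = (S₀ : Subgroup _).map
      (Subgroup.centralizer ({g₀} : Set H)).subtype := ⟨_, rfl⟩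
  have hDdg : IsDefectGroup p M (blockOf M (χ₁ : H → ℂ)) D := ⟨g₀, hg₀, S₀, hDdef⟩
  obtain ⟨hsup, -⟩ := h2 χ₁ hχ₁ D hDdg
  have hg₀C : g₀ ∈ (Subgroup.centralizer (P : Set G)).subgroupOf H := by
    by_contra hcon
    have h3 := hχ₁ g₀
    unfold subgroupBlockCoeff at h3
    rw [dif_neg hcon] at h3
    exact hg₀.2.1 (h3 ▸ memLocalIdeal_zero hMp.ne_top)
  have hg₀G : ((g₀ : H) : G) ∈ (Subgroup.centralizer (P : Set G)) := Subgroup.mem_subgroupOf.mp hg₀C
  have hne : ¬ MemLocalIdeal M (subgroupBlockCoeff (Subgroup.centralizer (P : Set G)) e ((g₀ : H) : G)) := by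
    have h3 := hχ₁ g₀
    unfold subgroupBlockCoeff at h3
    rw [dif_pos hg₀C, ← hθ₀, hccoef] at h3
    have e4 : φ ⟨g₀, hg₀C⟩ = (⟨((g₀ : H) : G), hg₀G⟩ : (Subgroup.centralizer (P : Set G))) := Subtype.ext (hφv _)
    unfold subgroupBlockCoeff
    rw [dif_pos hg₀G, ← e4, ← h3]
    exact hg₀.2.1
  obtain ⟨DG, hDG⟩ : ∃ DG : Subgroup G, DG = D.map H.subtype := ⟨_, rfl⟩
  have hDGmem : ∀ g : G, g ∈ DG ↔ ∃ h : H, h ∈ D ∧ (h : G) = g := by
    intro g
    rw [hDG]
    exact bh_sub_map H D g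
  have hDp : IsPGroup p D := by
    rw [hDdef]
    exact S₀.isPGroup'.map _
  have hDGp : IsPGroup p DG := by
    rw [hDG]
    exact hDp.map _
  have hDc : ∀ d ∈ D, d * g₀ = g₀ * d := by
    intro d hd
    rw [hDdef] at hd
    obtain ⟨z, -, rfl⟩ := hd
    exact Subgroup.mem_centralizer_singleton_iff.mp z.2
  have hP'D : P.subgroupOf H ≤ D := by
    have hPZ : P.subgroupOf H ≤ Subgroup.centralizer ({g₀} : Set H) := by
      intro x hx
      rw [Subgroup.mem_centralizer_singleton_iff]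
      apply Subtype.ext
      exact (Subgroup.mem_centralizer_iff.mp hg₀G) (x : G) (Subgroup.mem_subgroupOf.mp hx)
    haveI hn1 : (P.subgroupOf H).Normal := Subgroup.normal_subgroupOf_of_le_normalizer hHN
    haveI hn2 : ((P.subgroupOf H).subgroupOf (Subgroup.centralizer ({g₀} : Set H))).Normal :=
      hn1.subgroupOf _
    have hpp : IsPGroup p ((P.subgroupOf H).subgroupOf (Subgroup.centralizer ({g₀} : Set H))) :=
      (hmax.1.1.1.comap_subtype).comap_subtype
    have hle := IsPGroup.le_sylow_of_normal hpp S₀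
    intro x hx
    rw [hDdef]
    exact ⟨⟨x, hPZ hx⟩, hle (Subgroup.mem_subgroupOf.mpr hx), rfl⟩
  have hPDG : P ≤ DG := by
    intro x hx
    exact (hDGmem x).mpr ⟨⟨x, hCH (hPC hx)⟩, hP'D (Subgroup.mem_subgroupOf.mpr hx), rfl⟩
  have hDGH : DG ≤ H := by
    intro g hg
    obtain ⟨h, -, rfl⟩ := (hDGmem g).mp hg
    exact h.2
  have hDGN : DG ≤ Subgroup.normalizer (P : Set G) := le_trans hDGH hHN
  have hDGst : ∀ x ∈ DG, StabilizesBlock (Subgroup.centralizer (P : Set G)) e x := fun x hx => (hHT (hDGH hx)).2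
  have hg₀D : ((g₀ : H) : G) ∈ Subgroup.centralizer (DG : Set G) := by
    rw [Subgroup.mem_centralizer_iff]
    intro g hg
    obtain ⟨d, hd, rfl⟩ := (hDGmem g).mp hg
    exact congrArg (fun t : H => (t : G)) (hDc d hd)
  obtain ⟨gb, hgb⟩ := bp_up' hM P DG e hmax.1.1 hDGp hPDG hDGN hDGst _ hg₀D hne
  have hBD : IsBrauerPairOf p M B DG gb :=
    (bp_of_normal hM DG P gb e hgb B hmax.1.2.1).mpr hmax.1
  have hDGP : DG = P := hmax.2 DG gb hBD (Relation.ReflTransGen.single hgb)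
  have hDC : D ≤ (Subgroup.centralizer (P : Set G)).subgroupOf H := by
    intro d hd
    rw [Subgroup.mem_subgroupOf]
    have h5 : (d : G) ∈ DG := (hDGmem _).mpr ⟨d, hd, rfl⟩
    rw [hDGP] at h5
    exact hPC h5
  have htop : (Subgroup.centralizer (P : Set G)).subgroupOf H = ⊤ := by
    rw [← hsup]
    exact (sup_eq_left.mpr hDC).symm
  have h6 : (⟨u, huH⟩ : H) ∈ (Subgroup.centralizer (P : Set G)).subgroupOf H := by
    rw [htop]
    exact Subgroup.mem_top _
  exact Subgroup.mem_subgroupOf.mp h6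

/-- abelian maximal pair: the block is nilpotent iff the inertial quotient is trivial. -/
theorem bp_abel_nil {p : ℕ} [Fact p.Prime] {M : Ideal AlgInt} (hM : IsPModular p M)
    [hMp : M.IsPrime] (B : Set (IrrCharacter G)) (P : Subgroup G) (e : Set (IrrCharacter (Subgroup.centralizer (P : Set G))))
    (hmax : IsMaximalBrauerPair p M B P e) (hab : ∀ x ∈ P, ∀ y ∈ P, x * y = y * x) :
    IsNilpotentBlock p M B ↔ ∀ x : G, x ∈ Subgroup.normalizer (P : Set G) →
      StabilizesBlock (Subgroup.centralizer (P : Set G)) e x → x ∈ (Subgroup.centralizer (P : Set G)) := by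
  classical
  have hPe := hmax.1.1
  have hPC : P ≤ (Subgroup.centralizer (P : Set G)) := by
    intro u hu
    rw [Subgroup.mem_centralizer_iff]
    intro q hq
    exact hab q hq u hu
  have hp := (Fact.out : p.Prime)
  constructor
  · intro hnil x hxN hxS
    have hxT : x ∈ bp_stabSub P e := ⟨hxN, hxS⟩
    have hn0 : orderOf x ≠ 0 := (orderOf_pos x).ne'
    obtain ⟨a, ha⟩ : ∃ a, a = (orderOf x).factorization p := ⟨_, rfl⟩
    have hdvd : p ^ a ∣ orderOf x := by
      rw [ha]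
      exact Nat.ordProj_dvd (orderOf x) p
    have hcop : Nat.Coprime (p ^ a) (orderOf x / p ^ a) := by
      rw [ha]
      exact (Nat.coprime_ordCompl hp hn0).pow_left _
    have hy_ord : orderOf (x ^ (p ^ a)) = orderOf x / p ^ a :=
      orderOf_pow_of_dvd (pow_ne_zero _ hp.ne_zero) hdvd
    have hyreg : IsPRegular p (x ^ (p ^ a)) := by
      unfold IsPRegular
      rw [hy_ord, ha]
      exact Nat.not_dvd_ordCompl hp hn0
    have hyT : x ^ (p ^ a) ∈ bp_stabSub P e := Subgroup.pow_mem _ hxT _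
    have hyC : x ^ (p ^ a) ∈ (Subgroup.centralizer (P : Set G)) := hnil.2 P e hmax.1 _ hyT.1 hyT.2 hyreg
    have hm0 : orderOf x / p ^ a ≠ 0 :=
      Nat.ne_of_gt (Nat.div_pos (Nat.le_of_dvd (Nat.pos_of_ne_zero hn0) hdvd) (pow_pos hp.pos a))
    have hz_ord : orderOf (x ^ (orderOf x / p ^ a)) = p ^ a := by
      rw [orderOf_pow_of_dvd hm0 (Nat.div_dvd_of_dvd hdvd)]
      exact Nat.div_div_self hdvd hn0
    have hzT : x ^ (orderOf x / p ^ a) ∈ bp_stabSub P e := Subgroup.pow_mem _ hxT _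
    have hzC : x ^ (orderOf x / p ^ a) ∈ (Subgroup.centralizer (P : Set G)) := bp_inertial_p hM B P e hmax hPC _ hzT a hz_ord
    have hb := Nat.gcd_eq_gcd_ab (p ^ a) (orderOf x / p ^ a)
    rw [hcop.gcd_eq_one] at hb
    have hx : x = (x ^ (p ^ a)) ^ (Nat.gcdA (p ^ a) (orderOf x / p ^ a))
        * (x ^ (orderOf x / p ^ a)) ^ (Nat.gcdB (p ^ a) (orderOf x / p ^ a)) := by
      rw [← zpow_natCast x (p ^ a), ← zpow_natCast x (orderOf x / p ^ a), ← zpow_mul, ← zpow_mul,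
        ← zpow_add, ← hb]
      simp
    rw [hx]
    exact Subgroup.mul_mem _ (Subgroup.zpow_mem _ hyC _) (Subgroup.zpow_mem _ hzC _)
  · intro hT
    refine ⟨hmax.1.2.1, fun Q f hQf x hxN hxS _ => ?_⟩
    obtain ⟨z, hz⟩ := bp_conj_max hM B P Q e f hmax hQf
    obtain ⟨a₁, ha₁⟩ : ∃ a₁ : BrauerPairIdx G,
        a₁ = ⟨Q.map (MulAut.conj z).toMonoidHom, conjBlock Q z f⟩ := ⟨_, rfl⟩
    have hrel : bc_rel z (⟨Q, f⟩ : BrauerPairIdx G) a₁ := by
      rw [ha₁]
      exact bc_rel_cj z ⟨Q, f⟩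
    have hch : Relation.ReflTransGen (NormalSubpairRel p M) a₁ ⟨P, e⟩ := by
      rw [ha₁]
      exact hz
    clear ha₁
    have hpair₁ : IsBrauerPairOf p M B a₁.1 a₁.2 := bc_pairOf z B ⟨Q, f⟩ a₁ hQf hrel
    have hxx : bc_rel x (⟨Q, f⟩ : BrauerPairIdx G) ⟨Q, f⟩ :=
      bc_stab_self x Q f hxN hxS (bp_stab_inv _ f x hxS)
    have hx₁ : bc_rel (z * (x * z⁻¹)) a₁ a₁ := bc_rel_mul (bc_rel_mul (bc_rel_inv hrel) hxx) hrel
    have hx₁' : bc_rel (z * (x * z⁻¹))⁻¹ a₁ a₁ := bc_rel_inv hx₁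
    have hQ₁P' := pf_le a₁ ⟨P, e⟩ hch
    obtain ⟨Q₁, f₁⟩ := a₁
    have hQ₁P : Q₁ ≤ P := hQ₁P'
    have hs : bc_sub z Q Q₁ := hrel.1
    have hPH₁ : P ≤ Subgroup.centralizer (Q₁ : Set G) := by
      intro u hu
      rw [Subgroup.mem_centralizer_iff]
      intro q hq
      exact hab q (hQ₁P hq) u hu
    have hPNQ₁ : P ≤ Subgroup.normalizer (Q₁ : Set G) :=
      le_trans hPH₁ (Subgroup.centralizer_le_normalizer _)
    have hN₁ : IsNormalSubpair p M Q₁ f₁ P e :=
      bp_collapse hM ⟨Q₁, f₁⟩ ⟨P, e⟩ hch hpair₁.1 hPNQ₁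
    obtain ⟨h1N, h1S⟩ := bc_self_stab _ Q₁ f₁ hx₁
    obtain ⟨-, h1S'⟩ := bc_self_stab _ Q₁ f₁ hx₁'
    obtain ⟨c, hc, h2N, h2S⟩ := bp_cent_split hM B P e hmax Q₁ f₁ hPH₁ hN₁ _ h1N h1S h1S'
    have h3 := hT _ h2N h2S
    have h4 : c * (z * (x * z⁻¹)) ∈ Subgroup.centralizer (Q₁ : Set G) :=
      Subgroup.centralizer_le hQ₁P h3
    have h5 : z * (x * z⁻¹) ∈ Subgroup.centralizer (Q₁ : Set G) := by
      have h7 := Subgroup.mul_mem _ (Subgroup.inv_mem _ hc) h4
      rwa [inv_mul_cancel_left] at h7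
    have h6 := bc_cent' hs _ h5
    have e1 : z⁻¹ * (z * (x * z⁻¹)) * z = x := by group
    rw [e1] at h6
    exact h6

end Cfsg.Agent.Helper24
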