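import Mathlib
import Cfsg.Agent.Helper24.BP14

/-!
helper24: Brauer pairs of a block `f` of `C_G(Q)` versus pairs of `G` above `(Q, f)`, and the
defect groups of `f` for a subpair `(Q, f)` of a maximal pair.
-/

set_option autoImplicit false

namespace Cfsg.Agent.Helper24

open Cfsg Cfsg.Agent.Helper5 Cfsg.Agent.Helper22

universe u

variable {G : Type u} [Group G]

/-- the subgroup `Q R'` of `G` for a subgroup `R'` of `C_G(Q)`. -/
def bq_up (Q : Subgroup G) (R' : Subgroup (Subgroup.centralizer (Q : Set G))) : Subgroup G :=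
  Q ⊔ R'.map (Subgroup.centralizer (Q : Set G)).subtype

theorem bq_le (Q : Subgroup G) (R' : Subgroup (Subgroup.centralizer (Q : Set G))) :
    Q ≤ Subgroup.normalizer ((R'.map (Subgroup.centralizer (Q : Set G)).subtype : Subgroup G) : Set G) := by
  intro q hq
  refine Subgroup.centralizer_le_normalizer _ ?_
  rw [Subgroup.mem_centralizer_iff]
  intro y hy
  obtain ⟨h, -, rfl⟩ := Subgroup.mem_map.mp hy
  exact (Subgroup.mem_centralizer_iff.mp h.2 q hq).symm

theorem bq_mem (Q : Subgroup G) (R' : Subgroup (Subgroup.centralizer (Q : Set G))) (g : G) :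
    g ∈ bq_up Q R' ↔ ∃ q ∈ Q, ∃ h : (Subgroup.centralizer (Q : Set G)), h ∈ R' ∧ q * (h : G) = g := by
  have h1 : g ∈ bq_up Q R' ↔ g ∈ ((Q ⊔ R'.map (Subgroup.centralizer (Q : Set G)).subtype : Subgroup G) : Set G) := Iff.rfl
  rw [h1, Subgroup.coe_mul_of_left_le_normalizer_right Q _ (bq_le Q R'), Set.mem_mul]
  constructor
  · rintro ⟨q, hq, y, hy, rfl⟩
    obtain ⟨h, hh, rfl⟩ := Subgroup.mem_map.mp hy
    exact ⟨q, hq, h, hh, rfl⟩
  · rintro ⟨q, hq, h, hh, rfl⟩
    exact ⟨q, hq, (h : G), Subgroup.mem_map.mpr ⟨h, hh, rfl⟩, rfl⟩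

theorem bq_left (Q : Subgroup G) (R' : Subgroup (Subgroup.centralizer (Q : Set G))) : Q ≤ bq_up Q R' := le_sup_left

theorem bq_right (Q : Subgroup G) (R' : Subgroup (Subgroup.centralizer (Q : Set G))) (h : (Subgroup.centralizer (Q : Set G))) (hh : h ∈ R') :
    (h : G) ∈ bq_up Q R' :=
  (bq_mem Q R' _).mpr ⟨1, Subgroup.one_mem _, h, hh, one_mul _⟩

/-- the centralizer of `R'` in `C_G(Q)` is the centralizer of `Q R'` in `G`. -/
def bq_equiv (Q : Subgroup G) (R' : Subgroup (Subgroup.centralizer (Q : Set G))) :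
    ↥(Subgroup.centralizer (R' : Set (Subgroup.centralizer (Q : Set G)))) ≃* ↥(Subgroup.centralizer (bq_up Q R' : Set G)) where
  toFun c := ⟨((c : (Subgroup.centralizer (Q : Set G))) : G), by
    rw [Subgroup.mem_centralizer_iff]
    intro g hg
    obtain ⟨q, hq, h, hh, rfl⟩ := (bq_mem Q R' g).mp hg
    have h1 : (h : G) * ((c : (Subgroup.centralizer (Q : Set G))) : G) = ((c : (Subgroup.centralizer (Q : Set G))) : G) * (h : G) :=
      congrArg (fun t : (Subgroup.centralizer (Q : Set G)) => (t : G)) (Subgroup.mem_centralizer_iff.mp c.2 h hh)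
    have h2 : q * ((c : (Subgroup.centralizer (Q : Set G))) : G) = ((c : (Subgroup.centralizer (Q : Set G))) : G) * q :=
      Subgroup.mem_centralizer_iff.mp (c : (Subgroup.centralizer (Q : Set G))).2 q hq
    calc q * (h : G) * ((c : (Subgroup.centralizer (Q : Set G))) : G) = q * ((h : G) * ((c : (Subgroup.centralizer (Q : Set G))) : G)) := mul_assoc _ _ _
      _ = q * (((c : (Subgroup.centralizer (Q : Set G))) : G) * (h : G)) := by rw [h1]
      _ = (q * ((c : (Subgroup.centralizer (Q : Set G))) : G)) * (h : G) := (mul_assoc _ _ _).symm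
      _ = ((c : (Subgroup.centralizer (Q : Set G))) : G) * q * (h : G) := by rw [h2]
      _ = ((c : (Subgroup.centralizer (Q : Set G))) : G) * (q * (h : G)) := mul_assoc _ _ _⟩
  invFun c' := ⟨⟨(c' : G), by
    rw [Subgroup.mem_centralizer_iff]
    intro q hq
    exact Subgroup.mem_centralizer_iff.mp c'.2 q (bq_left Q R' hq)⟩, by
    rw [Subgroup.mem_centralizer_iff]
    intro k hk
    apply Subtype.ext
    exact Subgroup.mem_centralizer_iff.mp c'.2 (k : G) (bq_right Q R' k hk)⟩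
  left_inv c := Subtype.ext (Subtype.ext rfl)
  right_inv c' := Subtype.ext rfl
  map_mul' a b := Subtype.ext rfl

/-- a pair of `G` on `Q R'` that is normal above `(Q, f)` gives a Brauer pair of `f` in the group
`C_G(Q)`. -/
theorem bq_pairOf {p : ℕ} {M : Ideal AlgInt} (Q : Subgroup G) (f : Set (IrrCharacter (Subgroup.centralizer (Q : Set G))))
    (hf : IsPBlock M f) (R' : Subgroup (Subgroup.centralizer (Q : Set G))) (hR' : IsPGroup p R')
    (g : Set (IrrCharacter (Subgroup.centralizer (bq_up Q R' : Set G)))) (hg : IsPBlock M g)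
    (hbr : ∀ ξ ∈ g, MemLocalIdeal M (brauerOmega (bq_up Q R') (subgroupBlockCoeff (Subgroup.centralizer (Q : Set G)) f)
      (ξ : Subgroup.centralizer (bq_up Q R' : Set G) → ℂ) - 1)) :
    IsBrauerPairOf p M f R' (fm_tr (bq_equiv Q R').symm g) := by
  refine ⟨⟨hR', fm_tr_isPBlock _ g hg⟩, hf, fun ξ' hξ' => ?_⟩
  rw [fm_tr_mem'] at hξ'
  have h3 := hbr _ hξ'
  have e2 : brauerOmega R' (blockCoeff f) (ξ' : Subgroup.centralizer (R' : Set (Subgroup.centralizer (Q : Set G))) → ℂ)
      = brauerOmega (bq_up Q R') (subgroupBlockCoeff (Subgroup.centralizer (Q : Set G)) f)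
        (fm_pb (bq_equiv Q R').symm ξ' : Subgroup.centralizer (bq_up Q R' : Set G) → ℂ) := by
    unfold brauerOmega
    rw [← finsum_comp_equiv (bq_equiv Q R').toEquiv]
    refine finsum_congr fun x => ?_
    show blockCoeff f (x : (Subgroup.centralizer (Q : Set G))) * (ξ' : Subgroup.centralizer (R' : Set (Subgroup.centralizer (Q : Set G))) → ℂ) x
        / (ξ' : Subgroup.centralizer (R' : Set (Subgroup.centralizer (Q : Set G))) → ℂ) 1
      = subgroupBlockCoeff (Subgroup.centralizer (Q : Set G)) f (((x : (Subgroup.centralizer (Q : Set G)))) : G)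
        * (ξ' : Subgroup.centralizer (R' : Set (Subgroup.centralizer (Q : Set G))) → ℂ)
          ((bq_equiv Q R').symm (bq_equiv Q R' x))
        / (ξ' : Subgroup.centralizer (R' : Set (Subgroup.centralizer (Q : Set G))) → ℂ) ((bq_equiv Q R').symm 1)
    rw [MulEquiv.symm_apply_apply, map_one]
    congr 2
    unfold subgroupBlockCoeff
    rw [dif_pos (x : (Subgroup.centralizer (Q : Set G))).2]
  rw [e2]
  exact h3

variable [Fintype G]

/-- a Brauer pair of `f` in the group `C_G(Q)` gives a pair of `G` normal above `(Q, f)`. -/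
theorem bq_normal {p : ℕ} {M : Ideal AlgInt} (Q : Subgroup G) (f : Set (IrrCharacter (Subgroup.centralizer (Q : Set G))))
    (hQf : IsBrauerPair p M Q f) (R' : Subgroup (Subgroup.centralizer (Q : Set G)))
    (g' : Set (IrrCharacter (Subgroup.centralizer (R' : Set (Subgroup.centralizer (Q : Set G))))))
    (h : IsBrauerPairOf p M f R' g') :
    IsNormalSubpair p M Q f (bq_up Q R') (fm_tr (bq_equiv Q R') g') := by
  obtain ⟨⟨hR'p, hg'⟩, _, hbr⟩ := h
  refine ⟨hQf, ⟨?_, fm_tr_isPBlock _ g' hg'⟩, bq_left Q R', ?_, ?_, ?_⟩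
  · exact IsPGroup.to_sup_of_normal_right' hQf.1 (hR'p.map _) (bq_le Q R')
  · intro x hx
    obtain ⟨q, hq, h, hh, rfl⟩ := (bq_mem Q R' x).mp hx
    exact Subgroup.mul_mem _ (Subgroup.le_normalizer hq)
      (Subgroup.centralizer_le_normalizer _ h.2)
  · intro x hx
    obtain ⟨q, hq, h, hh, rfl⟩ := (bq_mem Q R' x).mp hx
    refine bp_stab_mul _ f _ _ ?_ (bp_cent_stab Q f _ h.2)
    refine ⟨pf_norm_cent Q q (Subgroup.le_normalizer hq), fun χ hχ => ⟨χ, hχ, fun k k' hkk => ?_⟩⟩
    have e1 : k' = k := by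
      apply Subtype.ext
      rw [hkk, Subgroup.mem_centralizer_iff.mp k.2 q hq]
      group
    rw [e1]
  · intro ξ hξ
    rw [fm_tr_mem'] at hξ
    have h3 := hbr _ hξ
    have e1 : brauerOmega (bq_up Q R') (subgroupBlockCoeff (Subgroup.centralizer (Q : Set G)) f)
          (ξ : Subgroup.centralizer (bq_up Q R' : Set G) → ℂ)
        = brauerOmega R' (blockCoeff f)
          (fm_pb (bq_equiv Q R') ξ : Subgroup.centralizer (R' : Set (Subgroup.centralizer (Q : Set G))) → ℂ) := by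
      unfold brauerOmega
      rw [← finsum_comp_equiv (bq_equiv Q R').toEquiv]
      refine finsum_congr fun x => ?_
      show subgroupBlockCoeff (Subgroup.centralizer (Q : Set G)) f (((x : (Subgroup.centralizer (Q : Set G)))) : G)
          * (ξ : Subgroup.centralizer (bq_up Q R' : Set G) → ℂ) (bq_equiv Q R' x)
          / (ξ : Subgroup.centralizer (bq_up Q R' : Set G) → ℂ) 1
        = blockCoeff f (x : (Subgroup.centralizer (Q : Set G)))
          * (ξ : Subgroup.centralizer (bq_up Q R' : Set G) → ℂ) (bq_equiv Q R' x)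
          / (ξ : Subgroup.centralizer (bq_up Q R' : Set G) → ℂ) (bq_equiv Q R' 1)
      rw [map_one]
      congr 2
      unfold subgroupBlockCoeff
      rw [dif_pos (x : (Subgroup.centralizer (Q : Set G))).2]
    rw [e1]
    exact h3

/-- `C_P(Q)` lies in the subgroup of a maximal Brauer pair of `f` in `C_G(Q)`. -/
theorem bp_cent_defect_le {p : ℕ} [Fact p.Prime] {M : Ideal AlgInt} (hM : IsPModular p M)
    [hMp : M.IsPrime] (B : Set (IrrCharacter G)) (P Q : Subgroup G)
    (e : Set (IrrCharacter (Subgroup.centralizer (P : Set G)))) (f : Set (IrrCharacter (Subgroup.centralizer (Q : Set G))))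
    (hmax : IsMaximalBrauerPair p M B P e) (hQP : Q ≤ P) (hf : IsPBlock M f)
    (hle : SubpairLE p M Q f P e) :
    ∃ b' : BrauerPairIdx (Subgroup.centralizer (Q : Set G)), IsMaximalBrauerPair p M f b'.1 b'.2 ∧
      (P ⊓ (Subgroup.centralizer (Q : Set G))).subgroupOf (Subgroup.centralizer (Q : Set G)) ≤ b'.1 := by
  classical
  have hPe := hmax.1.1
  have hQ : IsPGroup p Q := hPe.1.to_le hQP
  obtain ⟨R', hR'⟩ : ∃ R' : Subgroup (Subgroup.centralizer (Q : Set G)), R' = (P ⊓ (Subgroup.centralizer (Q : Set G))).subgroupOf (Subgroup.centralizer (Q : Set G)) := ⟨_, rfl⟩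
  have hR'p : IsPGroup p R' := by
    rw [hR']
    exact (hPe.1.to_le inf_le_left).comap_subtype
  have hRP : bq_up Q R' ≤ P := by
    refine sup_le hQP ?_
    rintro _ ⟨h, hh, rfl⟩
    rw [hR'] at hh
    exact (Subgroup.mem_subgroupOf.mp hh).1
  obtain ⟨g, hg, hgP⟩ := bp_sub_exists hM P e hPe _ (bq_up Q R') hRP le_rfl
  have hRg : IsBrauerPair p M (bq_up Q R') g := ⟨hPe.1.to_le hRP, hg⟩
  obtain ⟨f₀, hf₀, hf₀R⟩ := bp_sub_exists hM (bq_up Q R') g hRg _ Q (bq_left Q R') le_rfl
  have hff : f₀ = f := bp_sub_unique hM P e hPe _ Q hQP le_rfl f₀ f hf₀ hf (hf₀R.trans hgP) hle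
  rw [hff] at hf₀R
  have hRN : bq_up Q R' ≤ Subgroup.normalizer (Q : Set G) := by
    intro x hx
    obtain ⟨q, hq, h, hh, rfl⟩ := (bq_mem Q R' x).mp hx
    exact Subgroup.mul_mem _ (Subgroup.le_normalizer hq)
      (Subgroup.centralizer_le_normalizer _ h.2)
  have hN : IsNormalSubpair p M Q f (bq_up Q R') g :=
    bp_collapse hM ⟨Q, f⟩ ⟨bq_up Q R', g⟩ hf₀R ⟨hQ, hf⟩ hRN
  have hpair := bq_pairOf Q f hf R' hR'p g hg hN.2.2.2.2.2
  haveI : Fintype (Subgroup.centralizer (Q : Set G)) := Fintype.ofFinite _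
  obtain ⟨b', hchain, hb'max⟩ := bp_exists_max (p := p) (M := M) f _
    (⟨R', fm_tr (bq_equiv Q R').symm g⟩ : BrauerPairIdx (Subgroup.centralizer (Q : Set G))) hpair le_rfl
  refine ⟨b', hb'max, ?_⟩
  rw [← hR']
  exact pf_le _ _ hchain

set_option maxHeartbeats 800000 in
/-- some conjugate of the subpair `(Q, f)` of a maximal pair `(P, e)` lies below `(P, e)` and has
`C_P(Q)` as a defect group of its block. -/
theorem bp_cent_defect_conj {p : ℕ} [Fact p.Prime] {M : Ideal AlgInt} (hM : IsPModular p M)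
    [hMp : M.IsPrime] (B : Set (IrrCharacter G)) (P Q : Subgroup G)
    (e : Set (IrrCharacter (Subgroup.centralizer (P : Set G)))) (f : Set (IrrCharacter (Subgroup.centralizer (Q : Set G))))
    (hmax : IsMaximalBrauerPair p M B P e) (hQP : Q ≤ P) (hf : IsPBlock M f)
    (hle : SubpairLE p M Q f P e) :
    ∃ x : G, SubpairLE p M (Q.map (MulAut.conj x).toMonoidHom) (conjBlock Q x f) P e ∧
      IsDefectGroup p M (conjBlock Q x f)
        ((P ⊓ Subgroup.centralizer ((Q.map (MulAut.conj x).toMonoidHom : Subgroup G) : Set G)).subgroupOf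
          (Subgroup.centralizer ((Q.map (MulAut.conj x).toMonoidHom : Subgroup G) : Set G))) := by
  classical
  haveI : Fintype (Subgroup.centralizer (Q : Set G)) := Fintype.ofFinite _
  obtain ⟨b', hb'max, -⟩ := bp_cent_defect_le hM B P Q e f hmax hQP hf hle
  obtain ⟨D', h'⟩ := b'
  have hmax' : IsMaximalBrauerPair p M f D' h' := hb'max
  have hD' : IsDefectGroup p M f D' := bp_max_defect hM f D' h' hmax'
  have hPe := hmax.1.1
  have hQ : IsPGroup p Q := hPe.1.to_le hQP
  have hQfB : IsBrauerPairOf p M B Q f :=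
    (bp_of_le hM B hmax.1.2.1 ⟨Q, f⟩ ⟨P, e⟩ hle).mp hmax.1
  have hN := bq_normal Q f ⟨hQ, hf⟩ D' h' hmax'.1
  have hBS : IsBrauerPairOf p M B (bq_up Q D') (fm_tr (bq_equiv Q D') h') :=
    (bp_of_normal hM (bq_up Q D') Q _ f hN B hmax.1.2.1).mpr hQfB
  obtain ⟨x, hx⟩ := bp_conj_max hM B P (bq_up Q D') e _ hmax hBS
  have hstep : NormalSubpairRel p M
      (⟨Q.map (MulAut.conj x).toMonoidHom, conjBlock Q x f⟩ : BrauerPairIdx G)
      ⟨(bq_up Q D').map (MulAut.conj x).toMonoidHom,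
        conjBlock (bq_up Q D') x (fm_tr (bq_equiv Q D') h')⟩ :=
    bc_normal x ⟨Q, f⟩ ⟨bq_up Q D', fm_tr (bq_equiv Q D') h'⟩ _ _ hN
      (bc_rel_cj x _) (bc_rel_cj x _)
  have hchain : SubpairLE p M (Q.map (MulAut.conj x).toMonoidHom) (conjBlock Q x f) P e :=
    Relation.ReflTransGen.head hstep hx
  refine ⟨x, hchain, ?_⟩
  have hSP : (bq_up Q D').map (MulAut.conj x).toMonoidHom ≤ P := pf_le _ _ hx
  have hQ₂P : Q.map (MulAut.conj x).toMonoidHom ≤ P := pf_le _ _ hchain
  have hs : bc_sub x Q (Q.map (MulAut.conj x).toMonoidHom) := bc_sub_map x Q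
  have hf₂ : conjBlock Q x f = fm_tr (bc_equiv x Q _ hs) f :=
    (bc_blk_iff hs f (conjBlock Q x f)).mp (fun _ => Iff.rfl)
  have hf₂blk : IsPBlock M (conjBlock Q x f) := by
    rw [hf₂]
    exact fm_tr_isPBlock _ f hf
  obtain ⟨b₂, hb₂max, hEb₂⟩ := bp_cent_defect_le hM B P (Q.map (MulAut.conj x).toMonoidHom) e
    (conjBlock Q x f) hmax hQ₂P hf₂blk hchain
  haveI : Fintype (Subgroup.centralizer
      ((Q.map (MulAut.conj x).toMonoidHom : Subgroup G) : Set G)) := Fintype.ofFinite _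
  have hD₂ : IsDefectGroup p M (conjBlock Q x f) b₂.1 := bp_max_defect hM _ b₂.1 b₂.2 hb₂max
  have hDψ : IsDefectGroup p M (conjBlock Q x f) (D'.map (bc_equiv x Q _ hs).toMonoidHom) := by
    rw [hf₂]
    exact fm_tr_defect (bc_equiv x Q _ hs) f D' hD'
  have hDE : D'.map (bc_equiv x Q _ hs).toMonoidHom
      ≤ (P ⊓ Subgroup.centralizer ((Q.map (MulAut.conj x).toMonoidHom : Subgroup G) : Set G)).subgroupOf
        (Subgroup.centralizer ((Q.map (MulAut.conj x).toMonoidHom : Subgroup G) : Set G)) := by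
    rintro y ⟨d, hd, rfl⟩
    rw [Subgroup.mem_subgroupOf]
    refine ⟨hSP ?_, (bc_equiv x Q _ hs d).2⟩
    exact (pf_conj_mem (bq_up Q D') x _).mpr ⟨(d : G), bq_right Q D' d hd, rfl⟩
  obtain ⟨θ₂, hθ₂⟩ := hf₂blk
  rw [hθ₂] at hD₂ hDψ
  obtain ⟨z, hz⟩ := defect_groups_conj hM θ₂ _ _ hDψ hD₂
  have hcard : Nat.card b₂.1 ≤ Nat.card (D'.map (bc_equiv x Q _ hs).toMonoidHom) := by
    rw [hz, Subgroup.card_map_of_injective (MulAut.conj z).injective]
  have heq1 : D'.map (bc_equiv x Q _ hs).toMonoidHom = b₂.1 :=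
    Subgroup.eq_of_le_of_card_ge (le_trans hDE hEb₂) hcard
  have heq2 : (P ⊓ Subgroup.centralizer ((Q.map (MulAut.conj x).toMonoidHom : Subgroup G) : Set G)).subgroupOf
      (Subgroup.centralizer ((Q.map (MulAut.conj x).toMonoidHom : Subgroup G) : Set G)) = b₂.1 :=
    le_antisymm hEb₂ (heq1 ▸ hDE)
  rw [heq2, hθ₂]
  exact hD₂

end Cfsg.Agent.Helper24
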