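import Mathlib
import Cfsg.Agent.Helper24.BP15
import Cfsg.Prelude.Def_BlockFusion

/-!
helper24: fully centralized subgroups in the fusion system of a block.
-/

set_option autoImplicit false

namespace Cfsg.Agent.Helper24

open Cfsg Cfsg.Agent.Helper5 Cfsg.Agent.Helper22

universe u

variable {G : Type u} [Group G] [Fintype G]

theorem bp_chain_pair {p : ℕ} {M : Ideal AlgInt} (a b : BrauerPairIdx G)
    (h : Relation.ReflTransGen (NormalSubpairRel p M) a b) (hb : IsBrauerPair p M b.1 b.2) :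
    IsBrauerPair p M a.1 a.2 := by
  rcases Relation.ReflTransGen.cases_head h with rfl | ⟨c, hac, -⟩
  · exact hb
  · exact hac.1

/-- defect groups of a block of `C_G(Q)` and of its conjugate have the same order. -/
theorem bp_defect_card_conj {p : ℕ} [Fact p.Prime] {M : Ideal AlgInt} (hM : IsPModular p M)
    [hMp : M.IsPrime] (Q : Subgroup G) (f : Set (IrrCharacter (Subgroup.centralizer (Q : Set G)))) (hf : IsPBlock M f) (x : G)
    (D : Subgroup (Subgroup.centralizer (Q : Set G))) (hD : IsDefectGroup p M f D)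
    (D₂ : Subgroup (Subgroup.centralizer
      ((Q.map (MulAut.conj x).toMonoidHom : Subgroup G) : Set G)))
    (hD₂ : IsDefectGroup p M (conjBlock Q x f) D₂) : Nat.card D₂ = Nat.card D := by
  classical
  haveI : Fintype (Subgroup.centralizer (Q : Set G)) := Fintype.ofFinite _
  haveI : Fintype (Subgroup.centralizer
      ((Q.map (MulAut.conj x).toMonoidHom : Subgroup G) : Set G)) := Fintype.ofFinite _
  have hs : bc_sub x Q (Q.map (MulAut.conj x).toMonoidHom) := bc_sub_map x Q
  have hf₂ : conjBlock Q x f = fm_tr (bc_equiv x Q _ hs) f :=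
    (bc_blk_iff hs f (conjBlock Q x f)).mp (fun _ => Iff.rfl)
  have hDψ : IsDefectGroup p M (conjBlock Q x f) (D.map (bc_equiv x Q _ hs).toMonoidHom) := by
    rw [hf₂]
    exact fm_tr_defect (bc_equiv x Q _ hs) f D hD
  have hblk : IsPBlock M (conjBlock Q x f) := by
    rw [hf₂]
    exact fm_tr_isPBlock _ f hf
  obtain ⟨θ₂, hθ₂⟩ := hblk
  rw [hθ₂] at hD₂ hDψ
  obtain ⟨z, hz⟩ := defect_groups_conj hM θ₂ _ _ hDψ hD₂
  rw [hz, Subgroup.card_map_of_injective (f := (MulAut.conj z).toMonoidHom)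
    (MulAut.conj z).injective,
    Subgroup.card_map_of_injective (f := (bc_equiv x Q _ hs).toMonoidHom)
      (bc_equiv x Q _ hs).injective]

/-- `Q` is fully centralized in the fusion system of the block iff `C_P(Q)` is a defect group of
`f` in `C_G(Q)`. -/
theorem bp_fully_centralized {p : ℕ} [Fact p.Prime] {M : Ideal AlgInt} (hM : IsPModular p M)
    [hMp : M.IsPrime] (B : Set (IrrCharacter G)) (P : Subgroup G)
    (e : Set (IrrCharacter (Subgroup.centralizer (P : Set G))))
    (hmax : IsMaximalBrauerPair p M B P e) (F : FusionSystem P)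
    (hF : IsBlockFusionSystemOn p M B P e F) (Q : Subgroup G) (f : Set (IrrCharacter (Subgroup.centralizer (Q : Set G))))
    (hQP : Q ≤ P) (hf : IsPBlock M f) (hle : SubpairLE p M Q f P e) :
    F.IsFullyCentralized Q ↔ IsDefectGroup p M f ((P ⊓ (Subgroup.centralizer (Q : Set G))).subgroupOf (Subgroup.centralizer (Q : Set G))) := by
  classical
  haveI : Fintype (Subgroup.centralizer (Q : Set G)) := Fintype.ofFinite _
  have hPe := hmax.1.1
  have hcardE : ∀ Q' : Subgroup G,
      Nat.card ((P ⊓ Subgroup.centralizer (Q' : Set G)).subgroupOf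
        (Subgroup.centralizer (Q' : Set G))) = Nat.card (FusionSystem.centralizerIn P Q') :=
    fun Q' => Nat.card_congr (Subgroup.subgroupOfEquivOfLe inf_le_right).toEquiv
  constructor
  · intro hfc
    obtain ⟨x, hchain, hD₂⟩ := bp_cent_defect_conj hM B P Q e f hmax hQP hf hle
    have hQxP : Q.map (MulAut.conj x).toMonoidHom ≤ P := pf_le _ _ hchain
    have hconj : F.IsConj Q (Q.map (MulAut.conj x).toMonoidHom) := by
      refine ⟨conjHom Q x, (hF.2 Q _).mpr ⟨hQP, x, fun u => rfl, hQxP, f, hle, hchain⟩, ?_⟩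
      ext y
      rw [MonoidHom.mem_range, pf_conj_mem]
      constructor
      · rintro ⟨u, rfl⟩
        exact ⟨(u : G), u.2, rfl⟩
      · rintro ⟨q, hq, rfl⟩
        exact ⟨⟨q, hq⟩, rfl⟩
    have h1 := hfc.2 _ hconj
    obtain ⟨b', hb'max, hEb'⟩ := bp_cent_defect_le hM B P Q e f hmax hQP hf hle
    have hD : IsDefectGroup p M f b'.1 := bp_max_defect hM f b'.1 b'.2 hb'max
    have h2 := bp_defect_card_conj hM Q f hf x b'.1 hD _ hD₂
    have h3 : Nat.card b'.1 ≤ Nat.card ((P ⊓ (Subgroup.centralizer (Q : Set G))).subgroupOf (Subgroup.centralizer (Q : Set G))) := by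
      rw [← h2, hcardE, hcardE]
      exact h1
    have heq := Subgroup.eq_of_le_of_card_ge hEb' h3
    rw [heq]
    exact hD
  · intro hD
    refine ⟨hQP, fun Q' hconj => ?_⟩
    obtain ⟨φ, hφ, hrange⟩ := hconj
    obtain ⟨-, g, hφg, hQgP, f₁, hle₁, hle₂⟩ := (hF.2 Q φ).mp hφ
    have hf₁ : IsPBlock M f₁ := (bp_chain_pair ⟨Q, f₁⟩ ⟨P, e⟩ hle₁ hPe).2
    have hff : f₁ = f := bp_sub_unique hM P e hPe _ Q hQP le_rfl f₁ f hf₁ hf hle₁ hle
    rw [hff] at hle₂
    have hQ' : Q' = Q.map (MulAut.conj g).toMonoidHom := by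
      rw [← hrange]
      ext y
      rw [MonoidHom.mem_range, pf_conj_mem]
      constructor
      · rintro ⟨u, rfl⟩
        exact ⟨(u : G), u.2, (hφg u).symm⟩
      · rintro ⟨q, hq, rfl⟩
        exact ⟨⟨q, hq⟩, hφg ⟨q, hq⟩⟩
    rw [hQ']
    have hf₂blk : IsPBlock M (conjBlock Q g f) := (bp_chain_pair _ ⟨P, e⟩ hle₂ hPe).2
    obtain ⟨b₂, hb₂max, hEb₂⟩ := bp_cent_defect_le hM B P (Q.map (MulAut.conj g).toMonoidHom) e
      (conjBlock Q g f) hmax hQgP hf₂blk hle₂
    haveI : Fintype (Subgroup.centralizer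
        ((Q.map (MulAut.conj g).toMonoidHom : Subgroup G) : Set G)) := Fintype.ofFinite _
    have hD₂ : IsDefectGroup p M (conjBlock Q g f) b₂.1 := bp_max_defect hM _ b₂.1 b₂.2 hb₂max
    have h2 := bp_defect_card_conj hM Q f hf g _ hD b₂.1 hD₂
    rw [← hcardE, ← hcardE, ← h2]
    exact Subgroup.card_le_of_le hEb₂

end Cfsg.Agent.Helper24
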