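import Mathlib
import Cfsg.Agent.Helper24.BP16

/-!
helper24: centric subgroups in the fusion system of a block.
-/

set_option autoImplicit false

namespace Cfsg.Agent.Helper24

open Cfsg Cfsg.Agent.Helper5 Cfsg.Agent.Helper22

universe u

variable {G : Type u} [Group G] [Fintype G]

/-- the centre of `Q` and of its conjugate, as subgroups of the centralizers, have the same
order. -/
theorem bp_center_card (Q : Subgroup G) (x : G) :
    Nat.card ((Q.map (MulAut.conj x).toMonoidHom
        ⊓ Subgroup.centralizer ((Q.map (MulAut.conj x).toMonoidHom : Subgroup G) : Set G)).subgroupOf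
        (Subgroup.centralizer ((Q.map (MulAut.conj x).toMonoidHom : Subgroup G) : Set G)))
      = Nat.card ((Q ⊓ (Subgroup.centralizer (Q : Set G))).subgroupOf (Subgroup.centralizer (Q : Set G))) := by
  have hs : bc_sub x Q (Q.map (MulAut.conj x).toMonoidHom) := bc_sub_map x Q
  rw [Nat.card_congr (Subgroup.subgroupOfEquivOfLe inf_le_right).toEquiv,
    Nat.card_congr (Subgroup.subgroupOfEquivOfLe
      (inf_le_right : Q ⊓ (Subgroup.centralizer (Q : Set G)) ≤ (Subgroup.centralizer (Q : Set G)))).toEquiv]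
  have e1 : Q.map (MulAut.conj x).toMonoidHom
      ⊓ Subgroup.centralizer ((Q.map (MulAut.conj x).toMonoidHom : Subgroup G) : Set G)
      = (Q ⊓ (Subgroup.centralizer (Q : Set G))).map (MulAut.conj x).toMonoidHom := by
    ext y
    rw [Subgroup.mem_inf, pf_conj_mem, pf_conj_mem]
    constructor
    · rintro ⟨⟨q, hq, rfl⟩, hy⟩
      refine ⟨q, ⟨hq, ?_⟩, rfl⟩
      have h1 := bc_cent' hs _ hy
      have e2 : x⁻¹ * (x * q * x⁻¹) * x = q := by group
      rw [e2] at h1
      exact h1
    · rintro ⟨q, ⟨hq, hqc⟩, rfl⟩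
      exact ⟨⟨q, hq, rfl⟩, bc_cent hs q hqc⟩
  rw [e1, Subgroup.card_map_of_injective (f := (MulAut.conj x).toMonoidHom)
    (MulAut.conj x).injective]

/-- conjugates below the maximal pair are conjugate in the fusion system. -/
theorem bp_fus_conj {p : ℕ} {M : Ideal AlgInt} (B : Set (IrrCharacter G)) (P : Subgroup G)
    (e : Set (IrrCharacter (Subgroup.centralizer (P : Set G)))) (F : FusionSystem P)
    (hF : IsBlockFusionSystemOn p M B P e F) (Q : Subgroup G) (f : Set (IrrCharacter (Subgroup.centralizer (Q : Set G))))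
    (hQP : Q ≤ P) (hle : SubpairLE p M Q f P e) (x : G)
    (hchain : SubpairLE p M (Q.map (MulAut.conj x).toMonoidHom) (conjBlock Q x f) P e) :
    F.IsConj Q (Q.map (MulAut.conj x).toMonoidHom) := by
  have hQxP : Q.map (MulAut.conj x).toMonoidHom ≤ P := pf_le _ _ hchain
  refine ⟨conjHom Q x, (hF.2 Q _).mpr ⟨hQP, x, fun u => rfl, hQxP, f, hle, hchain⟩, ?_⟩
  ext y
  rw [MonoidHom.mem_range, pf_conj_mem]
  constructor
  · rintro ⟨u, rfl⟩
    exact ⟨(u : G), u.2, rfl⟩
  · rintro ⟨q, hq, rfl⟩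
    exact ⟨⟨q, hq⟩, rfl⟩

/-- `Q` is centric in the fusion system of the block iff `Z(Q)` is a defect group of `f` in
`C_G(Q)`. -/
theorem bp_centric {p : ℕ} [Fact p.Prime] {M : Ideal AlgInt} (hM : IsPModular p M)
    [hMp : M.IsPrime] (B : Set (IrrCharacter G)) (P : Subgroup G)
    (e : Set (IrrCharacter (Subgroup.centralizer (P : Set G))))
    (hmax : IsMaximalBrauerPair p M B P e) (F : FusionSystem P)
    (hF : IsBlockFusionSystemOn p M B P e F) (Q : Subgroup G) (f : Set (IrrCharacter (Subgroup.centralizer (Q : Set G))))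
    (hQP : Q ≤ P) (hf : IsPBlock M f) (hle : SubpairLE p M Q f P e) :
    F.IsCentric Q ↔ IsDefectGroup p M f ((Q ⊓ (Subgroup.centralizer (Q : Set G))).subgroupOf (Subgroup.centralizer (Q : Set G))) := by
  classical
  haveI : Fintype (Subgroup.centralizer (Q : Set G)) := Fintype.ofFinite _
  have hPe := hmax.1.1
  have hZE : ∀ Q' : Subgroup G, Q' ≤ P →
      (Q' ⊓ Subgroup.centralizer (Q' : Set G)).subgroupOf (Subgroup.centralizer (Q' : Set G))
        ≤ (P ⊓ Subgroup.centralizer (Q' : Set G)).subgroupOf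
          (Subgroup.centralizer (Q' : Set G)) := by
    intro Q' hQ' y hy
    rw [Subgroup.mem_subgroupOf] at hy ⊢
    exact ⟨hQ' hy.1, hy.2⟩
  constructor
  · intro hcen
    obtain ⟨x, hchain, hD₂⟩ := bp_cent_defect_conj hM B P Q e f hmax hQP hf hle
    have hconj := bp_fus_conj B P e F hF Q f hQP hle x hchain
    have h1 := hcen.2 _ hconj
    have hEZ : (P ⊓ Subgroup.centralizer
          ((Q.map (MulAut.conj x).toMonoidHom : Subgroup G) : Set G)).subgroupOf
          (Subgroup.centralizer ((Q.map (MulAut.conj x).toMonoidHom : Subgroup G) : Set G))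
        ≤ (Q.map (MulAut.conj x).toMonoidHom ⊓ Subgroup.centralizer
          ((Q.map (MulAut.conj x).toMonoidHom : Subgroup G) : Set G)).subgroupOf
          (Subgroup.centralizer ((Q.map (MulAut.conj x).toMonoidHom : Subgroup G) : Set G)) := by
      intro y hy
      rw [Subgroup.mem_subgroupOf] at hy ⊢
      exact ⟨h1 hy, hy.2⟩
    obtain ⟨b', hb'max, hEb'⟩ := bp_cent_defect_le hM B P Q e f hmax hQP hf hle
    have hD : IsDefectGroup p M f b'.1 := bp_max_defect hM f b'.1 b'.2 hb'max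
    have h2 := bp_defect_card_conj hM Q f hf x b'.1 hD _ hD₂
    have h3 : Nat.card b'.1 ≤ Nat.card ((Q ⊓ (Subgroup.centralizer (Q : Set G))).subgroupOf (Subgroup.centralizer (Q : Set G))) := by
      rw [← h2, ← bp_center_card Q x]
      exact Subgroup.card_le_of_le hEZ
    have heq := Subgroup.eq_of_le_of_card_ge (le_trans (hZE Q hQP) hEb') h3
    rw [heq]
    exact hD
  · intro hD
    refine ⟨hQP, fun Q' hconj => ?_⟩
    obtain ⟨φ, hφ, hrange⟩ := hconj
    obtain ⟨-, g, hφg, hQgP, f₁, hle₁, hle₂⟩ := (hF.2 Q φ).mp hφ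
    have hf₁ : IsPBlock M f₁ := (bp_chain_pair ⟨Q, f₁⟩ ⟨P, e⟩ hle₁ hPe).2
    have hff : f₁ = f := bp_sub_unique hM P e hPe _ Q hQP le_rfl f₁ f hf₁ hf hle₁ hle
    rw [hff] at hle₂
    have hQ' : Q' = Q.map (MulAut.conj g).toMonoidHom := by
      rw [← hrange]
      ext y
      rw [MonoidHom.mem_range, pf_conj_mem]
      constructor
      · rintro ⟨u, rfl⟩
        exact ⟨(u : G), u.2, (hφg u).symm⟩
      · rintro ⟨q, hq, rfl⟩
        exact ⟨⟨q, hq⟩, hφg ⟨q, hq⟩⟩
    rw [hQ']
    have hf₂blk : IsPBlock M (conjBlock Q g f) := (bp_chain_pair _ ⟨P, e⟩ hle₂ hPe).2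
    obtain ⟨b₂, hb₂max, hEb₂⟩ := bp_cent_defect_le hM B P (Q.map (MulAut.conj g).toMonoidHom) e
      (conjBlock Q g f) hmax hQgP hf₂blk hle₂
    haveI : Fintype (Subgroup.centralizer
        ((Q.map (MulAut.conj g).toMonoidHom : Subgroup G) : Set G)) := Fintype.ofFinite _
    have hD₂ : IsDefectGroup p M (conjBlock Q g f) b₂.1 := bp_max_defect hM _ b₂.1 b₂.2 hb₂max
    have h2 := bp_defect_card_conj hM Q f hf g _ hD b₂.1 hD₂
    have h3 : Nat.card b₂.1 ≤ Nat.card ((Q.map (MulAut.conj g).toMonoidHom ⊓ Subgroup.centralizer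
          ((Q.map (MulAut.conj g).toMonoidHom : Subgroup G) : Set G)).subgroupOf
          (Subgroup.centralizer ((Q.map (MulAut.conj g).toMonoidHom : Subgroup G) : Set G))) := by
      rw [h2, bp_center_card Q g]
    have heq := Subgroup.eq_of_le_of_card_ge (le_trans (hZE _ hQgP) hEb₂) h3
    intro y hy
    have hyE : (⟨y, hy.2⟩ : Subgroup.centralizer
        ((Q.map (MulAut.conj g).toMonoidHom : Subgroup G) : Set G)) ∈ b₂.1 :=
      hEb₂ (Subgroup.mem_subgroupOf.mpr hy)
    rw [← heq] at hyE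
    exact (Subgroup.mem_subgroupOf.mp hyE).1

end Cfsg.Agent.Helper24
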