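import Mathlib
import Cfsg.Agent.Helper24.BP17

/-!
helper24: the block of the stabilizer `T = N_G(Q, f)` with the idempotent of `f`, and its defect
groups for a subpair `(Q, f)` of a maximal pair.
-/

set_option autoImplicit false

namespace Cfsg.Agent.Helper24

open Cfsg Cfsg.Agent.Helper5 Cfsg.Agent.Helper22

universe u

variable {G : Type u} [Group G] [Fintype G]

theorem bp_self_stab (Q : Subgroup G) (f : Set (IrrCharacter (Subgroup.centralizer (Q : Set G)))) (q : G) (hq : q ∈ Q) :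
    StabilizesBlock (Subgroup.centralizer (Q : Set G)) f q := by
  refine ⟨pf_norm_cent Q q (Subgroup.le_normalizer hq), fun χ hχ => ⟨χ, hχ, fun k k' hkk => ?_⟩⟩
  have e1 : k' = k := by
    apply Subtype.ext
    rw [hkk, Subgroup.mem_centralizer_iff.mp k.2 q hq]
    group
  rw [e1]

/-- the idempotent of `f` is a block idempotent of the stabilizer of `f` in `N_G(Q)`. -/
theorem bp_stab_block {p : ℕ} [Fact p.Prime] {M : Ideal AlgInt} (hM : IsPModular p M)
    [hMp : M.IsPrime] (Q : Subgroup G) (f : Set (IrrCharacter (Subgroup.centralizer (Q : Set G)))) (hQ : IsPGroup p Q)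
    (hf : IsPBlock M f) (T : Subgroup G)
    (hT : ∀ y : G, y ∈ T ↔ y ∈ Subgroup.normalizer (Q : Set G) ∧ StabilizesBlock (Subgroup.centralizer (Q : Set G)) f y) :
    ∃ χ₁ : IrrCharacter T, ∀ t : T, blockCoeff (blockOf M (χ₁ : T → ℂ)) t
      = subgroupBlockCoeff (Subgroup.centralizer (Q : Set G)) f (t : G) := by
  obtain ⟨θ₀, rfl⟩ := hf
  have hQT : Q ≤ T := fun q hq => (hT q).mpr ⟨Subgroup.le_normalizer hq, bp_self_stab Q _ q hq⟩
  have hTN : T ≤ Subgroup.normalizer (Q : Set G) := fun t ht => ((hT t).mp ht).1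
  have hCT : (Subgroup.centralizer (Q : Set G)) ≤ T := fun c hc =>
    (hT c).mpr ⟨Subgroup.centralizer_le_normalizer _ hc, bp_cent_stab Q _ c hc⟩
  have hA : ∀ θ : IrrCharacter (Subgroup.centralizer (Q : Set G)), θ ∈ blockOf M (θ₀ : (Subgroup.centralizer (Q : Set G)) → ℂ) ↔ ∃ y ∈ T,
      ∃ θ' ∈ blockOf M (θ₀ : (Subgroup.centralizer (Q : Set G)) → ℂ), IsConjCharOf (Subgroup.centralizer (Q : Set G)) y (θ : (Subgroup.centralizer (Q : Set G)) → ℂ) (θ' : (Subgroup.centralizer (Q : Set G)) → ℂ) := by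
    intro θ
    constructor
    · intro hθ
      refine ⟨1, T.one_mem, θ, hθ, fun k k' hkk => ?_⟩
      have e1 : k' = k := Subtype.ext (by rw [hkk]; group)
      rw [e1]
    · rintro ⟨y, hy, θ', hθ', hc⟩
      have hyi := ((hT y⁻¹).mp (T.inv_mem hy)).2
      obtain ⟨χ', hχ', hc'⟩ := hyi.2 θ' hθ'
      have e1 : χ' = θ := by
        apply Subtype.ext
        funext k
        have hk₁ : y * (k : G) * y⁻¹ ∈ (Subgroup.centralizer (Q : Set G)) :=
          (Subgroup.mem_normalizer_iff.mp (pf_norm_cent Q y (hTN hy)) k).mp k.2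
        rw [hc' ⟨_, hk₁⟩ k (by
          show (k : G) = y⁻¹ * (y * (k : G) * y⁻¹) * y⁻¹⁻¹
          group), hc k ⟨_, hk₁⟩ rfl]
      rw [← e1]
      exact hχ'
  exact bp_orbit_H hM Q T hQ hQT hTN hCT θ₀ _ hA

/-- `N_P(Q)` lies in the subgroup of a maximal Brauer pair of the block of `T` with the idempotent
of `f`; this maximal pair comes from a pair of `G` above `(Q, f)`. -/
theorem bp_norm_defect_le {p : ℕ} [Fact p.Prime] {M : Ideal AlgInt} (hM : IsPModular p M)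
    [hMp : M.IsPrime] (B : Set (IrrCharacter G)) (P Q : Subgroup G)
    (e : Set (IrrCharacter (Subgroup.centralizer (P : Set G)))) (f : Set (IrrCharacter (Subgroup.centralizer (Q : Set G))))
    (hmax : IsMaximalBrauerPair p M B P e) (hQP : Q ≤ P) (hf : IsPBlock M f)
    (hle : SubpairLE p M Q f P e) (T : Subgroup G)
    (hT : ∀ y : G, y ∈ T ↔ y ∈ Subgroup.normalizer (Q : Set G) ∧ StabilizesBlock (Subgroup.centralizer (Q : Set G)) f y)
    (FT : Set (IrrCharacter T)) (hFT : IsPBlock M FT)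
    (hco : ∀ t : T, blockCoeff FT t = subgroupBlockCoeff (Subgroup.centralizer (Q : Set G)) f (t : G)) :
    ∃ b' : BrauerPairIdx T, IsMaximalBrauerPair p M FT b'.1 b'.2 ∧
      (P ⊓ Subgroup.normalizer (Q : Set G)).subgroupOf T ≤ b'.1 ∧
      ∃ b : BrauerPairIdx G, bh_rel T b' b ∧
        Relation.ReflTransGen (NormalSubpairRel p M) ⟨Q, f⟩ b := by
  classical
  have hPe := hmax.1.1
  have hQ : IsPGroup p Q := hPe.1.to_le hQP
  obtain ⟨R, hR⟩ : ∃ R : Subgroup G, R = P ⊓ Subgroup.normalizer (Q : Set G) := ⟨_, rfl⟩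
  have hRP : R ≤ P := by
    rw [hR]
    exact inf_le_left
  have hRN : R ≤ Subgroup.normalizer (Q : Set G) := by
    rw [hR]
    exact inf_le_right
  have hQR : Q ≤ R := by
    rw [hR]
    exact le_inf hQP Subgroup.le_normalizer
  obtain ⟨g, hg, hgP⟩ := bp_sub_exists hM P e hPe _ R hRP le_rfl
  have hRg : IsBrauerPair p M R g := ⟨hPe.1.to_le hRP, hg⟩
  obtain ⟨f₀, hf₀, hf₀R⟩ := bp_sub_exists hM R g hRg _ Q hQR le_rfl
  have hff : f₀ = f := bp_sub_unique hM P e hPe _ Q hQP le_rfl f₀ f hf₀ hf (hf₀R.trans hgP) hle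
  rw [hff] at hf₀R
  have hN : IsNormalSubpair p M Q f R g := bp_collapse hM ⟨Q, f⟩ ⟨R, g⟩ hf₀R ⟨hQ, hf⟩ hRN
  have hRT : R ≤ T := fun r hr => (hT r).mpr ⟨hRN hr, hN.2.2.2.2.1 r hr⟩
  have hCT : (Subgroup.centralizer (Q : Set G)) ≤ T := fun c hc =>
    (hT c).mpr ⟨Subgroup.centralizer_le_normalizer _ hc, bp_cent_stab Q f c hc⟩
  have hCR : Subgroup.centralizer (R : Set G) ≤ T := le_trans (Subgroup.centralizer_le hQR) hCT
  obtain ⟨a', ha', ha'1⟩ : ∃ a' : BrauerPairIdx T, bh_rel T a' ⟨R, g⟩ ∧ a'.1 = R.subgroupOf T :=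
    ⟨_, bh_down T (⟨R, g⟩ : BrauerPairIdx G) hRT hCR, rfl⟩
  have hbr : ∀ ξ ∈ g, MemLocalIdeal M (brauerOmega R (subgroupBlockCoeff T FT)
      (ξ : Subgroup.centralizer (R : Set G) → ℂ) - 1) := by
    intro ξ hξ
    have h3 := hN.2.2.2.2.2 ξ hξ
    have e1 : brauerOmega R (subgroupBlockCoeff T FT) (ξ : Subgroup.centralizer (R : Set G) → ℂ)
        = brauerOmega R (subgroupBlockCoeff (Subgroup.centralizer (Q : Set G)) f)
          (ξ : Subgroup.centralizer (R : Set G) → ℂ) := by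
      unfold brauerOmega
      refine finsum_congr fun x => ?_
      congr 2
      have hxT : (x : G) ∈ T := hCR x.2
      have h4 : subgroupBlockCoeff T FT (x : G) = blockCoeff FT ⟨(x : G), hxT⟩ := by
        unfold subgroupBlockCoeff
        rw [dif_pos hxT]
      rw [h4]
      exact hco _
    rw [e1]
    exact h3
  have hpair : IsBrauerPairOf p M FT a'.1 a'.2 := bh_pairOf T FT hFT a' ⟨R, g⟩ ha' hRg hbr
  haveI : Fintype T := Fintype.ofFinite _
  obtain ⟨b', hchain, hb'max⟩ := bp_exists_max (p := p) (M := M) FT _ a' hpair le_rfl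
  obtain ⟨b, hb, hab⟩ := bh_chain_up T a' ⟨R, g⟩ ha' b' hchain
  have hN' : NormalSubpairRel p M (⟨Q, f⟩ : BrauerPairIdx G) ⟨R, g⟩ := hN
  refine ⟨b', hb'max, ?_, b, hb, Relation.ReflTransGen.head hN' hab⟩
  rw [← hR, ← ha'1]
  exact pf_le _ _ hchain

theorem bp_sbc_conj (Q : Subgroup G) (f : Set (IrrCharacter (Subgroup.centralizer (Q : Set G)))) (x s : G) :
    subgroupBlockCoeff (Subgroup.centralizer
        ((Q.map (MulAut.conj x).toMonoidHom : Subgroup G) : Set G)) (conjBlock Q x f)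
        (x * s * x⁻¹) = subgroupBlockCoeff (Subgroup.centralizer (Q : Set G)) f s := by
  classical
  haveI : Fintype (Subgroup.centralizer (Q : Set G)) := Fintype.ofFinite _
  have hs : bc_sub x Q (Q.map (MulAut.conj x).toMonoidHom) := bc_sub_map x Q
  have hf₂ : conjBlock Q x f = fm_tr (bc_equiv x Q _ hs) f :=
    (bc_blk_iff hs f (conjBlock Q x f)).mp (fun _ => Iff.rfl)
  unfold subgroupBlockCoeff
  by_cases hsC : s ∈ (Subgroup.centralizer (Q : Set G))
  · rw [dif_pos hsC, dif_pos (bc_cent hs s hsC), hf₂]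
    exact fm_tr_coeff (bc_equiv x Q _ hs) f ⟨s, hsC⟩
  · have hn : x * s * x⁻¹ ∉ Subgroup.centralizer
        ((Q.map (MulAut.conj x).toMonoidHom : Subgroup G) : Set G) := by
      intro hcon
      have h1 := bc_cent' hs _ hcon
      have e2 : x⁻¹ * (x * s * x⁻¹) * x = s := by group
      rw [e2] at h1
      exact hsC h1
    rw [dif_neg hsC, dif_neg hn]

set_option maxHeartbeats 1000000 in
/-- some conjugate of the subpair `(Q, f)` of a maximal pair `(P, e)` lies below `(P, e)` and has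
`N_P(Q)` as a defect group of the block of its stabilizer. -/
theorem bp_norm_defect_conj {p : ℕ} [Fact p.Prime] {M : Ideal AlgInt} (hM : IsPModular p M)
    [hMp : M.IsPrime] (B : Set (IrrCharacter G)) (P Q : Subgroup G)
    (e : Set (IrrCharacter (Subgroup.centralizer (P : Set G)))) (f : Set (IrrCharacter (Subgroup.centralizer (Q : Set G))))
    (hmax : IsMaximalBrauerPair p M B P e) (hQP : Q ≤ P) (hf : IsPBlock M f)
    (hle : SubpairLE p M Q f P e) (T : Subgroup G)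
    (hT : ∀ y : G, y ∈ T ↔ y ∈ Subgroup.normalizer (Q : Set G) ∧ StabilizesBlock (Subgroup.centralizer (Q : Set G)) f y) :
    ∃ x : G, SubpairLE p M (Q.map (MulAut.conj x).toMonoidHom) (conjBlock Q x f) P e ∧
      ∀ (T' : Subgroup G), (∀ y : G, y ∈ T' ↔
          y ∈ Subgroup.normalizer ((Q.map (MulAut.conj x).toMonoidHom : Subgroup G) : Set G) ∧
          StabilizesBlock (Subgroup.centralizer
            ((Q.map (MulAut.conj x).toMonoidHom : Subgroup G) : Set G)) (conjBlock Q x f) y) →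
        ∃ F' : Set (IrrCharacter T'), IsPBlock M F' ∧
          (∀ t : T', blockCoeff F' t = subgroupBlockCoeff (Subgroup.centralizer
            ((Q.map (MulAut.conj x).toMonoidHom : Subgroup G) : Set G)) (conjBlock Q x f) (t : G)) ∧
          IsDefectGroup p M F' ((P ⊓ Subgroup.normalizer
            ((Q.map (MulAut.conj x).toMonoidHom : Subgroup G) : Set G)).subgroupOf T') := by
  classical
  have hPe := hmax.1.1
  have hQ : IsPGroup p Q := hPe.1.to_le hQP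
  obtain ⟨χ₁, hχ₁⟩ := bp_stab_block hM Q f hQ hf T hT
  obtain ⟨b', hb'max, -, b, hb, hQb⟩ := bp_norm_defect_le hM B P Q e f hmax hQP hf hle T hT
    (blockOf M (χ₁ : T → ℂ)) ⟨χ₁, rfl⟩ hχ₁
  haveI : Fintype T := Fintype.ofFinite _
  have hD' : IsDefectGroup p M (blockOf M (χ₁ : T → ℂ)) b'.1 :=
    bp_max_defect hM _ b'.1 b'.2 hb'max
  have hQfB : IsBrauerPairOf p M B Q f :=
    (bp_of_le hM B hmax.1.2.1 ⟨Q, f⟩ ⟨P, e⟩ hle).mp hmax.1
  have hBb : IsBrauerPairOf p M B b.1 b.2 := (bp_of_le hM B hmax.1.2.1 ⟨Q, f⟩ b hQb).mpr hQfB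
  obtain ⟨x, hx⟩ := bp_conj_max hM B P b.1 e b.2 hmax hBb
  have hrelx : bc_rel x (⟨Q, f⟩ : BrauerPairIdx G)
      ⟨Q.map (MulAut.conj x).toMonoidHom, conjBlock Q x f⟩ := bc_rel_cj x ⟨Q, f⟩
  have hchain : SubpairLE p M (Q.map (MulAut.conj x).toMonoidHom) (conjBlock Q x f) P e :=
    (bc_chain x ⟨Q, f⟩ b hQb _ _ hrelx (bc_rel_cj x b)).trans hx
  refine ⟨x, hchain, fun T' hT' => ?_⟩
  have hQ₂P : Q.map (MulAut.conj x).toMonoidHom ≤ P := pf_le _ _ hchain
  have hf₂ : IsPBlock M (conjBlock Q x f) := (bp_chain_pair _ ⟨P, e⟩ hchain hPe).2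
  have hQ₂ : IsPGroup p (Q.map (MulAut.conj x).toMonoidHom : Subgroup G) := hPe.1.to_le hQ₂P
  obtain ⟨χ₂, hχ₂⟩ := bp_stab_block hM _ (conjBlock Q x f) hQ₂ hf₂ T' hT'
  obtain ⟨b₂', hb₂'max, hEb₂, -⟩ := bp_norm_defect_le hM B P _ e (conjBlock Q x f) hmax hQ₂P hf₂
    hchain T' hT' (blockOf M (χ₂ : T' → ℂ)) ⟨χ₂, rfl⟩ hχ₂
  haveI : Fintype T' := Fintype.ofFinite _
  have hD₂ : IsDefectGroup p M (blockOf M (χ₂ : T' → ℂ)) b₂'.1 :=
    bp_max_defect hM _ b₂'.1 b₂'.2 hb₂'max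
  refine ⟨blockOf M (χ₂ : T' → ℂ), ⟨χ₂, rfl⟩, hχ₂, ?_⟩
  have hxT : ∀ t ∈ T, x * t * x⁻¹ ∈ T' := by
    intro t ht
    have h1 := (hT t).mp ht
    have h2 := (hT t⁻¹).mp (T.inv_mem ht)
    have htt := bc_stab_self t Q f h1.1 h1.2 h2.2
    have h3 := bc_rel_mul (bc_rel_mul (bc_rel_inv hrelx) htt) hrelx
    have h4 := bc_self_stab _ _ _ h3
    rw [mul_assoc]
    exact (hT' _).mpr h4
  have hxT' : ∀ t ∈ T', x⁻¹ * t * x ∈ T := by
    intro t ht
    have h1 := (hT' t).mp ht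
    have h2 := (hT' t⁻¹).mp (T'.inv_mem ht)
    have htt := bc_stab_self t _ (conjBlock Q x f) h1.1 h1.2 h2.2
    have h3 := bc_rel_mul (bc_rel_mul hrelx htt) (bc_rel_inv hrelx)
    have h4 := bc_self_stab _ _ _ h3
    rw [mul_assoc]
    exact (hT _).mpr h4
  obtain ⟨ψ, hψ⟩ : ∃ ψ : ↥T ≃* ↥T', ∀ t : T, ((ψ t : T') : G) = x * (t : G) * x⁻¹ :=
    ⟨{ toFun := fun t => ⟨x * t * x⁻¹, hxT t t.2⟩
       invFun := fun t => ⟨x⁻¹ * t * x, hxT' t t.2⟩
       left_inv := fun t => Subtype.ext (by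
         show x⁻¹ * (x * (t : G) * x⁻¹) * x = t
         group)
       right_inv := fun t => Subtype.ext (by
         show x * (x⁻¹ * (t : G) * x) * x⁻¹ = t
         group)
       map_mul' := fun a b => Subtype.ext (by
         show x * ((a : G) * (b : G)) * x⁻¹ = (x * (a : G) * x⁻¹) * (x * (b : G) * x⁻¹)
         group) }, fun t => rfl⟩
  have hFeq : fm_tr ψ (blockOf M (χ₁ : T → ℂ)) = blockOf M (χ₂ : T' → ℂ) := by
    apply set_eq_of_blockCoeff_eq
    intro t'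
    have e1 : t' = ψ (ψ.symm t') := (ψ.apply_symm_apply t').symm
    have e2 : (t' : G) = x * ((ψ.symm t' : T) : G) * x⁻¹ := by
      rw [← hψ, ← e1]
    rw [hχ₂, e2, bp_sbc_conj, ← hχ₁, e1, fm_tr_coeff, ← e1]
  have hDψ : IsDefectGroup p M (blockOf M (χ₂ : T' → ℂ)) (b'.1.map ψ.toMonoidHom) := by
    rw [← hFeq]
    exact fm_tr_defect ψ _ b'.1 hD'
  have hSP : b.1.map (MulAut.conj x).toMonoidHom ≤ P := pf_le _ _ hx
  obtain ⟨hbs, -, -⟩ := hb
  have hDE : b'.1.map ψ.toMonoidHom ≤ (P ⊓ Subgroup.normalizer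
      ((Q.map (MulAut.conj x).toMonoidHom : Subgroup G) : Set G)).subgroupOf T' := by
    rintro y ⟨d, hd, rfl⟩
    rw [Subgroup.mem_subgroupOf]
    refine ⟨hSP ?_, ((hT' _).mp (ψ d).2).1⟩
    have e3 : ((ψ.toMonoidHom d : T') : G) = x * (d : G) * x⁻¹ := hψ d
    rw [e3]
    exact (pf_conj_mem b.1 x _).mpr ⟨(d : G), (hbs _).mpr ⟨d, hd, rfl⟩, rfl⟩
  obtain ⟨z, hz⟩ := defect_groups_conj hM χ₂ _ _ hDψ hD₂
  have hcard : Nat.card b₂'.1 ≤ Nat.card (b'.1.map ψ.toMonoidHom) := by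
    rw [hz, Subgroup.card_map_of_injective (f := (MulAut.conj z).toMonoidHom)
      (MulAut.conj z).injective]
  have heq1 : b'.1.map ψ.toMonoidHom = b₂'.1 :=
    Subgroup.eq_of_le_of_card_ge (le_trans hDE hEb₂) hcard
  have heq2 : (P ⊓ Subgroup.normalizer
      ((Q.map (MulAut.conj x).toMonoidHom : Subgroup G) : Set G)).subgroupOf T' = b₂'.1 :=
    le_antisymm hEb₂ (heq1 ▸ hDE)
  rw [heq2]
  exact hD₂

end Cfsg.Agent.Helper24
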