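import Mathlib
import Cfsg.Agent.Helper24.BP18

/-!
helper24: fully normalized subgroups in the fusion system of a block.
-/

set_option autoImplicit false

namespace Cfsg.Agent.Helper24

open Cfsg Cfsg.Agent.Helper5 Cfsg.Agent.Helper22

universe u

variable {G : Type u} [Group G] [Fintype G]

/-- `N_P(Q)` stabilizes `f` for a subpair `(Q, f)` of `(P, e)`. -/
theorem bp_normP_le {p : ℕ} [Fact p.Prime] {M : Ideal AlgInt} (hM : IsPModular p M)
    [hMp : M.IsPrime] (P Q : Subgroup G)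
    (e : Set (IrrCharacter (Subgroup.centralizer (P : Set G)))) (f : Set (IrrCharacter (Subgroup.centralizer (Q : Set G))))
    (hPe : IsBrauerPair p M P e) (hQP : Q ≤ P) (hf : IsPBlock M f)
    (hle : SubpairLE p M Q f P e) (T : Subgroup G)
    (hT : ∀ y : G, y ∈ T ↔ y ∈ Subgroup.normalizer (Q : Set G) ∧ StabilizesBlock (Subgroup.centralizer (Q : Set G)) f y) : P ⊓ Subgroup.normalizer (Q : Set G) ≤ T := by
  classical
  have hQ : IsPGroup p Q := hPe.1.to_le hQP
  obtain ⟨R, hR⟩ : ∃ R : Subgroup G, R = P ⊓ Subgroup.normalizer (Q : Set G) := ⟨_, rfl⟩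
  have hRP : R ≤ P := by
    rw [hR]
    exact inf_le_left
  have hRN : R ≤ Subgroup.normalizer (Q : Set G) := by
    rw [hR]
    exact inf_le_right
  have hQR : Q ≤ R := by
    rw [hR]
    exact le_inf hQP Subgroup.le_normalizer
  obtain ⟨g, hg, hgP⟩ := bp_sub_exists hM P e hPe _ R hRP le_rfl
  have hRg : IsBrauerPair p M R g := ⟨hPe.1.to_le hRP, hg⟩
  obtain ⟨f₀, hf₀, hf₀R⟩ := bp_sub_exists hM R g hRg _ Q hQR le_rfl
  have hff : f₀ = f := bp_sub_unique hM P e hPe _ Q hQP le_rfl f₀ f hf₀ hf (hf₀R.trans hgP) hle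
  rw [hff] at hf₀R
  have hN : IsNormalSubpair p M Q f R g := bp_collapse hM ⟨Q, f⟩ ⟨R, g⟩ hf₀R ⟨hQ, hf⟩ hRN
  rw [← hR]
  exact fun r hr => (hT r).mpr ⟨hRN hr, hN.2.2.2.2.1 r hr⟩

set_option maxHeartbeats 1000000 in
/-- defect groups of the stabilizer blocks of `(Q, f)` and of its conjugate have the same
order. -/
theorem bp_stab_card_conj {p : ℕ} [Fact p.Prime] {M : Ideal AlgInt} (hM : IsPModular p M)
    [hMp : M.IsPrime] (Q : Subgroup G) (f : Set (IrrCharacter (Subgroup.centralizer (Q : Set G)))) (x : G) (T : Subgroup G)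
    (hT : ∀ y : G, y ∈ T ↔ y ∈ Subgroup.normalizer (Q : Set G) ∧ StabilizesBlock (Subgroup.centralizer (Q : Set G)) f y) (T' : Subgroup G)
    (hT' : ∀ y : G, y ∈ T' ↔
      y ∈ Subgroup.normalizer ((Q.map (MulAut.conj x).toMonoidHom : Subgroup G) : Set G) ∧
      StabilizesBlock (Subgroup.centralizer
        ((Q.map (MulAut.conj x).toMonoidHom : Subgroup G) : Set G)) (conjBlock Q x f) y)
    (FT : Set (IrrCharacter T))
    (hco : ∀ t : T, blockCoeff FT t = subgroupBlockCoeff (Subgroup.centralizer (Q : Set G)) f (t : G))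
    (F' : Set (IrrCharacter T')) (hF' : IsPBlock M F')
    (hco' : ∀ t : T', blockCoeff F' t = subgroupBlockCoeff (Subgroup.centralizer
      ((Q.map (MulAut.conj x).toMonoidHom : Subgroup G) : Set G)) (conjBlock Q x f) (t : G))
    (D : Subgroup T) (hD : IsDefectGroup p M FT D) (D₂ : Subgroup T')
    (hD₂ : IsDefectGroup p M F' D₂) : Nat.card D₂ = Nat.card D := by
  classical
  haveI : Fintype T := Fintype.ofFinite _
  haveI : Fintype T' := Fintype.ofFinite _
  have hrelx : bc_rel x (⟨Q, f⟩ : BrauerPairIdx G)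
      ⟨Q.map (MulAut.conj x).toMonoidHom, conjBlock Q x f⟩ := bc_rel_cj x ⟨Q, f⟩
  have hxT : ∀ t ∈ T, x * t * x⁻¹ ∈ T' := by
    intro t ht
    have h1 := (hT t).mp ht
    have h2 := (hT t⁻¹).mp (T.inv_mem ht)
    have htt := bc_stab_self t Q f h1.1 h1.2 h2.2
    have h3 := bc_rel_mul (bc_rel_mul (bc_rel_inv hrelx) htt) hrelx
    have h4 := bc_self_stab _ _ _ h3
    rw [mul_assoc]
    exact (hT' _).mpr h4
  have hxT' : ∀ t ∈ T', x⁻¹ * t * x ∈ T := by
    intro t ht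
    have h1 := (hT' t).mp ht
    have h2 := (hT' t⁻¹).mp (T'.inv_mem ht)
    have htt := bc_stab_self t _ (conjBlock Q x f) h1.1 h1.2 h2.2
    have h3 := bc_rel_mul (bc_rel_mul hrelx htt) (bc_rel_inv hrelx)
    have h4 := bc_self_stab _ _ _ h3
    rw [mul_assoc]
    exact (hT _).mpr h4
  obtain ⟨ψ, hψ⟩ : ∃ ψ : ↥T ≃* ↥T', ∀ t : T, ((ψ t : T') : G) = x * (t : G) * x⁻¹ :=
    ⟨{ toFun := fun t => ⟨x * t * x⁻¹, hxT t t.2⟩
       invFun := fun t => ⟨x⁻¹ * t * x, hxT' t t.2⟩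
       left_inv := fun t => Subtype.ext (by
         show x⁻¹ * (x * (t : G) * x⁻¹) * x = t
         group)
       right_inv := fun t => Subtype.ext (by
         show x * (x⁻¹ * (t : G) * x) * x⁻¹ = t
         group)
       map_mul' := fun a b => Subtype.ext (by
         show x * ((a : G) * (b : G)) * x⁻¹ = (x * (a : G) * x⁻¹) * (x * (b : G) * x⁻¹)
         group) }, fun t => rfl⟩
  have hFeq : fm_tr ψ FT = F' := by
    apply set_eq_of_blockCoeff_eq
    intro t'
    have e1 : t' = ψ (ψ.symm t') := (ψ.apply_symm_apply t').symm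
    have e2 : (t' : G) = x * ((ψ.symm t' : T) : G) * x⁻¹ := by
      rw [← hψ, ← e1]
    rw [hco', e2, bp_sbc_conj, ← hco, e1, fm_tr_coeff, ← e1]
  have hDψ : IsDefectGroup p M F' (D.map ψ.toMonoidHom) := by
    rw [← hFeq]
    exact fm_tr_defect ψ _ D hD
  obtain ⟨θ₂, hθ₂⟩ := hF'
  rw [hθ₂] at hD₂ hDψ
  obtain ⟨z, hz⟩ := defect_groups_conj hM θ₂ _ _ hDψ hD₂
  rw [hz, Subgroup.card_map_of_injective (f := (MulAut.conj z).toMonoidHom)
    (MulAut.conj z).injective,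
    Subgroup.card_map_of_injective (f := ψ.toMonoidHom) ψ.injective]

set_option maxHeartbeats 1000000 in
/-- `Q` is fully normalized in the fusion system of the block iff `N_P(Q)` is a defect group of
the block of the stabilizer of `f` with the idempotent of `f`. -/
theorem bp_fully_normalized {p : ℕ} [Fact p.Prime] {M : Ideal AlgInt} (hM : IsPModular p M)
    [hMp : M.IsPrime] (B : Set (IrrCharacter G)) (P : Subgroup G)
    (e : Set (IrrCharacter (Subgroup.centralizer (P : Set G))))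
    (hmax : IsMaximalBrauerPair p M B P e) (F : FusionSystem P)
    (hF : IsBlockFusionSystemOn p M B P e F) (Q : Subgroup G) (f : Set (IrrCharacter (Subgroup.centralizer (Q : Set G))))
    (hQP : Q ≤ P) (hf : IsPBlock M f) (hle : SubpairLE p M Q f P e) (T : Subgroup G)
    (hT : ∀ y : G, y ∈ T ↔ y ∈ Subgroup.normalizer (Q : Set G) ∧ StabilizesBlock (Subgroup.centralizer (Q : Set G)) f y) :
    F.IsFullyNormalized Q ↔ ∃ F' : Set (IrrCharacter T), IsPBlock M F' ∧
      (∀ t : T, blockCoeff F' t = subgroupBlockCoeff (Subgroup.centralizer (Q : Set G)) f (t : G)) ∧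
      IsDefectGroup p M F' ((P ⊓ Subgroup.normalizer (Q : Set G)).subgroupOf T) := by
  classical
  haveI : Fintype T := Fintype.ofFinite _
  have hPe := hmax.1.1
  have hQ : IsPGroup p Q := hPe.1.to_le hQP
  have hRT := bp_normP_le hM P Q e f hPe hQP hf hle T hT
  have hcardE : Nat.card ((P ⊓ Subgroup.normalizer (Q : Set G)).subgroupOf T) = Nat.card (FusionSystem.normalizerIn P Q) :=
    Nat.card_congr (Subgroup.subgroupOfEquivOfLe hRT).toEquiv
  constructor
  · intro hfn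
    obtain ⟨x, hchain, hall⟩ := bp_norm_defect_conj hM B P Q e f hmax hQP hf hle T hT
    obtain ⟨F₂, hF₂, hco₂, hD₂⟩ := hall (bp_stabSub _ (conjBlock Q x f)) (fun y => Iff.rfl)
    have hQ₂P : Q.map (MulAut.conj x).toMonoidHom ≤ P := pf_le _ _ hchain
    have hf₂ : IsPBlock M (conjBlock Q x f) := (bp_chain_pair _ ⟨P, e⟩ hchain hPe).2
    have hRT₂ := bp_normP_le hM P _ e (conjBlock Q x f) hPe hQ₂P hf₂ hchain
      (bp_stabSub _ (conjBlock Q x f)) (fun y => Iff.rfl)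
    have hcardE₂ : Nat.card ((P ⊓ Subgroup.normalizer
          ((Q.map (MulAut.conj x).toMonoidHom : Subgroup G) : Set G)).subgroupOf
          (bp_stabSub _ (conjBlock Q x f)))
        = Nat.card (FusionSystem.normalizerIn P (Q.map (MulAut.conj x).toMonoidHom)) :=
      Nat.card_congr (Subgroup.subgroupOfEquivOfLe hRT₂).toEquiv
    have hconj := bp_fus_conj B P e F hF Q f hQP hle x hchain
    have h1 := hfn.2 _ hconj
    obtain ⟨χ₁, hχ₁⟩ := bp_stab_block hM Q f hQ hf T hT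
    obtain ⟨b', hb'max, hEb', -⟩ := bp_norm_defect_le hM B P Q e f hmax hQP hf hle T hT
      (blockOf M (χ₁ : T → ℂ)) ⟨χ₁, rfl⟩ hχ₁
    have hD : IsDefectGroup p M (blockOf M (χ₁ : T → ℂ)) b'.1 :=
      bp_max_defect hM _ b'.1 b'.2 hb'max
    have h2 := bp_stab_card_conj hM Q f x T hT _ (fun y => Iff.rfl) _ hχ₁ F₂ hF₂ hco₂ b'.1 hD
      _ hD₂
    have h3 : Nat.card b'.1 ≤ Nat.card ((P ⊓ Subgroup.normalizer (Q : Set G)).subgroupOf T) := by
      rw [← h2, hcardE, hcardE₂]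
      exact h1
    have heq := Subgroup.eq_of_le_of_card_ge hEb' h3
    refine ⟨blockOf M (χ₁ : T → ℂ), ⟨χ₁, rfl⟩, hχ₁, ?_⟩
    rw [heq]
    exact hD
  · rintro ⟨F', hF', hco', hD⟩
    refine ⟨hQP, fun Q' hconj => ?_⟩
    obtain ⟨φ, hφ, hrange⟩ := hconj
    obtain ⟨-, g, hφg, hQgP, f₁, hle₁, hle₂⟩ := (hF.2 Q φ).mp hφ
    have hf₁ : IsPBlock M f₁ := (bp_chain_pair ⟨Q, f₁⟩ ⟨P, e⟩ hle₁ hPe).2
    have hff : f₁ = f := bp_sub_unique hM P e hPe _ Q hQP le_rfl f₁ f hf₁ hf hle₁ hle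
    rw [hff] at hle₂
    have hQ' : Q' = Q.map (MulAut.conj g).toMonoidHom := by
      rw [← hrange]
      ext y
      rw [MonoidHom.mem_range, pf_conj_mem]
      constructor
      · rintro ⟨u, rfl⟩
        exact ⟨(u : G), u.2, (hφg u).symm⟩
      · rintro ⟨q, hq, rfl⟩
        exact ⟨⟨q, hq⟩, hφg ⟨q, hq⟩⟩
    rw [hQ']
    have hf₂ : IsPBlock M (conjBlock Q g f) := (bp_chain_pair _ ⟨P, e⟩ hle₂ hPe).2
    have hQ₂ : IsPGroup p (Q.map (MulAut.conj g).toMonoidHom : Subgroup G) := hPe.1.to_le hQgP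
    have hRT₂ := bp_normP_le hM P _ e (conjBlock Q g f) hPe hQgP hf₂ hle₂
      (bp_stabSub _ (conjBlock Q g f)) (fun y => Iff.rfl)
    have hcardE₂ : Nat.card ((P ⊓ Subgroup.normalizer
          ((Q.map (MulAut.conj g).toMonoidHom : Subgroup G) : Set G)).subgroupOf
          (bp_stabSub _ (conjBlock Q g f)))
        = Nat.card (FusionSystem.normalizerIn P (Q.map (MulAut.conj g).toMonoidHom)) :=
      Nat.card_congr (Subgroup.subgroupOfEquivOfLe hRT₂).toEquiv
    obtain ⟨χ₂, hχ₂⟩ := bp_stab_block hM _ (conjBlock Q g f) hQ₂ hf₂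
      (bp_stabSub _ (conjBlock Q g f)) (fun y => Iff.rfl)
    obtain ⟨b₂, hb₂max, hEb₂, -⟩ := bp_norm_defect_le hM B P _ e (conjBlock Q g f) hmax hQgP hf₂
      hle₂ (bp_stabSub _ (conjBlock Q g f)) (fun y => Iff.rfl)
      (blockOf M (χ₂ : bp_stabSub _ (conjBlock Q g f) → ℂ)) ⟨χ₂, rfl⟩ hχ₂
    haveI : Fintype (bp_stabSub (Q.map (MulAut.conj g).toMonoidHom) (conjBlock Q g f)) :=
      Fintype.ofFinite _
    have hD₂ : IsDefectGroup p M (blockOf M (χ₂ : bp_stabSub _ (conjBlock Q g f) → ℂ)) b₂.1 :=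
      bp_max_defect hM _ b₂.1 b₂.2 hb₂max
    have h2 := bp_stab_card_conj hM Q f g T hT _ (fun y => Iff.rfl) F' hco' _ ⟨χ₂, rfl⟩ hχ₂
      _ hD b₂.1 hD₂
    rw [← hcardE, ← hcardE₂, ← h2]
    exact Subgroup.card_le_of_le hEb₂

end Cfsg.Agent.Helper24
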