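import Mathlib
import Cfsg.Agent.Helper24.BP19

/-!
helper24: nilpotent blocks: the stabilizer of a fully normalized subpair is `C_G(Q) N_P(Q)`.
-/

set_option autoImplicit false

namespace Cfsg.Agent.Helper24

open Cfsg Cfsg.Agent.Helper5 Cfsg.Agent.Helper22

universe u

variable {G : Type u} [Group G] [Fintype G]

set_option maxHeartbeats 800000 in
/-- a stable block of a normal subgroup `K` of `p`-power index in `H`: every defect group of the
block of `H` with the same idempotent covers `H / K`. -/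
theorem bp_stable_sup {p : ℕ} [Fact p.Prime] {M : Ideal AlgInt} (hM : IsPModular p M)
    [hMp : M.IsPrime] (K H : Subgroup G) (hKH : K ≤ H)
    (hHN : H ≤ Subgroup.normalizer (K : Set G)) (f : Set (IrrCharacter K)) (hf : IsPBlock M f)
    (hst : ∀ x ∈ H, StabilizesBlock K f x) (hidx : ∃ j : ℕ, (K.subgroupOf H).index = p ^ j)
    (χ₁ : IrrCharacter H)
    (hco : ∀ h : H, blockCoeff (blockOf M (χ₁ : H → ℂ)) h = subgroupBlockCoeff K f (h : G))
    (D : Subgroup H) (hD : IsDefectGroup p M (blockOf M (χ₁ : H → ℂ)) D) :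
    K.subgroupOf H ⊔ D = ⊤ := by
  classical
  haveI hnorm : (K.subgroupOf H).Normal := Subgroup.normal_subgroupOf_of_le_normalizer hHN
  haveI : Fintype H := Fintype.ofFinite _
  haveI : Fintype K := Fintype.ofFinite _
  haveI : Fintype (K.subgroupOf H) := Fintype.ofFinite _
  obtain ⟨φ, hφ⟩ : ∃ φ : ↥(K.subgroupOf H) ≃* ↥K, φ = Subgroup.subgroupOfEquivOfLe hKH :=
    ⟨_, rfl⟩
  have hφv : ∀ c : K.subgroupOf H, ((φ c : K) : G) = ((c : H) : G) := by
    intro c
    rw [hφ]
    rfl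
  obtain ⟨c, hcdef⟩ : ∃ c : Set (IrrCharacter (K.subgroupOf H)), c = fm_tr φ.symm f := ⟨_, rfl⟩
  have hcblk : IsPBlock M c := by
    rw [hcdef]
    exact fm_tr_isPBlock _ f hf
  have hccoef : ∀ k : K.subgroupOf H, blockCoeff c k = blockCoeff f (φ k) := by
    intro k
    have h3 := fm_tr_coeff φ.symm f (φ k)
    rw [φ.symm_apply_apply] at h3
    rw [hcdef]
    exact h3
  have hcst : ∀ x : H, StabilizesBlock (K.subgroupOf H) c x := by
    intro x
    refine ⟨(Subgroup.le_normalizer_of_normal : (⊤ : Subgroup H) ≤ _) (Subgroup.mem_top x),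
      fun χ hχ => ?_⟩
    rw [hcdef, fm_tr_mem'] at hχ
    obtain ⟨θ', hθ', hc⟩ := (hst x x.2).2 _ hχ
    refine ⟨fm_pb φ θ', ?_, ?_⟩
    · rw [hcdef, fm_tr_mem', fm_pb_symm']
      exact hθ'
    · intro k k' hkk
      show (θ' : K → ℂ) (φ k') = (χ : K.subgroupOf H → ℂ) k
      have h3 := hc (φ k) (φ k') (by
        rw [hφv, hφv, hkk]
        rfl)
      rw [h3]
      show (χ : K.subgroupOf H → ℂ) (φ.symm (φ k)) = _
      rw [φ.symm_apply_apply]
  obtain ⟨θ₀, hθ₀⟩ := hcblk
  have hcst' : ∀ x : H, StabilizesBlock (K.subgroupOf H)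
      (blockOf M (θ₀ : K.subgroupOf H → ℂ)) x := by
    rw [← hθ₀]
    exact hcst
  obtain ⟨-, h2⟩ := stable_block_main (K.subgroupOf H) hM hidx θ₀ hcst'
  have hco2 : ∀ g : H, blockCoeff (blockOf M (χ₁ : H → ℂ)) g
      = subgroupBlockCoeff (K.subgroupOf H) (blockOf M (θ₀ : K.subgroupOf H → ℂ)) g := by
    intro g
    rw [hco g, ← hθ₀]
    unfold subgroupBlockCoeff
    by_cases hg : (g : G) ∈ K
    · rw [dif_pos hg, dif_pos (Subgroup.mem_subgroupOf.mpr hg), hccoef]
      have e4 : φ ⟨g, Subgroup.mem_subgroupOf.mpr hg⟩ = (⟨(g : G), hg⟩ : K) :=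
        Subtype.ext (hφv _)
      rw [e4]
    · rw [dif_neg hg, dif_neg (fun h => hg (Subgroup.mem_subgroupOf.mp h))]
  exact (h2 χ₁ hco2 D hD).1

/-- nilpotent block: the stabilizer of a Brauer pair `(Q, f)` is `C_G(Q) D` for every defect
group `D` of the block of the stabilizer with the idempotent of `f`. -/
theorem bp_nil_split {p : ℕ} [Fact p.Prime] {M : Ideal AlgInt} (hM : IsPModular p M)
    [hMp : M.IsPrime] (B : Set (IrrCharacter G)) (hnil : IsNilpotentBlock p M B)
    (Q : Subgroup G) (f : Set (IrrCharacter (Subgroup.centralizer (Q : Set G)))) (hQf : IsBrauerPairOf p M B Q f)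
    (χ₁ : IrrCharacter (bp_stabSub Q f))
    (hco : ∀ t : bp_stabSub Q f, blockCoeff (blockOf M (χ₁ : bp_stabSub Q f → ℂ)) t
      = subgroupBlockCoeff (Subgroup.centralizer (Q : Set G)) f (t : G))
    (D : Subgroup (bp_stabSub Q f))
    (hD : IsDefectGroup p M (blockOf M (χ₁ : bp_stabSub Q f → ℂ)) D) :
    ∀ t ∈ bp_stabSub Q f, ∃ c ∈ (Subgroup.centralizer (Q : Set G)), ∃ u : bp_stabSub Q f, u ∈ D ∧ t = c * (u : G) := by
  classical
  have hp := (Fact.out : p.Prime)
  have hCT : (Subgroup.centralizer (Q : Set G)) ≤ bp_stabSub Q f := fun c hc =>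
    ⟨Subgroup.centralizer_le_normalizer _ hc, bp_cent_stab Q f c hc⟩
  have hTN : bp_stabSub Q f ≤ Subgroup.normalizer (((Subgroup.centralizer (Q : Set G)) : Subgroup G) : Set G) :=
    fun t ht => pf_norm_cent Q t ht.1
  haveI hnorm : ((Subgroup.centralizer (Q : Set G)).subgroupOf (bp_stabSub Q f)).Normal :=
    Subgroup.normal_subgroupOf_of_le_normalizer hTN
  have hidx : ∃ j : ℕ, ((Subgroup.centralizer (Q : Set G)).subgroupOf (bp_stabSub Q f)).index = p ^ j := by
    have hpg : IsPGroup p (bp_stabSub Q f ⧸ (Subgroup.centralizer (Q : Set G)).subgroupOf (bp_stabSub Q f)) := by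
      intro q
      obtain ⟨t, rfl⟩ := QuotientGroup.mk_surjective q
      have hn0 : orderOf (t : G) ≠ 0 := (orderOf_pos (t : G)).ne'
      refine ⟨(orderOf (t : G)).factorization p, ?_⟩
      rw [← QuotientGroup.mk_pow, QuotientGroup.eq_one_iff, Subgroup.mem_subgroupOf]
      have hdvd : p ^ (orderOf (t : G)).factorization p ∣ orderOf (t : G) :=
        Nat.ordProj_dvd (orderOf (t : G)) p
      have hy_ord : orderOf ((t : G) ^ (p ^ (orderOf (t : G)).factorization p))
          = orderOf (t : G) / p ^ (orderOf (t : G)).factorization p :=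
        orderOf_pow_of_dvd (pow_ne_zero _ hp.ne_zero) hdvd
      have hyreg : IsPRegular p ((t : G) ^ (p ^ (orderOf (t : G)).factorization p)) := by
        unfold IsPRegular
        rw [hy_ord]
        exact Nat.not_dvd_ordCompl hp hn0
      have hyT : (t : G) ^ (p ^ (orderOf (t : G)).factorization p) ∈ bp_stabSub Q f :=
        Subgroup.pow_mem _ t.2 _
      exact hnil.2 Q f hQf _ hyT.1 hyT.2 hyreg
    obtain ⟨j, hj⟩ := IsPGroup.iff_card.mp hpg
    exact ⟨j, by rw [Subgroup.index_eq_card]; exact hj⟩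
  have hsup := bp_stable_sup hM (Subgroup.centralizer (Q : Set G)) (bp_stabSub Q f) hCT hTN f hQf.1.2 (fun x hx => hx.2) hidx χ₁
    hco D hD
  intro t ht
  have hmem : (⟨t, ht⟩ : bp_stabSub Q f) ∈
      (((Subgroup.centralizer (Q : Set G)).subgroupOf (bp_stabSub Q f) ⊔ D : Subgroup (bp_stabSub Q f)) :
        Set (bp_stabSub Q f)) := by
    rw [hsup]
    exact Subgroup.mem_top _
  rw [Subgroup.normal_mul] at hmem
  obtain ⟨c', hc', u, hu, hcu⟩ := Set.mem_mul.mp hmem
  exact ⟨(c' : G), Subgroup.mem_subgroupOf.mp hc', u, hu,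
    (congrArg (fun s : bp_stabSub Q f => (s : G)) hcu).symm⟩

end Cfsg.Agent.Helper24
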