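import Mathlib
import Cfsg.Agent.Helper24.BP20

/-!
helper24: nilpotent blocks: the defect group controls the fusion of Brauer pairs.
-/

set_option autoImplicit false

namespace Cfsg.Agent.Helper24

open Cfsg Cfsg.Agent.Helper5 Cfsg.Agent.Helper22

universe u

variable {G : Type u} [Group G]

theorem bh_rel_unique {H : Subgroup G} {a' : BrauerPairIdx H} {b₁ b₂ : BrauerPairIdx G}
    (h1 : bh_rel H a' b₁) (h2 : bh_rel H a' b₂) : b₁ = b₂ := by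
  obtain ⟨R₁, g₁⟩ := b₁
  obtain ⟨R₂, g₂⟩ := b₂
  obtain ⟨hs1, hC1, he1⟩ := h1
  obtain ⟨hs2, hC2, he2⟩ := h2
  have hs1' : bh_sub H a'.1 R₁ := hs1
  have hs2' : bh_sub H a'.1 R₂ := hs2
  have hR : R₁ = R₂ := by
    ext g
    exact (hs1' g).trans (hs2' g).symm
  subst hR
  have he1' : g₁ = fm_tr (bh_equiv H a'.1 R₁ hs1' hC1) a'.2 := he1
  have he2' : g₂ = fm_tr (bh_equiv H a'.1 R₁ hs2' hC2) a'.2 := he2
  rw [he1', he2']

variable [Fintype G]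

/-- a pair normal above `(Q, f)` gives a Brauer pair of the block of the stabilizer. -/
theorem bp_stab_pair {p : ℕ} {M : Ideal AlgInt} (Q : Subgroup G) (f : Set (IrrCharacter (Subgroup.centralizer (Q : Set G))))
    (T : Subgroup G) (hT : ∀ y : G, y ∈ T ↔ y ∈ Subgroup.normalizer (Q : Set G) ∧ StabilizesBlock (Subgroup.centralizer (Q : Set G)) f y)
    (FT : Set (IrrCharacter T)) (hFT : IsPBlock M FT)
    (hco : ∀ t : T, blockCoeff FT t = subgroupBlockCoeff (Subgroup.centralizer (Q : Set G)) f (t : G))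
    (R : Subgroup G) (g : Set (IrrCharacter (Subgroup.centralizer (R : Set G))))
    (hN : IsNormalSubpair p M Q f R g) :
    ∃ a' : BrauerPairIdx T, bh_rel T a' ⟨R, g⟩ ∧ a'.1 = R.subgroupOf T ∧
      IsBrauerPairOf p M FT a'.1 a'.2 := by
  classical
  have hRT : R ≤ T := fun r hr => (hT r).mpr ⟨hN.2.2.2.1 hr, hN.2.2.2.2.1 r hr⟩
  have hCT : (Subgroup.centralizer (Q : Set G)) ≤ T := fun c hc =>
    (hT c).mpr ⟨Subgroup.centralizer_le_normalizer _ hc, bp_cent_stab Q f c hc⟩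
  have hCR : Subgroup.centralizer (R : Set G) ≤ T :=
    le_trans (Subgroup.centralizer_le hN.2.2.1) hCT
  obtain ⟨a', ha', ha'1⟩ : ∃ a' : BrauerPairIdx T, bh_rel T a' ⟨R, g⟩ ∧ a'.1 = R.subgroupOf T :=
    ⟨_, bh_down T (⟨R, g⟩ : BrauerPairIdx G) hRT hCR, rfl⟩
  have hbr : ∀ ξ ∈ g, MemLocalIdeal M (brauerOmega R (subgroupBlockCoeff T FT)
      (ξ : Subgroup.centralizer (R : Set G) → ℂ) - 1) := by
    intro ξ hξ
    have h3 := hN.2.2.2.2.2 ξ hξ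
    have e1 : brauerOmega R (subgroupBlockCoeff T FT) (ξ : Subgroup.centralizer (R : Set G) → ℂ)
        = brauerOmega R (subgroupBlockCoeff (Subgroup.centralizer (Q : Set G)) f)
          (ξ : Subgroup.centralizer (R : Set G) → ℂ) := by
      unfold brauerOmega
      refine finsum_congr fun x => ?_
      congr 2
      have hxT : (x : G) ∈ T := hCR x.2
      have h4 : subgroupBlockCoeff T FT (x : G) = blockCoeff FT ⟨(x : G), hxT⟩ := by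
        unfold subgroupBlockCoeff
        rw [dif_pos hxT]
      rw [h4]
      exact hco _
    rw [e1]
    exact h3
  exact ⟨a', ha', ha'1, bh_pairOf T FT hFT a' ⟨R, g⟩ ha' hN.2.1 hbr⟩

/-- the subpair of `(P, e)` on `N_P(Q)` is normal above `(Q, f)`. -/
theorem bp_normP_pair {p : ℕ} [Fact p.Prime] {M : Ideal AlgInt} (hM : IsPModular p M)
    [hMp : M.IsPrime] (P Q : Subgroup G)
    (e : Set (IrrCharacter (Subgroup.centralizer (P : Set G)))) (f : Set (IrrCharacter (Subgroup.centralizer (Q : Set G))))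
    (hPe : IsBrauerPair p M P e) (hQP : Q ≤ P) (hf : IsPBlock M f)
    (hle : SubpairLE p M Q f P e) :
    ∃ g : Set (IrrCharacter (Subgroup.centralizer ((P ⊓ Subgroup.normalizer (Q : Set G) : Subgroup G) : Set G))),
      IsNormalSubpair p M Q f (P ⊓ Subgroup.normalizer (Q : Set G)) g ∧
      Relation.ReflTransGen (NormalSubpairRel p M) ⟨P ⊓ Subgroup.normalizer (Q : Set G), g⟩ ⟨P, e⟩ := by
  classical
  have hQ : IsPGroup p Q := hPe.1.to_le hQP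
  have hRP : P ⊓ Subgroup.normalizer (Q : Set G) ≤ P := inf_le_left
  have hRN : P ⊓ Subgroup.normalizer (Q : Set G) ≤ Subgroup.normalizer (Q : Set G) := inf_le_right
  have hQR : Q ≤ P ⊓ Subgroup.normalizer (Q : Set G) := le_inf hQP Subgroup.le_normalizer
  obtain ⟨g, hg, hgP⟩ := bp_sub_exists hM P e hPe _ (P ⊓ Subgroup.normalizer (Q : Set G)) hRP le_rfl
  have hRg : IsBrauerPair p M (P ⊓ Subgroup.normalizer (Q : Set G)) g := ⟨hPe.1.to_le hRP, hg⟩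
  obtain ⟨f₀, hf₀, hf₀R⟩ := bp_sub_exists hM (P ⊓ Subgroup.normalizer (Q : Set G)) g hRg _ Q hQR le_rfl
  have hff : f₀ = f := bp_sub_unique hM P e hPe _ Q hQP le_rfl f₀ f hf₀ hf (hf₀R.trans hgP) hle
  rw [hff] at hf₀R
  exact ⟨g, bp_collapse hM ⟨Q, f⟩ ⟨P ⊓ Subgroup.normalizer (Q : Set G), g⟩ hf₀R ⟨hQ, hf⟩ hRN, hgP⟩

/-- a Brauer pair whose subgroup is a defect group is maximal. -/
theorem bp_defect_max {p : ℕ} [Fact p.Prime] {M : Ideal AlgInt} (hM : IsPModular p M)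
    [hMp : M.IsPrime] (B : Set (IrrCharacter G)) (P : Subgroup G)
    (e : Set (IrrCharacter (Subgroup.centralizer (P : Set G))))
    (hpair : IsBrauerPairOf p M B P e) (hD : IsDefectGroup p M B P) :
    IsMaximalBrauerPair p M B P e := by
  refine ⟨hpair, fun R g hBR hle => ?_⟩
  obtain ⟨b, hchain, hbmax⟩ := bp_exists_max (p := p) (M := M) B _ ⟨R, g⟩ hBR le_rfl
  have hD' := bp_max_defect hM B b.1 b.2 hbmax
  obtain ⟨χ₀, hχ₀⟩ := hpair.2.1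
  rw [hχ₀] at hD hD'
  obtain ⟨z, hz⟩ := defect_groups_conj hM χ₀ _ _ hD hD'
  have hcard : Nat.card b.1 = Nat.card P := by
    rw [hz, Subgroup.card_map_of_injective (f := (MulAut.conj z).toMonoidHom)
      (MulAut.conj z).injective]
  have hPR : P ≤ R := pf_le _ _ hle
  have hRb : R ≤ b.1 := pf_le _ _ hchain
  have h1 : P = b.1 := Subgroup.eq_of_le_of_card_ge (le_trans hPR hRb) (le_of_eq hcard)
  have hRP : R ≤ P := by
    rw [h1]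
    exact hRb
  exact le_antisymm hRP hPR

theorem bp_top_eq {p : ℕ} [Fact p.Prime] {M : Ideal AlgInt} (hM : IsPModular p M)
    [hMp : M.IsPrime] (P : Subgroup G)
    (e : Set (IrrCharacter (Subgroup.centralizer (P : Set G)))) (hPe : IsBrauerPair p M P e)
    (a : BrauerPairIdx G) (h : Relation.ReflTransGen (NormalSubpairRel p M) a ⟨P, e⟩)
    (ha : a.1 = P) (hblk : IsPBlock M a.2) : a = ⟨P, e⟩ := by
  obtain ⟨Q, f⟩ := a
  have ha' : Q = P := ha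
  subst ha'
  have hu := bp_sub_unique hM _ e hPe 0 _ le_rfl (le_of_eq (Nat.sub_self _)) f e hblk hPe.2 h
    Relation.ReflTransGen.refl
  have hu' : f = e := hu
  rw [hu']

set_option maxHeartbeats 1600000 in
/-- the step of the control of fusion: a conjugation onto a fully normalized pair is induced by
an element of `P`, provided this holds for all larger subgroups. -/
theorem bp_ctrl_step {p : ℕ} [Fact p.Prime] {M : Ideal AlgInt} (hM : IsPModular p M)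
    [hMp : M.IsPrime] (B : Set (IrrCharacter G)) (P : Subgroup G)
    (e : Set (IrrCharacter (Subgroup.centralizer (P : Set G))))
    (hmax : IsMaximalBrauerPair p M B P e) (hnil : IsNilpotentBlock p M B)
    (Q₀ : Subgroup G) (f₀ : Set (IrrCharacter (Subgroup.centralizer (Q₀ : Set G))))
    (hQ₀P : Q₀ ≤ P) (hf₀ : IsPBlock M f₀) (hle₀ : SubpairLE p M Q₀ f₀ P e)
    (χ₀ : IrrCharacter (bp_stabSub Q₀ f₀))
    (hco₀ : ∀ t : bp_stabSub Q₀ f₀, blockCoeff (blockOf M (χ₀ : bp_stabSub Q₀ f₀ → ℂ)) t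
      = subgroupBlockCoeff (Subgroup.centralizer (Q₀ : Set G)) f₀ (t : G))
    (hfn : IsDefectGroup p M (blockOf M (χ₀ : bp_stabSub Q₀ f₀ → ℂ))
      ((P ⊓ Subgroup.normalizer (Q₀ : Set G)).subgroupOf (bp_stabSub Q₀ f₀)))
    (Q₁ : Subgroup G) (f₁ : Set (IrrCharacter (Subgroup.centralizer (Q₁ : Set G))))
    (hQ₁P : Q₁ ≤ P) (hf₁ : IsPBlock M f₁) (hle₁ : SubpairLE p M Q₁ f₁ P e)
    (y : G) (hy : bc_rel y (⟨Q₁, f₁⟩ : BrauerPairIdx G) ⟨Q₀, f₀⟩)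
    (IH : ∀ (R : Subgroup G) (g : Set (IrrCharacter (Subgroup.centralizer (R : Set G)))),
      R ≤ P → Nat.card Q₁ < Nat.card R → IsPBlock M g → SubpairLE p M R g P e →
      ∀ (z : G) (a : BrauerPairIdx G), bc_rel z (⟨R, g⟩ : BrauerPairIdx G) a →
        Relation.ReflTransGen (NormalSubpairRel p M) a ⟨P, e⟩ →
        ∃ u ∈ P, ∀ r ∈ R, z * r * z⁻¹ = u * r * u⁻¹) :
    ∃ u ∈ P, ∀ q ∈ Q₁, y * q * y⁻¹ = u * q * u⁻¹ := by
  classical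
  have hPe := hmax.1.1
  have hB := hmax.1.2.1
  have hQ₀fB : IsBrauerPairOf p M B Q₀ f₀ :=
    (bp_of_le hM B hB ⟨Q₀, f₀⟩ ⟨P, e⟩ hle₀).mp hmax.1
  have hsplit := bp_nil_split hM B hnil Q₀ f₀ hQ₀fB χ₀ hco₀ _ hfn
  have hs : bc_sub y Q₁ Q₀ := hy.1
  have hcard₀ : Nat.card Q₀ = Nat.card Q₁ := by
    rw [bc_sub_eq hs, Subgroup.card_map_of_injective (f := (MulAut.conj y).toMonoidHom)
      (MulAut.conj y).injective]
  have hCT₀ : Subgroup.centralizer (Q₀ : Set G) ≤ bp_stabSub Q₀ f₀ := fun c hc =>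
    ⟨Subgroup.centralizer_le_normalizer _ hc, bp_cent_stab Q₀ f₀ c hc⟩
  by_cases hQ₁ : Q₁ = P
  · have hQ₀ : Q₀ = P := Subgroup.eq_of_le_of_card_ge hQ₀P (by rw [hcard₀, hQ₁])
    have h1 := bp_top_eq hM P e hPe ⟨Q₁, f₁⟩ hle₁ hQ₁ hf₁
    have h0 := bp_top_eq hM P e hPe ⟨Q₀, f₀⟩ hle₀ hQ₀ hf₀
    have h10 : (⟨Q₁, f₁⟩ : BrauerPairIdx G) = ⟨Q₀, f₀⟩ := h1.trans h0.symm
    rw [h10] at hy
    have hyT := bc_self_stab y Q₀ f₀ hy
    obtain ⟨c₀, hc₀, u₀, hu₀, hycu⟩ := hsplit y hyT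
    have hu₀P := Subgroup.mem_subgroupOf.mp hu₀
    refine ⟨(u₀ : G), hu₀P.1, fun q hq => ?_⟩
    have hq₀ : q ∈ Q₀ := by
      rw [hQ₀, ← hQ₁]
      exact hq
    have h2 : (u₀ : G) * q * (u₀ : G)⁻¹ ∈ Q₀ := (Subgroup.mem_normalizer_iff.mp hu₀P.2 _).mp hq₀
    have h3 := Subgroup.mem_centralizer_iff.mp hc₀ _ h2
    rw [hycu]
    have e5 : c₀ * (u₀ : G) * q * (c₀ * (u₀ : G))⁻¹
        = c₀ * ((u₀ : G) * q * (u₀ : G)⁻¹) * c₀⁻¹ := by group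
    rw [e5, ← h3]
    group
  · have hgrow := bp_norm_grow P Q₁ hPe.1 hQ₁P hQ₁
    obtain ⟨g₁, hN₁, hg₁P⟩ := bp_normP_pair hM P Q₁ e f₁ hPe hQ₁P hf₁ hle₁
    have hy₃ := bc_rel_cj y (⟨P ⊓ Subgroup.normalizer (Q₁ : Set G), g₁⟩ : BrauerPairIdx G)
    obtain ⟨a₃, ha₃⟩ : ∃ a₃ : BrauerPairIdx G, a₃ = ⟨(P ⊓ Subgroup.normalizer (Q₁ : Set G)).map
        (MulAut.conj y).toMonoidHom, conjBlock (P ⊓ Subgroup.normalizer (Q₁ : Set G)) y g₁⟩ :=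
      ⟨_, rfl⟩
    rw [← ha₃] at hy₃
    clear ha₃
    have hN₃ : NormalSubpairRel p M ⟨Q₀, f₀⟩ a₃ :=
      bc_normal y ⟨Q₁, f₁⟩ ⟨P ⊓ Subgroup.normalizer (Q₁ : Set G), g₁⟩ ⟨Q₀, f₀⟩ a₃ hN₁ hy hy₃
    obtain ⟨R₃, g₃⟩ := a₃
    have hN₃' : IsNormalSubpair p M Q₀ f₀ R₃ g₃ := hN₃
    haveI : Fintype (bp_stabSub Q₀ f₀) := Fintype.ofFinite _
    obtain ⟨a₃', ha₃', -, hp₃'⟩ := bp_stab_pair Q₀ f₀ (bp_stabSub Q₀ f₀) (fun y => Iff.rfl)
      (blockOf M (χ₀ : bp_stabSub Q₀ f₀ → ℂ)) ⟨χ₀, rfl⟩ hco₀ R₃ g₃ hN₃'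
    obtain ⟨g₂, hN₂, hg₂P⟩ := bp_normP_pair hM P Q₀ e f₀ hPe hQ₀P hf₀ hle₀
    obtain ⟨a₂', ha₂', ha₂'1, hp₂'⟩ := bp_stab_pair Q₀ f₀ (bp_stabSub Q₀ f₀) (fun y => Iff.rfl)
      (blockOf M (χ₀ : bp_stabSub Q₀ f₀ → ℂ)) ⟨χ₀, rfl⟩ hco₀ _ g₂ hN₂
    have hfn' : IsDefectGroup p M (blockOf M (χ₀ : bp_stabSub Q₀ f₀ → ℂ)) a₂'.1 := by
      rw [ha₂'1]
      exact hfn
    have hm₂' : IsMaximalBrauerPair p M (blockOf M (χ₀ : bp_stabSub Q₀ f₀ → ℂ)) a₂'.1 a₂'.2 :=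
      bp_defect_max hM _ a₂'.1 a₂'.2 hp₂' hfn'
    obtain ⟨t, ht⟩ := bp_conj_max hM (blockOf M (χ₀ : bp_stabSub Q₀ f₀ → ℂ)) a₂'.1 a₃'.1 a₂'.2
      a₃'.2 hm₂' hp₃'
    obtain ⟨a₄', ha₄'⟩ : ∃ a₄' : BrauerPairIdx (bp_stabSub Q₀ f₀),
        a₄' = ⟨a₃'.1.map (MulAut.conj t).toMonoidHom, conjBlock a₃'.1 t a₃'.2⟩ := ⟨_, rfl⟩
    have hrel₄ : bc_rel t a₃' a₄' := by
      rw [ha₄']
      exact bc_rel_cj t a₃'
    have hch₄ : Relation.ReflTransGen (NormalSubpairRel p M) a₄' a₂' := by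
      rw [ha₄']
      exact ht
    clear ha₄'
    obtain ⟨hs₃, -, -⟩ := id ha₃'
    have hs₃' : bh_sub (bp_stabSub Q₀ f₀) a₃'.1 R₃ := hs₃
    have hC₄ : Subgroup.centralizer
        ((a₄'.1.map (bp_stabSub Q₀ f₀).subtype : Subgroup G) : Set G) ≤ bp_stabSub Q₀ f₀ := by
      refine le_trans (Subgroup.centralizer_le ?_) hCT₀
      intro q hq
      have hq' : (t : G)⁻¹ * q * (t : G) ∈ Q₀ := bp_norm_inv Q₀ (t : G) t.2.1 q hq
      obtain ⟨h, hh, hhe⟩ := (hs₃' _).mp (hN₃'.2.2.1 hq')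
      refine Subgroup.mem_map.mpr ⟨t * h * t⁻¹, (hrel₄.1 _).mpr ⟨h, hh, rfl⟩, ?_⟩
      show (t : G) * (h : G) * (t : G)⁻¹ = q
      rw [hhe]
      group
    obtain ⟨a₄, ha₄⟩ : ∃ a₄ : BrauerPairIdx G, bh_rel (bp_stabSub Q₀ f₀) a₄' a₄ :=
      ⟨_, bh_up (bp_stabSub Q₀ f₀) a₄' hC₄⟩
    have hG₄ : bc_rel (t : G) (⟨R₃, g₃⟩ : BrauerPairIdx G) a₄ :=
      bh_conj (bp_stabSub Q₀ f₀) t a₃' a₄' ⟨R₃, g₃⟩ a₄ hrel₄ ha₃' ha₄
    obtain ⟨b, hb, hab⟩ := bh_chain_up (bp_stabSub Q₀ f₀) a₄' a₄ ha₄ a₂' hch₄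
    have hb2 := bh_rel_unique hb ha₂'
    rw [hb2] at hab
    have hch : Relation.ReflTransGen (NormalSubpairRel p M) a₄ ⟨P, e⟩ := hab.trans hg₂P
    have hrel : bc_rel ((t : G) * y)
        (⟨P ⊓ Subgroup.normalizer (Q₁ : Set G), g₁⟩ : BrauerPairIdx G) a₄ := bc_rel_mul hy₃ hG₄
    obtain ⟨u₃, hu₃, hu₃c⟩ := IH _ g₁ inf_le_left hgrow hN₁.2.1.2 hg₁P ((t : G) * y) a₄ hrel hch
    obtain ⟨c₀, hc₀, u₀, hu₀, htcu⟩ := hsplit (t : G) t.2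
    have hu₀P := Subgroup.mem_subgroupOf.mp hu₀
    refine ⟨(u₀ : G)⁻¹ * u₃, P.mul_mem (P.inv_mem hu₀P.1) hu₃, fun q hq => ?_⟩
    have hyq : y * q * y⁻¹ ∈ Q₀ := (hs _).mpr ⟨q, hq, rfl⟩
    have h1 := hu₃c q (hN₁.2.2.1 hq)
    have h2 : (u₀ : G) * (y * q * y⁻¹) * (u₀ : G)⁻¹ ∈ Q₀ :=
      (Subgroup.mem_normalizer_iff.mp hu₀P.2 _).mp hyq
    have h3 := Subgroup.mem_centralizer_iff.mp hc₀ _ h2
    have h4 : u₃ * q * u₃⁻¹ = (u₀ : G) * (y * q * y⁻¹) * (u₀ : G)⁻¹ := by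
      rw [← h1, htcu]
      have e5 : c₀ * (u₀ : G) * y * q * (c₀ * (u₀ : G) * y)⁻¹
          = c₀ * ((u₀ : G) * (y * q * y⁻¹) * (u₀ : G)⁻¹) * c₀⁻¹ := by group
      rw [e5, ← h3]
      group
    calc y * q * y⁻¹ = (u₀ : G)⁻¹ * ((u₀ : G) * (y * q * y⁻¹) * (u₀ : G)⁻¹) * (u₀ : G) := by
          group
      _ = (u₀ : G)⁻¹ * (u₃ * q * u₃⁻¹) * (u₀ : G) := by rw [h4]
      _ = ((u₀ : G)⁻¹ * u₃) * q * ((u₀ : G)⁻¹ * u₃)⁻¹ := by group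

set_option maxHeartbeats 1600000 in
/-- nilpotent block: conjugations between subpairs of the maximal pair `(P, e)` are induced by
elements of `P`. -/
theorem bp_ctrl {p : ℕ} [Fact p.Prime] {M : Ideal AlgInt} (hM : IsPModular p M)
    [hMp : M.IsPrime] (B : Set (IrrCharacter G)) (P : Subgroup G)
    (e : Set (IrrCharacter (Subgroup.centralizer (P : Set G))))
    (hmax : IsMaximalBrauerPair p M B P e) (hnil : IsNilpotentBlock p M B) :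
    ∀ (n : ℕ) (Q : Subgroup G) (f : Set (IrrCharacter (Subgroup.centralizer (Q : Set G)))), Q ≤ P →
      Nat.card P - Nat.card Q ≤ n → IsPBlock M f → SubpairLE p M Q f P e →
      ∀ (x : G) (a : BrauerPairIdx G), bc_rel x (⟨Q, f⟩ : BrauerPairIdx G) a →
        Relation.ReflTransGen (NormalSubpairRel p M) a ⟨P, e⟩ →
        ∃ u ∈ P, ∀ q ∈ Q, x * q * x⁻¹ = u * q * u⁻¹ := by
  intro n
  induction n using Nat.strong_induction_on with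
  | _ n ih =>
    intro Q f hQP hn hf hle x a hx ha
    classical
    have hPe := hmax.1.1
    obtain ⟨y₀, hchain₀, hall⟩ := bp_norm_defect_conj hM B P Q e f hmax hQP hf hle
      (bp_stabSub Q f) (fun y => Iff.rfl)
    obtain ⟨F₀, hF₀, hco₀, hfn⟩ := hall (bp_stabSub _ (conjBlock Q y₀ f)) (fun y => Iff.rfl)
    obtain ⟨χ₀, rfl⟩ := hF₀
    have hQ₀P : Q.map (MulAut.conj y₀).toMonoidHom ≤ P := pf_le _ _ hchain₀
    have hf₀ : IsPBlock M (conjBlock Q y₀ f) := (bp_chain_pair _ ⟨P, e⟩ hchain₀ hPe).2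
    have hy₀ := bc_rel_cj y₀ (⟨Q, f⟩ : BrauerPairIdx G)
    have IH : ∀ (Q₁ : Subgroup G), Nat.card Q₁ = Nat.card Q →
        ∀ (R : Subgroup G) (g : Set (IrrCharacter (Subgroup.centralizer (R : Set G)))),
        R ≤ P → Nat.card Q₁ < Nat.card R → IsPBlock M g → SubpairLE p M R g P e →
        ∀ (z : G) (a : BrauerPairIdx G), bc_rel z (⟨R, g⟩ : BrauerPairIdx G) a →
          Relation.ReflTransGen (NormalSubpairRel p M) a ⟨P, e⟩ →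
          ∃ u ∈ P, ∀ r ∈ R, z * r * z⁻¹ = u * r * u⁻¹ := by
      intro Q₁ hc R g hRP hlt hg hle' z a' hz ha'
      have hcP : Nat.card R ≤ Nat.card P := Subgroup.card_le_of_le hRP
      exact ih (Nat.card P - Nat.card R) (by omega) R g hRP le_rfl hg hle' z a' hz ha'
    obtain ⟨u₀, hu₀, hu₀c⟩ := bp_ctrl_step hM B P e hmax hnil _ _ hQ₀P hf₀ hchain₀ χ₀ hco₀ hfn
      Q f hQP hf hle y₀ hy₀ (IH Q rfl)
    obtain ⟨Q₂, f₂⟩ := a
    have hQ₂P : Q₂ ≤ P := pf_le _ _ ha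
    have hf₂ : IsPBlock M f₂ := (bp_chain_pair _ ⟨P, e⟩ ha hPe).2
    have hs : bc_sub x Q Q₂ := hx.1
    have hcard₂ : Nat.card Q₂ = Nat.card Q := by
      rw [bc_sub_eq hs, Subgroup.card_map_of_injective (f := (MulAut.conj x).toMonoidHom)
        (MulAut.conj x).injective]
    have hy₂ : bc_rel (y₀ * x⁻¹) (⟨Q₂, f₂⟩ : BrauerPairIdx G)
        ⟨Q.map (MulAut.conj y₀).toMonoidHom, conjBlock Q y₀ f⟩ := bc_rel_mul (bc_rel_inv hx) hy₀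
    obtain ⟨u₂, hu₂, hu₂c⟩ := bp_ctrl_step hM B P e hmax hnil _ _ hQ₀P hf₀ hchain₀ χ₀ hco₀ hfn
      Q₂ f₂ hQ₂P hf₂ ha (y₀ * x⁻¹) hy₂ (IH Q₂ hcard₂)
    refine ⟨u₂⁻¹ * u₀, P.mul_mem (P.inv_mem hu₂) hu₀, fun q hq => ?_⟩
    have hxq : x * q * x⁻¹ ∈ Q₂ := (hs _).mpr ⟨q, hq, rfl⟩
    have h1 := hu₀c q hq
    have h2 := hu₂c _ hxq
    have e1 : y₀ * x⁻¹ * (x * q * x⁻¹) * (y₀ * x⁻¹)⁻¹ = y₀ * q * y₀⁻¹ := by group
    rw [e1, h1] at h2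
    calc x * q * x⁻¹ = u₂⁻¹ * (u₂ * (x * q * x⁻¹) * u₂⁻¹) * u₂ := by group
      _ = u₂⁻¹ * (u₀ * q * u₀⁻¹) * u₂ := by rw [← h2]
      _ = (u₂⁻¹ * u₀) * q * (u₂⁻¹ * u₀)⁻¹ := by group

end Cfsg.Agent.Helper24
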