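import Mathlib
import Cfsg.Agent.Helper24.BP21

/-!
helper24: nilpotent blocks and the inner fusion system.
-/

set_option autoImplicit false

namespace Cfsg.Agent.Helper24

open Cfsg Cfsg.Agent.Helper5 Cfsg.Agent.Helper22

universe u

variable {G : Type u} [Group G] [Fintype G]

/-- if `P` controls the self-fusion of the subpairs of `(P, e)`, the block is nilpotent. -/
theorem bp_nil_of_ctrl {p : ℕ} [Fact p.Prime] {M : Ideal AlgInt} (hM : IsPModular p M)
    [hMp : M.IsPrime] (B : Set (IrrCharacter G)) (P : Subgroup G)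
    (e : Set (IrrCharacter (Subgroup.centralizer (P : Set G))))
    (hmax : IsMaximalBrauerPair p M B P e)
    (hctrl : ∀ (Q₁ : Subgroup G) (f₁ : Set (IrrCharacter (Subgroup.centralizer (Q₁ : Set G))))
      (x : G), SubpairLE p M Q₁ f₁ P e → bc_rel x (⟨Q₁, f₁⟩ : BrauerPairIdx G) ⟨Q₁, f₁⟩ →
      ∃ u ∈ P, ∀ q ∈ Q₁, x * q * x⁻¹ = u * q * u⁻¹) :
    IsNilpotentBlock p M B := by
  classical
  have hp := (Fact.out : p.Prime)
  refine ⟨hmax.1.2.1, fun Q f hQf x hxN hxS hreg => ?_⟩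
  obtain ⟨z, hz⟩ := bp_conj_max hM B P Q e f hmax hQf
  obtain ⟨a₁, ha₁⟩ : ∃ a₁ : BrauerPairIdx G,
      a₁ = ⟨Q.map (MulAut.conj z).toMonoidHom, conjBlock Q z f⟩ := ⟨_, rfl⟩
  have hrel : bc_rel z (⟨Q, f⟩ : BrauerPairIdx G) a₁ := by
    rw [ha₁]
    exact bc_rel_cj z ⟨Q, f⟩
  have hch : Relation.ReflTransGen (NormalSubpairRel p M) a₁ ⟨P, e⟩ := by
    rw [ha₁]
    exact hz
  clear ha₁
  have hxx : bc_rel x (⟨Q, f⟩ : BrauerPairIdx G) ⟨Q, f⟩ :=
    bc_stab_self x Q f hxN hxS (bp_stab_inv _ f x hxS)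
  obtain ⟨X, hX⟩ : ∃ X, X = z * (x * z⁻¹) := ⟨_, rfl⟩
  have hx₁ : bc_rel X a₁ a₁ := by
    rw [hX]
    exact bc_rel_mul (bc_rel_mul (bc_rel_inv hrel) hxx) hrel
  obtain ⟨Q₁, f₁⟩ := a₁
  have hs : bc_sub z Q Q₁ := hrel.1
  obtain ⟨h1N, -⟩ := bc_self_stab _ Q₁ f₁ hx₁
  obtain ⟨u, hu, huq⟩ := hctrl Q₁ f₁ _ hch hx₁
  have hpow : ∀ (k : ℕ), ∀ q ∈ Q₁, X ^ k * q * (X ^ k)⁻¹ = u ^ k * q * (u ^ k)⁻¹ := by
    intro k
    induction k with
    | zero =>
      intro q hq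
      simp
    | succ k ih =>
      intro q hq
      have hq' : X * q * X⁻¹ ∈ Q₁ := (Subgroup.mem_normalizer_iff.mp h1N q).mp hq
      have h1 := ih _ hq'
      rw [huq q hq] at h1
      calc X ^ (k + 1) * q * (X ^ (k + 1))⁻¹
          = X ^ k * (u * q * u⁻¹) * (X ^ k)⁻¹ := by
            rw [← huq q hq]
            simp only [pow_succ, mul_inv_rev, mul_assoc]
        _ = u ^ k * (u * q * u⁻¹) * (u ^ k)⁻¹ := h1
        _ = u ^ (k + 1) * q * (u ^ (k + 1))⁻¹ := by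
            simp only [pow_succ, mul_inv_rev, mul_assoc]
  have hord : orderOf X = orderOf x := by
    rw [hX]
    have h : orderOf ((MulAut.conj z).toMonoidHom x) = orderOf x :=
      orderOf_injective (MulAut.conj z).toMonoidHom (MulAut.conj z).injective x
    have e1 : (MulAut.conj z).toMonoidHom x = z * (x * z⁻¹) := by
      show z * x * z⁻¹ = _
      rw [mul_assoc]
    rw [e1] at h
    exact h
  have hun : u ^ Nat.card P = 1 := by
    have h : (⟨u, hu⟩ : ↥P) ^ Nat.card P = 1 := pow_card_eq_one'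
    have h2 : (((⟨u, hu⟩ : ↥P) ^ Nat.card P : ↥P) : G) = 1 := by
      rw [h]
      rfl
    rwa [Subgroup.coe_pow] at h2
  have hXn : X ^ Nat.card P ∈ Subgroup.centralizer (Q₁ : Set G) := by
    rw [Subgroup.mem_centralizer_iff]
    intro q hq
    have h := hpow (Nat.card P) q hq
    rw [hun] at h
    have h' : X ^ Nat.card P * q * (X ^ Nat.card P)⁻¹ = q := by simpa using h
    calc q * X ^ Nat.card P = (X ^ Nat.card P * q * (X ^ Nat.card P)⁻¹) * X ^ Nat.card P := by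
          rw [h']
      _ = X ^ Nat.card P * q := inv_mul_cancel_right _ _
  obtain ⟨k, hk⟩ := IsPGroup.iff_card.mp hmax.1.1.1
  have hcop : Nat.Coprime (Nat.card P) (orderOf X) := by
    rw [hk, hord]
    exact ((Nat.Prime.coprime_iff_not_dvd hp).mpr hreg).pow_left k
  have hb := Nat.gcd_eq_gcd_ab (Nat.card P) (orderOf X)
  rw [hcop.gcd_eq_one] at hb
  have hXC : X ∈ Subgroup.centralizer (Q₁ : Set G) := by
    have hx : X = (X ^ Nat.card P) ^ (Nat.gcdA (Nat.card P) (orderOf X)) := by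
      have h1 : X ^ ((Nat.card P : ℤ) * Nat.gcdA (Nat.card P) (orderOf X)
          + (orderOf X : ℤ) * Nat.gcdB (Nat.card P) (orderOf X)) = X := by
        rw [← hb]
        simp
      rw [zpow_add, zpow_mul, zpow_mul, zpow_natCast, zpow_natCast, pow_orderOf_eq_one,
        one_zpow, mul_one] at h1
      exact h1.symm
    rw [hx]
    exact Subgroup.zpow_mem _ hXn _
  have h6 := bc_cent' hs _ hXC
  have e1 : z⁻¹ * X * z = x := by
    rw [hX]
    group
  rw [e1] at h6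
  exact h6

set_option maxHeartbeats 800000 in
/-- a block is nilpotent iff its fusion system is the inner fusion system of the defect group. -/
theorem bp_nil_iff_inner {p : ℕ} [Fact p.Prime] {M : Ideal AlgInt} (hM : IsPModular p M)
    [hMp : M.IsPrime] (B : Set (IrrCharacter G)) (P : Subgroup G)
    (e : Set (IrrCharacter (Subgroup.centralizer (P : Set G))))
    (hmax : IsMaximalBrauerPair p M B P e) (F : FusionSystem P)
    (hF : IsBlockFusionSystemOn p M B P e F) :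
    IsNilpotentBlock p M B ↔ ∀ Q : Subgroup G, F.Hom Q = (innerFusionSystem P).Hom Q := by
  classical
  have hPe := hmax.1.1
  constructor
  · intro hnil Q
    ext φ
    rw [hF.2 Q φ]
    constructor
    · rintro ⟨hQP, g, hφ, hgP, f, hle, hle'⟩
      have hf : IsPBlock M f := (bp_chain_pair (⟨Q, f⟩ : BrauerPairIdx G) ⟨P, e⟩ hle hPe).2
      obtain ⟨u, hu, huq⟩ := bp_ctrl hM B P e hmax hnil _ Q f hQP le_rfl hf hle g _
        (bc_rel_cj g (⟨Q, f⟩ : BrauerPairIdx G)) hle'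
      exact ⟨hQP, u, hu, fun x => by rw [hφ x, huq x x.2]⟩
    · rintro ⟨hQP, g, hg, hφ⟩
      obtain ⟨f, hf, hle⟩ := bp_sub_exists hM P e hPe _ Q hQP le_rfl
      have hgg : bc_rel g (⟨P, e⟩ : BrauerPairIdx G) ⟨P, e⟩ :=
        bc_stab_self g P e (Subgroup.le_normalizer hg) (bp_self_stab P e g hg)
          (bp_self_stab P e g⁻¹ (inv_mem hg))
      have hle' := bc_chain g (⟨Q, f⟩ : BrauerPairIdx G) ⟨P, e⟩ hle _ _
        (bc_rel_cj g (⟨Q, f⟩ : BrauerPairIdx G)) hgg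
      exact ⟨hQP, g, hφ, pf_le _ _ hle', f, hle, hle'⟩
  · intro h
    refine bp_nil_of_ctrl hM B P e hmax (fun Q₁ f₁ x hle hx => ?_)
    have hQ₁P : Q₁ ≤ P := pf_le _ _ hle
    have hcj := bc_rel_unique (bc_rel_cj x (⟨Q₁, f₁⟩ : BrauerPairIdx G)) hx
    have hle' : SubpairLE p M (Q₁.map (MulAut.conj x).toMonoidHom) (conjBlock Q₁ x f₁) P e := by
      show Relation.ReflTransGen (NormalSubpairRel p M)
        (⟨Q₁.map (MulAut.conj x).toMonoidHom, conjBlock Q₁ x f₁⟩ : BrauerPairIdx G) ⟨P, e⟩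
      rw [hcj]
      exact hle
    have hmem : (conjHom Q₁ x) ∈ F.Hom Q₁ :=
      (hF.2 Q₁ _).mpr ⟨hQ₁P, x, fun u => rfl, pf_le _ _ hle', f₁, hle, hle'⟩
    rw [h Q₁] at hmem
    obtain ⟨-, g, hg, hφ⟩ := hmem
    exact ⟨g, hg, fun q hq => hφ ⟨q, hq⟩⟩

end Cfsg.Agent.Helper24
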