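import Mathlib
import Cfsg.Agent.Helper24.BP22

/-!
helper24: nilpotent blocks: the local blocks `f` of `C_G(Q)` are nilpotent with defect group
`C_P(Q)`.
-/

set_option autoImplicit false

namespace Cfsg.Agent.Helper24

open Cfsg Cfsg.Agent.Helper5 Cfsg.Agent.Helper22

universe u

variable {G : Type u} [Group G]

theorem bq_norm (Q : Subgroup G) (R' : Subgroup (Subgroup.centralizer (Q : Set G))) (y : (Subgroup.centralizer (Q : Set G)))
    (hy : y ∈ Subgroup.normalizer (R' : Set (Subgroup.centralizer (Q : Set G)))) :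
    (y : G) ∈ Subgroup.normalizer (bq_up Q R' : Set G) := by
  have key : ∀ y : (Subgroup.centralizer (Q : Set G)), y ∈ Subgroup.normalizer (R' : Set (Subgroup.centralizer (Q : Set G))) →
      ∀ g ∈ bq_up Q R', (y : G) * g * (y : G)⁻¹ ∈ bq_up Q R' := by
    intro y hy g hg
    obtain ⟨q, hq, h, hh, rfl⟩ := (bq_mem Q R' g).mp hg
    have h1 : y * h * y⁻¹ ∈ R' := (Subgroup.mem_normalizer_iff.mp hy h).mp hh
    have h2 : q * (y : G) = (y : G) * q := Subgroup.mem_centralizer_iff.mp y.2 q hq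
    refine (bq_mem Q R' _).mpr ⟨q, hq, y * h * y⁻¹, h1, ?_⟩
    show q * ((y : G) * (h : G) * (y : G)⁻¹) = (y : G) * (q * (h : G)) * (y : G)⁻¹
    calc q * ((y : G) * (h : G) * (y : G)⁻¹) = (q * (y : G)) * (h : G) * (y : G)⁻¹ := by group
      _ = ((y : G) * q) * (h : G) * (y : G)⁻¹ := by rw [h2]
      _ = (y : G) * (q * (h : G)) * (y : G)⁻¹ := by group
  rw [Subgroup.mem_normalizer_iff]
  intro g
  constructor
  · exact key y hy g
  · intro hg
    have h3 := key y⁻¹ (Subgroup.inv_mem _ hy) _ hg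
    have e1 : ((y⁻¹ : (Subgroup.centralizer (Q : Set G))) : G) * ((y : G) * g * (y : G)⁻¹) * ((y⁻¹ : (Subgroup.centralizer (Q : Set G))) : G)⁻¹ = g := by
      show (y : G)⁻¹ * ((y : G) * g * (y : G)⁻¹) * ((y : G)⁻¹)⁻¹ = g
      group
    rwa [e1] at h3

variable [Fintype G]

set_option maxHeartbeats 800000 in
/-- nilpotent block: `C_P(Q)` is a defect group of `f` for every subpair `(Q, f)` of `(P, e)`. -/
theorem bp_nil_cent_defect {p : ℕ} [Fact p.Prime] {M : Ideal AlgInt} (hM : IsPModular p M)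
    [hMp : M.IsPrime] (B : Set (IrrCharacter G)) (P : Subgroup G)
    (e : Set (IrrCharacter (Subgroup.centralizer (P : Set G))))
    (hmax : IsMaximalBrauerPair p M B P e) (hnil : IsNilpotentBlock p M B)
    (Q : Subgroup G) (f : Set (IrrCharacter (Subgroup.centralizer (Q : Set G)))) (hle : SubpairLE p M Q f P e) :
    IsDefectGroup p M f ((P ⊓ (Subgroup.centralizer (Q : Set G))).subgroupOf (Subgroup.centralizer (Q : Set G))) := by
  classical
  haveI : Fintype (Subgroup.centralizer (Q : Set G)) := Fintype.ofFinite _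
  have hPe := hmax.1.1
  have hQP : Q ≤ P := pf_le (⟨Q, f⟩ : BrauerPairIdx G) ⟨P, e⟩ hle
  have hf : IsPBlock M f := (bp_chain_pair (⟨Q, f⟩ : BrauerPairIdx G) ⟨P, e⟩ hle hPe).2
  have hcardE : ∀ Q' : Subgroup G,
      Nat.card ((P ⊓ Subgroup.centralizer (Q' : Set G)).subgroupOf
        (Subgroup.centralizer (Q' : Set G)))
        = Nat.card (P ⊓ Subgroup.centralizer (Q' : Set G) : Subgroup G) :=
    fun Q' => Nat.card_congr (Subgroup.subgroupOfEquivOfLe inf_le_right).toEquiv
  obtain ⟨x, hchain, hD₂⟩ := bp_cent_defect_conj hM B P Q e f hmax hQP hf hle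
  obtain ⟨u, hu, huq⟩ := bp_ctrl hM B P e hmax hnil _ Q f hQP le_rfl hf hle x _
    (bc_rel_cj x (⟨Q, f⟩ : BrauerPairIdx G)) hchain
  obtain ⟨b', hb'max, hEb'⟩ := bp_cent_defect_le hM B P Q e f hmax hQP hf hle
  have hD : IsDefectGroup p M f b'.1 := bp_max_defect hM f b'.1 b'.2 hb'max
  have h2 := bp_defect_card_conj hM Q f hf x b'.1 hD _ hD₂
  have hmap : (P ⊓ Subgroup.centralizer
      ((Q.map (MulAut.conj x).toMonoidHom : Subgroup G) : Set G)).map
        (MulAut.conj u⁻¹).toMonoidHom ≤ P ⊓ (Subgroup.centralizer (Q : Set G)) := by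
    intro y hy
    obtain ⟨w, hw, rfl⟩ := (pf_conj_mem _ u⁻¹ y).mp hy
    refine ⟨Subgroup.mul_mem _ (Subgroup.mul_mem _ (Subgroup.inv_mem _ hu) hw.1)
      (Subgroup.inv_mem _ (Subgroup.inv_mem _ hu)), ?_⟩
    show u⁻¹ * w * u⁻¹⁻¹ ∈ (Subgroup.centralizer (Q : Set G))
    rw [Subgroup.mem_centralizer_iff]
    intro q hq
    have h3 : x * q * x⁻¹ ∈ Q.map (MulAut.conj x).toMonoidHom :=
      (pf_conj_mem Q x _).mpr ⟨q, hq, rfl⟩
    have h4 := Subgroup.mem_centralizer_iff.mp hw.2 _ h3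
    rw [huq q hq] at h4
    calc q * (u⁻¹ * w * u⁻¹⁻¹) = u⁻¹ * (u * q * u⁻¹ * w) * u := by group
      _ = u⁻¹ * (w * (u * q * u⁻¹)) * u := by rw [h4]
      _ = u⁻¹ * w * u⁻¹⁻¹ * q := by group
  have h5 : Nat.card ((P ⊓ Subgroup.centralizer
      ((Q.map (MulAut.conj x).toMonoidHom : Subgroup G) : Set G)).map
        (MulAut.conj u⁻¹).toMonoidHom)
      = Nat.card (P ⊓ Subgroup.centralizer
      ((Q.map (MulAut.conj x).toMonoidHom : Subgroup G) : Set G) : Subgroup G) :=
    Subgroup.card_map_of_injective (MulAut.conj u⁻¹).injective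
  have h3 : Nat.card b'.1 ≤ Nat.card ((P ⊓ (Subgroup.centralizer (Q : Set G))).subgroupOf (Subgroup.centralizer (Q : Set G))) := by
    rw [← h2, hcardE, hcardE, ← h5]
    exact Subgroup.card_le_of_le hmap
  have heq := Subgroup.eq_of_le_of_card_ge hEb' h3
  rw [heq]
  exact hD

set_option maxHeartbeats 800000 in
/-- nilpotent block: every local block `f` is nilpotent, with defect group `C_P(Q)` for the
subpairs of `(P, e)`. -/
theorem bp_nil_local {p : ℕ} [Fact p.Prime] {M : Ideal AlgInt} (hM : IsPModular p M)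
    [hMp : M.IsPrime] (B : Set (IrrCharacter G)) (P : Subgroup G)
    (e : Set (IrrCharacter (Subgroup.centralizer (P : Set G))))
    (hmax : IsMaximalBrauerPair p M B P e) (hnil : IsNilpotentBlock p M B)
    (Q : Subgroup G) (f : Set (IrrCharacter (Subgroup.centralizer (Q : Set G)))) (hQf : IsBrauerPairOf p M B Q f) :
    IsNilpotentBlock p M f ∧
      (SubpairLE p M Q f P e → IsDefectGroup p M f ((P ⊓ (Subgroup.centralizer (Q : Set G))).subgroupOf (Subgroup.centralizer (Q : Set G)))) := by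
  refine ⟨⟨hQf.1.2, fun R' g' hpair y hyN hyS hyreg => ?_⟩,
    fun hle => bp_nil_cent_defect hM B P e hmax hnil Q f hle⟩
  have hN := bq_normal Q f hQf.1 R' g' hpair
  have hB' := (bp_of_normal hM (bq_up Q R') Q _ f hN B hQf.2.1).mpr hQf
  have ha := bq_norm Q R' y hyN
  have hb : StabilizesBlock (Subgroup.centralizer (bq_up Q R' : Set G))
      (fm_tr (bq_equiv Q R') g') (y : G) := by
    refine ⟨pf_norm_cent (bq_up Q R') (y : G) ha, fun ξ hξ => ?_⟩
    rw [fm_tr_mem'] at hξ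
    obtain ⟨χ₁, hχ₁, hc⟩ := hyS.2 _ hξ
    refine ⟨fm_pb (bq_equiv Q R').symm χ₁, ?_, ?_⟩
    · rw [fm_tr_mem', fm_pb_symm]
      exact hχ₁
    · intro k k' hkk
      show (χ₁ : Subgroup.centralizer (R' : Set (Subgroup.centralizer (Q : Set G))) → ℂ) ((bq_equiv Q R').symm k')
        = (ξ : Subgroup.centralizer (bq_up Q R' : Set G) → ℂ) k
      have h3 := hc ((bq_equiv Q R').symm k) ((bq_equiv Q R').symm k') (by
        apply Subtype.ext
        exact hkk)
      rw [h3]
      show (ξ : Subgroup.centralizer (bq_up Q R' : Set G) → ℂ)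
        (bq_equiv Q R' ((bq_equiv Q R').symm k)) = _
      rw [MulEquiv.apply_symm_apply]
  have hc : IsPRegular p (y : G) := by
    unfold IsPRegular at hyreg ⊢
    rwa [Subgroup.orderOf_coe]
  have hd := hnil.2 (bq_up Q R') _ hB' (y : G) ha hb hc
  rw [Subgroup.mem_centralizer_iff]
  intro h hh
  apply Subtype.ext
  exact Subgroup.mem_centralizer_iff.mp hd (h : G) (bq_right Q R' h hh)

end Cfsg.Agent.Helper24
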