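import Mathlib
import Cfsg.Agent.Helper24.BP23
import Cfsg.Agent.Helper24.DefCls

/-!
helper24: abelian defect groups: the local blocks `c^{C_G(Q)}` are nilpotent iff the inertial
quotient acts freely.
-/

set_option autoImplicit false

namespace Cfsg.Agent.Helper24

open Cfsg Cfsg.Agent.Helper5 Cfsg.Agent.Helper22

universe u

variable {G : Type u} [Group G]

/-- induction computed inside `H`, as induction in the group `H`. -/
theorem bh_icc (H K : Subgroup G) (K' : Subgroup H) (φ : K' ≃* K)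
    (hφ : ∀ k' : K', ((φ k' : K) : G) = ((k' : H) : G)) (ξ : K → ℂ) (h : H) :
    inducedCentralChar K' (fun k' => ξ (φ k')) h = inducedCentralCharIn H K ξ (h : G) := by
  unfold inducedCentralChar inducedCentralCharIn
  refine finsum_mem_eq_of_bijOn φ ⟨?_, φ.injective.injOn, ?_⟩ ?_
  · intro k' hk'
    have hk2 : IsConj h (k' : H) := hk'
    obtain ⟨x, hx⟩ := isConj_iff.mp hk2
    show ∃ y : H, (y : G) * ((φ k' : K) : G) * (y : G)⁻¹ = (h : G)
    refine ⟨x⁻¹, ?_⟩
    rw [hφ k', ← hx]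
    show (x : G)⁻¹ * ((x : G) * (h : G) * (x : G)⁻¹) * ((x : G)⁻¹)⁻¹ = (h : G)
    group
  · intro k hk
    obtain ⟨x, hx⟩ : ∃ y : H, (y : G) * (k : G) * (y : G)⁻¹ = (h : G) := hk
    refine ⟨φ.symm k, ?_, φ.apply_symm_apply k⟩
    show IsConj h ((φ.symm k : K') : H)
    rw [isConj_iff]
    refine ⟨x⁻¹, ?_⟩
    apply Subtype.ext
    have h1 : (((φ.symm k : K') : H) : G) = (k : G) := by rw [← hφ, φ.apply_symm_apply]
    show (x : G)⁻¹ * (h : G) * ((x : G)⁻¹)⁻¹ = (((φ.symm k : K') : H) : G)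
    rw [h1, ← hx]
    group
  · intro k' _
    show ξ (φ k') / ξ (φ 1) = ξ (φ k') / ξ 1
    rw [map_one]

theorem bh_ind_iff {M : Ideal AlgInt} (H K : Subgroup G) (K' : Subgroup H) (φ : K' ≃* K)
    (hφ : ∀ k' : K', ((φ k' : K) : G) = ((k' : H) : G))
    (c : Set (IrrCharacter K)) (f : Set (IrrCharacter H)) :
    IsInducedBlockIn M H K c f ↔ IsInducedBlock M K' (fm_tr φ.symm c) f := by
  constructor
  · rintro ⟨hc, hf, h⟩
    refine ⟨fm_tr_isPBlock _ c hc, hf, fun ξ' hξ' χ hχ x => ?_⟩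
    rw [fm_tr_mem'] at hξ'
    have h1 := h _ hξ' χ hχ x
    have e0 : (ξ' : K' → ℂ)
        = fun k' => ((fm_pb φ.symm ξ' : IrrCharacter K) : K → ℂ) (φ k') := by
      funext k'
      show (ξ' : K' → ℂ) k' = (ξ' : K' → ℂ) (φ.symm (φ k'))
      rw [φ.symm_apply_apply]
    have e1 : inducedCentralChar K' (ξ' : K' → ℂ) x
        = inducedCentralCharIn H K ((fm_pb φ.symm ξ' : IrrCharacter K) : K → ℂ) (x : G) := by
      rw [← bh_icc H K K' φ hφ, ← e0]
    rw [e1]
    exact h1
  · rintro ⟨hc', hf, h⟩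
    have hc : IsPBlock M c := by
      have h2 := fm_tr_isPBlock (M := M) φ _ hc'
      rwa [fm_tr_tr'] at h2
    refine ⟨hc, hf, fun ξ hξ χ hχ x => ?_⟩
    have hmem : fm_pb φ ξ ∈ fm_tr φ.symm c := by
      rw [fm_tr_mem', fm_pb_symm']
      exact hξ
    have h1 := h _ hmem χ hχ x
    have e1 : inducedCentralChar K' ((fm_pb φ ξ : IrrCharacter K') : K' → ℂ) x
        = inducedCentralCharIn H K (ξ : K → ℂ) (x : G) := bh_icc H K K' φ hφ _ x
    rw [← e1]
    exact h1

theorem bh_norm_iff (H P : Subgroup G) (hPH : P ≤ H) (x : H) :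
    x ∈ Subgroup.normalizer ((P.subgroupOf H : Subgroup H) : Set H)
      ↔ (x : G) ∈ Subgroup.normalizer (P : Set G) := by
  rw [Subgroup.mem_normalizer_iff, Subgroup.mem_normalizer_iff]
  constructor
  · intro h g
    constructor
    · intro hg
      have h1 := (h ⟨g, hPH hg⟩).mp (Subgroup.mem_subgroupOf.mpr hg)
      exact Subgroup.mem_subgroupOf.mp h1
    · intro hg
      have hgH : g ∈ H := by
        have h1 : (x : G)⁻¹ * ((x : G) * g * (x : G)⁻¹) * (x : G) ∈ H :=
          H.mul_mem (H.mul_mem (H.inv_mem x.2) (hPH hg)) x.2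
        have e : (x : G)⁻¹ * ((x : G) * g * (x : G)⁻¹) * (x : G) = g := by group
        rwa [e] at h1
      have h1 := (h ⟨g, hgH⟩).mpr (Subgroup.mem_subgroupOf.mpr hg)
      exact Subgroup.mem_subgroupOf.mp h1
  · intro h k
    rw [Subgroup.mem_subgroupOf, Subgroup.mem_subgroupOf]
    exact h (k : G)

theorem bh_cent_iff (H P : Subgroup G) (hPH : P ≤ H) (x : H) :
    x ∈ Subgroup.centralizer ((P.subgroupOf H : Subgroup H) : Set H)
      ↔ (x : G) ∈ Subgroup.centralizer (P : Set G) := by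
  rw [Subgroup.mem_centralizer_iff, Subgroup.mem_centralizer_iff]
  constructor
  · intro h g hg
    have h1 := h ⟨g, hPH hg⟩ (Subgroup.mem_subgroupOf.mpr hg)
    exact congrArg Subtype.val h1
  · intro h k hk
    apply Subtype.ext
    exact h (k : G) (Subgroup.mem_subgroupOf.mp hk)

variable [Fintype G]

theorem bh_stab_up (H : Subgroup G) (P' : Subgroup H) (P : Subgroup G) (hs : bh_sub H P' P)
    (hC : (Subgroup.centralizer (P : Set G)) ≤ H) (c : Set (IrrCharacter (Subgroup.centralizer (P : Set G)))) (x : H)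
    (hN : (x : G) ∈ Subgroup.normalizer (P : Set G))
    (h : StabilizesBlock (Subgroup.centralizer (P' : Set H))
      (fm_tr (bh_equiv H P' P hs hC).symm c) x) :
    StabilizesBlock (Subgroup.centralizer (P : Set G)) c (x : G) := by
  refine ⟨pf_norm_cent P (x : G) hN, fun χ hχ => ?_⟩
  have hmem : fm_pb (bh_equiv H P' P hs hC) χ ∈ fm_tr (bh_equiv H P' P hs hC).symm c := by
    rw [fm_tr_mem', fm_pb_symm']
    exact hχ
  obtain ⟨χ'', hχ'', hcc⟩ := h.2 _ hmem
  rw [fm_tr_mem'] at hχ''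
  refine ⟨_, hχ'', ?_⟩
  intro k k' hkk
  show (χ'' : Subgroup.centralizer (P' : Set H) → ℂ) ((bh_equiv H P' P hs hC).symm k')
    = (χ : (Subgroup.centralizer (P : Set G)) → ℂ) k
  have h3 := hcc ((bh_equiv H P' P hs hC).symm k) ((bh_equiv H P' P hs hC).symm k') (by
    apply Subtype.ext
    exact hkk)
  rw [h3]
  show (χ : (Subgroup.centralizer (P : Set G)) → ℂ) (bh_equiv H P' P hs hC ((bh_equiv H P' P hs hC).symm k)) = _
  rw [MulEquiv.apply_symm_apply]

theorem bh_stab_down (H : Subgroup G) (P' : Subgroup H) (P : Subgroup G) (hs : bh_sub H P' P)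
    (hC : (Subgroup.centralizer (P : Set G)) ≤ H) (c : Set (IrrCharacter (Subgroup.centralizer (P : Set G)))) (x : H)
    (hN' : x ∈ Subgroup.normalizer (P' : Set H))
    (h : StabilizesBlock (Subgroup.centralizer (P : Set G)) c (x : G)) :
    StabilizesBlock (Subgroup.centralizer (P' : Set H))
      (fm_tr (bh_equiv H P' P hs hC).symm c) x := by
  haveI : Fintype H := Fintype.ofFinite _
  refine ⟨pf_norm_cent P' x hN', fun χ' hχ' => ?_⟩
  rw [fm_tr_mem'] at hχ'
  obtain ⟨χ₂, hχ₂, hcc⟩ := h.2 _ hχ'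
  have hmem : fm_pb (bh_equiv H P' P hs hC) χ₂ ∈ fm_tr (bh_equiv H P' P hs hC).symm c := by
    rw [fm_tr_mem', fm_pb_symm']
    exact hχ₂
  refine ⟨_, hmem, ?_⟩
  intro k k' hkk
  show (χ₂ : (Subgroup.centralizer (P : Set G)) → ℂ) (bh_equiv H P' P hs hC k') = (χ' : Subgroup.centralizer (P' : Set H) → ℂ) k
  have h3 := hcc (bh_equiv H P' P hs hC k) (bh_equiv H P' P hs hC k')
    (congrArg Subtype.val hkk)
  rw [h3]
  show (χ' : Subgroup.centralizer (P' : Set H) → ℂ)
    ((bh_equiv H P' P hs hC).symm (bh_equiv H P' P hs hC k)) = _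
  rw [MulEquiv.symm_apply_apply]

/-- a block of `C_G(Q)` inducing `B` gives a Brauer pair of `B`. -/
theorem bp_of_induced {p : ℕ} [Fact p.Prime] {M : Ideal AlgInt} (hM : IsPModular p M)
    [hMp : M.IsPrime] (Q : Subgroup G) (hQ : IsPGroup p Q)
    (c : Set (IrrCharacter (Subgroup.centralizer (Q : Set G)))) (B : Set (IrrCharacter G))
    (hind : IsInducedBlock M (Subgroup.centralizer (Q : Set G)) c B) : IsBrauerPairOf p M B Q c := by
  classical
  haveI : Fintype (Subgroup.centralizer (Q : Set G)) := Fintype.ofFinite _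
  refine ⟨⟨hQ, hind.1⟩, hind.2.1, fun ξ hξ => ?_⟩
  obtain ⟨χ₀, hχ₀⟩ := hind.2.1
  obtain ⟨ξ₀, hξ₀⟩ := hind.1
  obtain ⟨χ₁, hbr, hind₁⟩ := centralizer_induced hM Q hQ ξ
  have hcξ : blockOf M (ξ : (Subgroup.centralizer (Q : Set G)) → ℂ) = c := by
    rw [hξ₀] at hξ ⊢
    exact (blockOf_eq_of_sameBlock hξ).symm
  rw [hcξ] at hind₁
  have hB1 : blockOf M (χ₁ : G → ℂ) = B := dc_uniq M _ c _ _ hind₁ hind
  have hχ₁ : χ₁ ∈ blockOf M (χ₀ : G → ℂ) := by
    rw [← hχ₀, ← hB1]
    exact sameBlock_refl _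
  obtain ⟨cc, hcc⟩ : ∃ cc : IrrCharacter G → ℂ,
      cc = fun ψ => if ψ ∈ blockOf M (χ₀ : G → ℂ) then (1 : ℂ) else 0 := ⟨_, rfl⟩
  have hc1 : ∀ ψ ∈ blockOf M (χ₀ : G → ℂ), cc ψ = 1 := fun ψ h => by
    rw [hcc]
    exact if_pos h
  have hc0 : ∀ ψ, ψ ∉ blockOf M (χ₀ : G → ℂ) → cc ψ = 0 := fun ψ h => by
    rw [hcc]
    exact if_neg h
  have hY := brauerOmega_congr hM Q ξ χ₁ hbr χ₀ cc hc1 hc0
  rw [hc1 χ₁ hχ₁] at hY
  rw [hχ₀]
  exact hY

set_option maxHeartbeats 800000 in
/-- abelian defect group `P`, `Q ≤ P`: the block `f` of `C_G(Q)` induced by `c` is nilpotent iff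
the stabilizer of `c` in `N_G(P) ∩ C_G(Q)` is `C_G(P)`. -/
theorem bp_abel_local {p : ℕ} [Fact p.Prime] {M : Ideal AlgInt} (hM : IsPModular p M)
    [hMp : M.IsPrime] (B : Set (IrrCharacter G)) (P : Subgroup G)
    (c : Set (IrrCharacter (Subgroup.centralizer (P : Set G)))) (hmax : IsMaximalBrauerPair p M B P c)
    (hab : ∀ x ∈ P, ∀ y ∈ P, x * y = y * x) (Q : Subgroup G) (hQP : Q ≤ P)
    (f : Set (IrrCharacter (Subgroup.centralizer (Q : Set G)))) (hf : IsInducedBlockIn M (Subgroup.centralizer (Q : Set G)) (Subgroup.centralizer (P : Set G)) c f) :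
    IsNilpotentBlock p M f ↔ ∀ x : G, x ∈ (Subgroup.centralizer (Q : Set G)) → x ∈ Subgroup.normalizer (P : Set G) →
      StabilizesBlock (Subgroup.centralizer (P : Set G)) c x → x ∈ (Subgroup.centralizer (P : Set G)) := by
  classical
  haveI : Fintype (Subgroup.centralizer (Q : Set G)) := Fintype.ofFinite _
  have hPH : P ≤ (Subgroup.centralizer (Q : Set G)) := by
    intro u hu
    rw [Subgroup.mem_centralizer_iff]
    intro q hq
    exact hab q (hQP hq) u hu
  have hCH : (Subgroup.centralizer (P : Set G)) ≤ (Subgroup.centralizer (Q : Set G)) := Subgroup.centralizer_le hQP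
  have hind' := (bh_ind_iff (M := M) (Subgroup.centralizer (Q : Set G)) (Subgroup.centralizer (P : Set G)) (Subgroup.centralizer ((P.subgroupOf (Subgroup.centralizer (Q : Set G))) : Set (Subgroup.centralizer (Q : Set G)))) (bh_equiv (Subgroup.centralizer (Q : Set G)) (P.subgroupOf (Subgroup.centralizer (Q : Set G))) P (bh_sub_of (Subgroup.centralizer (Q : Set G)) P hPH) hCH)
    (fun _ => rfl) c f).mp hf
  have hP' : IsPGroup p (P.subgroupOf (Subgroup.centralizer (Q : Set G))) := hmax.1.1.1.comap_subtype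
  have hpair' : IsBrauerPairOf p M f (P.subgroupOf (Subgroup.centralizer (Q : Set G))) (fm_tr (bh_equiv (Subgroup.centralizer (Q : Set G)) (P.subgroupOf (Subgroup.centralizer (Q : Set G))) P (bh_sub_of (Subgroup.centralizer (Q : Set G)) P hPH) hCH).symm c) := bp_of_induced hM (P.subgroupOf (Subgroup.centralizer (Q : Set G))) hP' _ f hind'
  have hrel : bh_rel (Subgroup.centralizer (Q : Set G)) (⟨(P.subgroupOf (Subgroup.centralizer (Q : Set G))), fm_tr (bh_equiv (Subgroup.centralizer (Q : Set G)) (P.subgroupOf (Subgroup.centralizer (Q : Set G))) P (bh_sub_of (Subgroup.centralizer (Q : Set G)) P hPH) hCH).symm c⟩ : BrauerPairIdx (Subgroup.centralizer (Q : Set G)))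
      (⟨P, c⟩ : BrauerPairIdx G) := bh_down (Subgroup.centralizer (Q : Set G)) ⟨P, c⟩ hPH hCH
  have hmax' : IsMaximalBrauerPair p M f (P.subgroupOf (Subgroup.centralizer (Q : Set G))) (fm_tr (bh_equiv (Subgroup.centralizer (Q : Set G)) (P.subgroupOf (Subgroup.centralizer (Q : Set G))) P (bh_sub_of (Subgroup.centralizer (Q : Set G)) P hPH) hCH).symm c) :=
    bh_max hM (Subgroup.centralizer (Q : Set G)) B f _ _ hrel hmax hpair'
  have hab' : ∀ x ∈ (P.subgroupOf (Subgroup.centralizer (Q : Set G))), ∀ y ∈ (P.subgroupOf (Subgroup.centralizer (Q : Set G))), x * y = y * x := fun x hx y hy =>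
    Subtype.ext (hab _ (Subgroup.mem_subgroupOf.mp hx) _ (Subgroup.mem_subgroupOf.mp hy))
  rw [bp_abel_nil hM f (P.subgroupOf (Subgroup.centralizer (Q : Set G))) (fm_tr (bh_equiv (Subgroup.centralizer (Q : Set G)) (P.subgroupOf (Subgroup.centralizer (Q : Set G))) P (bh_sub_of (Subgroup.centralizer (Q : Set G)) P hPH) hCH).symm c) hmax' hab']
  constructor
  · intro h x hxH hxN hxS
    have hN' := (bh_norm_iff (Subgroup.centralizer (Q : Set G)) P hPH ⟨x, hxH⟩).mpr hxN
    have h1 := h ⟨x, hxH⟩ hN'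
      (bh_stab_down (Subgroup.centralizer (Q : Set G)) (P.subgroupOf (Subgroup.centralizer (Q : Set G))) P (bh_sub_of (Subgroup.centralizer (Q : Set G)) P hPH) hCH c ⟨x, hxH⟩ hN' hxS)
    exact (bh_cent_iff (Subgroup.centralizer (Q : Set G)) P hPH ⟨x, hxH⟩).mp h1
  · intro h x hxN hxS
    have hN := (bh_norm_iff (Subgroup.centralizer (Q : Set G)) P hPH x).mp hxN
    have h1 := h (x : G) x.2 hN
      (bh_stab_up (Subgroup.centralizer (Q : Set G)) (P.subgroupOf (Subgroup.centralizer (Q : Set G))) P (bh_sub_of (Subgroup.centralizer (Q : Set G)) P hPH) hCH c x hN hxS)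
    exact (bh_cent_iff (Subgroup.centralizer (Q : Set G)) P hPH x).mpr h1

theorem bp_abel_ind_exists {p : ℕ} [Fact p.Prime] {M : Ideal AlgInt} (hM : IsPModular p M)
    [hMp : M.IsPrime] (P : Subgroup G) (hP : IsPGroup p P)
    (hab : ∀ x ∈ P, ∀ y ∈ P, x * y = y * x)
    (c : Set (IrrCharacter (Subgroup.centralizer (P : Set G)))) (hc : IsPBlock M c) (Q : Subgroup G) (hQP : Q ≤ P) :
    ∃ f : Set (IrrCharacter (Subgroup.centralizer (Q : Set G))), IsInducedBlockIn M (Subgroup.centralizer (Q : Set G)) (Subgroup.centralizer (P : Set G)) c f := by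
  classical
  haveI : Fintype (Subgroup.centralizer (Q : Set G)) := Fintype.ofFinite _
  have hPH : P ≤ (Subgroup.centralizer (Q : Set G)) := by
    intro u hu
    rw [Subgroup.mem_centralizer_iff]
    intro q hq
    exact hab q (hQP hq) u hu
  have hCH : (Subgroup.centralizer (P : Set G)) ≤ (Subgroup.centralizer (Q : Set G)) := Subgroup.centralizer_le hQP
  have hP' : IsPGroup p (P.subgroupOf (Subgroup.centralizer (Q : Set G))) := hP.comap_subtype
  haveI : Fintype (Subgroup.centralizer ((P.subgroupOf (Subgroup.centralizer (Q : Set G))) : Set (Subgroup.centralizer (Q : Set G)))) := Fintype.ofFinite _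
  obtain ⟨ξ₀, hξ₀⟩ := fm_tr_isPBlock (M := M) (bh_equiv (Subgroup.centralizer (Q : Set G)) (P.subgroupOf (Subgroup.centralizer (Q : Set G))) P (bh_sub_of (Subgroup.centralizer (Q : Set G)) P hPH) hCH).symm c hc
  obtain ⟨χ₁, -, hind⟩ := centralizer_induced hM (P.subgroupOf (Subgroup.centralizer (Q : Set G))) hP' ξ₀
  rw [← hξ₀] at hind
  exact ⟨_, (bh_ind_iff (M := M) (Subgroup.centralizer (Q : Set G)) (Subgroup.centralizer (P : Set G)) (Subgroup.centralizer ((P.subgroupOf (Subgroup.centralizer (Q : Set G))) : Set (Subgroup.centralizer (Q : Set G)))) (bh_equiv (Subgroup.centralizer (Q : Set G)) (P.subgroupOf (Subgroup.centralizer (Q : Set G))) P (bh_sub_of (Subgroup.centralizer (Q : Set G)) P hPH) hCH)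
    (fun _ => rfl) c _).mpr hind⟩

set_option maxHeartbeats 800000 in
/-- abelian defect group: the inertial quotient acts freely on `P \ 1` iff all the local blocks
at nontrivial subgroups are nilpotent. -/
theorem bp_abel_free {p : ℕ} [Fact p.Prime] {M : Ideal AlgInt} (hM : IsPModular p M)
    [hMp : M.IsPrime] (B : Set (IrrCharacter G)) (P : Subgroup G)
    (hPD : IsDefectGroup p M B P) (hPab : ∀ x ∈ P, ∀ y ∈ P, x * y = y * x)
    (c : Set (IrrCharacter (Subgroup.centralizer (P : Set G)))) (hc : IsInducedBlock M (Subgroup.centralizer (P : Set G)) c B) (T : Subgroup G)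
    (hT : ∀ g : G, g ∈ T ↔ (g ∈ Subgroup.normalizer (P : Set G) ∧ StabilizesBlock (Subgroup.centralizer (P : Set G)) c g)) :
    (∀ g ∈ T, ∀ x ∈ P, x ≠ 1 → g * x * g⁻¹ = x → g ∈ (Subgroup.centralizer (P : Set G))) ↔
      ∀ Q : Subgroup G, Q ≤ P → Q ≠ ⊥ → ∀ f : Set (IrrCharacter (Subgroup.centralizer (Q : Set G))),
        IsInducedBlockIn M (Subgroup.centralizer (Q : Set G)) (Subgroup.centralizer (P : Set G)) c f → IsNilpotentBlock p M f := by
  classical
  have hP : IsPGroup p P := by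
    obtain ⟨g₀, -, S₀, hS₀⟩ := hPD
    rw [hS₀]
    exact S₀.isPGroup'.map _
  have hpair : IsBrauerPairOf p M B P c := bp_of_induced hM P hP c B hc
  have hmax := bp_defect_max hM B P c hpair hPD
  constructor
  · intro hfree Q hQP hQ1 f hf
    rw [bp_abel_local hM B P c hmax hPab Q hQP f hf]
    intro x hxH hxN hxS
    obtain ⟨y, hy, hy1⟩ : ∃ y ∈ Q, y ≠ 1 := by
      by_contra hcon
      apply hQ1
      rw [Subgroup.eq_bot_iff_forall]
      intro y hy
      by_contra hy1
      exact hcon ⟨y, hy, hy1⟩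
    have hxy : x * y * x⁻¹ = y := by
      have h1 := Subgroup.mem_centralizer_iff.mp hxH y hy
      rw [← h1]
      group
    exact hfree x ((hT x).mpr ⟨hxN, hxS⟩) y (hQP hy) hy1 hxy
  · intro hnil g hgT x hxP hx1 hgx
    obtain ⟨hgN, hgS⟩ := (hT g).mp hgT
    have hQP : Subgroup.zpowers x ≤ P := (Subgroup.zpowers_le).mpr hxP
    have hQ1 : Subgroup.zpowers x ≠ ⊥ := by
      rw [Ne, Subgroup.zpowers_eq_bot]
      exact hx1
    obtain ⟨f, hf⟩ := bp_abel_ind_exists hM P hP hPab c hc.1 (Subgroup.zpowers x) hQP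
    have h1 := (bp_abel_local hM B P c hmax hPab _ hQP f hf).mp (hnil _ hQP hQ1 f hf)
    refine h1 g ?_ hgN hgS
    rw [Subgroup.mem_centralizer_iff]
    intro y hy
    obtain ⟨k, rfl⟩ := Subgroup.mem_zpowers_iff.mp hy
    have hcm : Commute g x := by
      have h2 : g * x = x * g := by
        calc g * x = g * x * g⁻¹ * g := by group
          _ = x * g := by rw [hgx]
      exact h2
    exact ((hcm.zpow_right k).eq).symm

end Cfsg.Agent.Helper24
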