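import Mathlib
import Cfsg.Agent.Helper24.BP24

/-!
helper24: fully normalized subpairs: conjugation into `N_P(Q)` inside the stabilizer, and the
Sylow property of `N_P(Q) C_G(Q)` in the stabilizer.
-/

set_option autoImplicit false

namespace Cfsg.Agent.Helper24

open Cfsg Cfsg.Agent.Helper5 Cfsg.Agent.Helper22

universe u

variable {G : Type u} [Group G] [Fintype G]

/-- a pair normal above `(Q, f)` inside a subgroup `S ⊇ C_G(Q)` gives a Brauer pair of the block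
of `S` with the idempotent of `f`. -/
theorem bp_sub_pair {p : ℕ} {M : Ideal AlgInt} (Q : Subgroup G) (f : Set (IrrCharacter (Subgroup.centralizer (Q : Set G))))
    (S : Subgroup G) (hCS : (Subgroup.centralizer (Q : Set G)) ≤ S)
    (FS : Set (IrrCharacter S)) (hFS : IsPBlock M FS)
    (hco : ∀ t : S, blockCoeff FS t = subgroupBlockCoeff (Subgroup.centralizer (Q : Set G)) f (t : G))
    (R : Subgroup G) (g : Set (IrrCharacter (Subgroup.centralizer (R : Set G))))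
    (hN : IsNormalSubpair p M Q f R g) (hRS : R ≤ S) :
    ∃ a' : BrauerPairIdx S, bh_rel S a' ⟨R, g⟩ ∧ a'.1 = R.subgroupOf S ∧
      IsBrauerPairOf p M FS a'.1 a'.2 := by
  classical
  have hCR : Subgroup.centralizer (R : Set G) ≤ S :=
    le_trans (Subgroup.centralizer_le hN.2.2.1) hCS
  obtain ⟨a', ha', ha'1⟩ : ∃ a' : BrauerPairIdx S, bh_rel S a' ⟨R, g⟩ ∧ a'.1 = R.subgroupOf S :=
    ⟨_, bh_down S (⟨R, g⟩ : BrauerPairIdx G) hRS hCR, rfl⟩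
  have hbr : ∀ ξ ∈ g, MemLocalIdeal M (brauerOmega R (subgroupBlockCoeff S FS)
      (ξ : Subgroup.centralizer (R : Set G) → ℂ) - 1) := by
    intro ξ hξ
    have h3 := hN.2.2.2.2.2 ξ hξ
    have e1 : brauerOmega R (subgroupBlockCoeff S FS) (ξ : Subgroup.centralizer (R : Set G) → ℂ)
        = brauerOmega R (subgroupBlockCoeff (Subgroup.centralizer (Q : Set G)) f)
          (ξ : Subgroup.centralizer (R : Set G) → ℂ) := by
      unfold brauerOmega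
      refine finsum_congr fun x => ?_
      congr 2
      have hxT : (x : G) ∈ S := hCR x.2
      have h4 : subgroupBlockCoeff S FS (x : G) = blockCoeff FS ⟨(x : G), hxT⟩ := by
        unfold subgroupBlockCoeff
        rw [dif_pos hxT]
      rw [h4]
      exact hco _
    rw [e1]
    exact h3
  exact ⟨a', ha', ha'1, bh_pairOf S FS hFS a' ⟨R, g⟩ ha' hN.2.1 hbr⟩

set_option maxHeartbeats 800000 in
/-- a stable block of a normal subgroup `K` of `p`-power index in `H`: existence of the block of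
`H` with the same idempotent. -/
theorem bp_stable_exists {p : ℕ} [Fact p.Prime] {M : Ideal AlgInt} (hM : IsPModular p M)
    [hMp : M.IsPrime] (K H : Subgroup G) (hKH : K ≤ H)
    (hHN : H ≤ Subgroup.normalizer (K : Set G)) (f : Set (IrrCharacter K)) (hf : IsPBlock M f)
    (hst : ∀ x ∈ H, StabilizesBlock K f x) (hidx : ∃ j : ℕ, (K.subgroupOf H).index = p ^ j) :
    ∃ χ₁ : IrrCharacter H,
      ∀ h : H, blockCoeff (blockOf M (χ₁ : H → ℂ)) h = subgroupBlockCoeff K f (h : G) := by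
  classical
  haveI hnorm : (K.subgroupOf H).Normal := Subgroup.normal_subgroupOf_of_le_normalizer hHN
  haveI : Fintype H := Fintype.ofFinite _
  haveI : Fintype K := Fintype.ofFinite _
  haveI : Fintype (K.subgroupOf H) := Fintype.ofFinite _
  obtain ⟨φ, hφ⟩ : ∃ φ : ↥(K.subgroupOf H) ≃* ↥K, φ = Subgroup.subgroupOfEquivOfLe hKH :=
    ⟨_, rfl⟩
  have hφv : ∀ c : K.subgroupOf H, ((φ c : K) : G) = ((c : H) : G) := by
    intro c
    rw [hφ]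
    rfl
  obtain ⟨c, hcdef⟩ : ∃ c : Set (IrrCharacter (K.subgroupOf H)), c = fm_tr φ.symm f := ⟨_, rfl⟩
  have hcblk : IsPBlock M c := by
    rw [hcdef]
    exact fm_tr_isPBlock _ f hf
  have hccoef : ∀ k : K.subgroupOf H, blockCoeff c k = blockCoeff f (φ k) := by
    intro k
    have h3 := fm_tr_coeff φ.symm f (φ k)
    rw [φ.symm_apply_apply] at h3
    rw [hcdef]
    exact h3
  have hcst : ∀ x : H, StabilizesBlock (K.subgroupOf H) c x := by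
    intro x
    refine ⟨(Subgroup.le_normalizer_of_normal : (⊤ : Subgroup H) ≤ _) (Subgroup.mem_top x),
      fun χ hχ => ?_⟩
    rw [hcdef, fm_tr_mem'] at hχ
    obtain ⟨θ', hθ', hc⟩ := (hst x x.2).2 _ hχ
    refine ⟨fm_pb φ θ', ?_, ?_⟩
    · rw [hcdef, fm_tr_mem', fm_pb_symm']
      exact hθ'
    · intro k k' hkk
      show (θ' : K → ℂ) (φ k') = (χ : K.subgroupOf H → ℂ) k
      have h3 := hc (φ k) (φ k') (by
        rw [hφv, hφv, hkk]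
        rfl)
      rw [h3]
      show (χ : K.subgroupOf H → ℂ) (φ.symm (φ k)) = _
      rw [φ.symm_apply_apply]
  obtain ⟨θ₀, hθ₀⟩ := hcblk
  have hcst' : ∀ x : H, StabilizesBlock (K.subgroupOf H)
      (blockOf M (θ₀ : K.subgroupOf H → ℂ)) x := by
    rw [← hθ₀]
    exact hcst
  obtain ⟨⟨χ₁, h1⟩, -⟩ := stable_block_main (K.subgroupOf H) hM hidx θ₀ hcst'
  refine ⟨χ₁, fun g => ?_⟩
  rw [h1 g, ← hθ₀]
  symm
  unfold subgroupBlockCoeff
  by_cases hg : (g : G) ∈ K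
  · rw [dif_pos hg, dif_pos (Subgroup.mem_subgroupOf.mpr hg), hccoef]
    have e4 : φ ⟨g, Subgroup.mem_subgroupOf.mpr hg⟩ = (⟨(g : G), hg⟩ : K) :=
      Subtype.ext (hφv _)
    rw [e4]
  · rw [dif_neg hg, dif_neg (fun h => hg (Subgroup.mem_subgroupOf.mp h))]

set_option maxHeartbeats 1600000 in
/-- fully normalized `(Q₀, f₀)`: every pair normal above `(Q₀, f₀)` is conjugate, by an element of
the stabilizer, below the pair on `N_P(Q₀)`. -/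
theorem bp_fn_conj {p : ℕ} [Fact p.Prime] {M : Ideal AlgInt} (hM : IsPModular p M)
    [hMp : M.IsPrime] (P : Subgroup G)
    (e : Set (IrrCharacter (Subgroup.centralizer (P : Set G)))) (hPe : IsBrauerPair p M P e)
    (Q₀ : Subgroup G) (f₀ : Set (IrrCharacter (Subgroup.centralizer (Q₀ : Set G))))
    (hQ₀P : Q₀ ≤ P) (hf₀ : IsPBlock M f₀) (hle₀ : SubpairLE p M Q₀ f₀ P e)
    (χ₀ : IrrCharacter (bp_stabSub Q₀ f₀))
    (hco₀ : ∀ t : bp_stabSub Q₀ f₀, blockCoeff (blockOf M (χ₀ : bp_stabSub Q₀ f₀ → ℂ)) t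
      = subgroupBlockCoeff (Subgroup.centralizer (Q₀ : Set G)) f₀ (t : G))
    (hfn : IsDefectGroup p M (blockOf M (χ₀ : bp_stabSub Q₀ f₀ → ℂ))
      ((P ⊓ Subgroup.normalizer (Q₀ : Set G)).subgroupOf (bp_stabSub Q₀ f₀)))
    (R₃ : Subgroup G) (g₃ : Set (IrrCharacter (Subgroup.centralizer (R₃ : Set G))))
    (hN₃' : IsNormalSubpair p M Q₀ f₀ R₃ g₃) :
    ∃ (t : bp_stabSub Q₀ f₀) (a₄ : BrauerPairIdx G)
      (g₂ : Set (IrrCharacter (Subgroup.centralizer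
        ((P ⊓ Subgroup.normalizer (Q₀ : Set G) : Subgroup G) : Set G)))),
      bc_rel (t : G) (⟨R₃, g₃⟩ : BrauerPairIdx G) a₄ ∧
      Relation.ReflTransGen (NormalSubpairRel p M) a₄
        ⟨P ⊓ Subgroup.normalizer (Q₀ : Set G), g₂⟩ ∧
      Relation.ReflTransGen (NormalSubpairRel p M)
        (⟨P ⊓ Subgroup.normalizer (Q₀ : Set G), g₂⟩ : BrauerPairIdx G) ⟨P, e⟩ ∧
      IsNormalSubpair p M Q₀ f₀ (P ⊓ Subgroup.normalizer (Q₀ : Set G)) g₂ := by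
  classical
  have hCT₀ : Subgroup.centralizer (Q₀ : Set G) ≤ bp_stabSub Q₀ f₀ := fun c hc =>
    ⟨Subgroup.centralizer_le_normalizer _ hc, bp_cent_stab Q₀ f₀ c hc⟩
  haveI : Fintype (bp_stabSub Q₀ f₀) := Fintype.ofFinite _
  obtain ⟨a₃', ha₃', -, hp₃'⟩ := bp_stab_pair Q₀ f₀ (bp_stabSub Q₀ f₀) (fun y => Iff.rfl)
    (blockOf M (χ₀ : bp_stabSub Q₀ f₀ → ℂ)) ⟨χ₀, rfl⟩ hco₀ R₃ g₃ hN₃'
  obtain ⟨g₂, hN₂, hg₂P⟩ := bp_normP_pair hM P Q₀ e f₀ hPe hQ₀P hf₀ hle₀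
  obtain ⟨a₂', ha₂', ha₂'1, hp₂'⟩ := bp_stab_pair Q₀ f₀ (bp_stabSub Q₀ f₀) (fun y => Iff.rfl)
    (blockOf M (χ₀ : bp_stabSub Q₀ f₀ → ℂ)) ⟨χ₀, rfl⟩ hco₀ _ g₂ hN₂
  have hfn' : IsDefectGroup p M (blockOf M (χ₀ : bp_stabSub Q₀ f₀ → ℂ)) a₂'.1 := by
    rw [ha₂'1]
    exact hfn
  have hm₂' : IsMaximalBrauerPair p M (blockOf M (χ₀ : bp_stabSub Q₀ f₀ → ℂ)) a₂'.1 a₂'.2 :=
    bp_defect_max hM _ a₂'.1 a₂'.2 hp₂' hfn'
  obtain ⟨t, ht⟩ := bp_conj_max hM (blockOf M (χ₀ : bp_stabSub Q₀ f₀ → ℂ)) a₂'.1 a₃'.1 a₂'.2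
    a₃'.2 hm₂' hp₃'
  obtain ⟨a₄', ha₄'⟩ : ∃ a₄' : BrauerPairIdx (bp_stabSub Q₀ f₀),
      a₄' = ⟨a₃'.1.map (MulAut.conj t).toMonoidHom, conjBlock a₃'.1 t a₃'.2⟩ := ⟨_, rfl⟩
  have hrel₄ : bc_rel t a₃' a₄' := by
    rw [ha₄']
    exact bc_rel_cj t a₃'
  have hch₄ : Relation.ReflTransGen (NormalSubpairRel p M) a₄' a₂' := by
    rw [ha₄']
    exact ht
  clear ha₄'
  obtain ⟨hs₃, -, -⟩ := id ha₃'
  have hs₃' : bh_sub (bp_stabSub Q₀ f₀) a₃'.1 R₃ := hs₃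
  have hC₄ : Subgroup.centralizer
      ((a₄'.1.map (bp_stabSub Q₀ f₀).subtype : Subgroup G) : Set G) ≤ bp_stabSub Q₀ f₀ := by
    refine le_trans (Subgroup.centralizer_le ?_) hCT₀
    intro q hq
    have hq' : (t : G)⁻¹ * q * (t : G) ∈ Q₀ := bp_norm_inv Q₀ (t : G) t.2.1 q hq
    obtain ⟨h, hh, hhe⟩ := (hs₃' _).mp (hN₃'.2.2.1 hq')
    refine Subgroup.mem_map.mpr ⟨t * h * t⁻¹, (hrel₄.1 _).mpr ⟨h, hh, rfl⟩, ?_⟩
    show (t : G) * (h : G) * (t : G)⁻¹ = q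
    rw [hhe]
    group
  obtain ⟨a₄, ha₄⟩ : ∃ a₄ : BrauerPairIdx G, bh_rel (bp_stabSub Q₀ f₀) a₄' a₄ :=
    ⟨_, bh_up (bp_stabSub Q₀ f₀) a₄' hC₄⟩
  have hG₄ : bc_rel (t : G) (⟨R₃, g₃⟩ : BrauerPairIdx G) a₄ :=
    bh_conj (bp_stabSub Q₀ f₀) t a₃' a₄' ⟨R₃, g₃⟩ a₄ hrel₄ ha₃' ha₄
  obtain ⟨b, hb, hab⟩ := bh_chain_up (bp_stabSub Q₀ f₀) a₄' a₄ ha₄ a₂' hch₄
  have hb2 := bh_rel_unique hb ha₂'
  rw [hb2] at hab
  exact ⟨t, a₄, g₂, hG₄, hab, hg₂P, hN₂⟩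

set_option maxHeartbeats 1600000 in
/-- fully normalized `(Q₀, f₀)`: `C_G(Q₀) N_P(Q₀)` has index prime to `p` in the stabilizer. -/
theorem bp_fn_sylow {p : ℕ} [Fact p.Prime] {M : Ideal AlgInt} (hM : IsPModular p M)
    [hMp : M.IsPrime] (P : Subgroup G)
    (e : Set (IrrCharacter (Subgroup.centralizer (P : Set G)))) (hPe : IsBrauerPair p M P e)
    (Q₀ : Subgroup G) (f₀ : Set (IrrCharacter (Subgroup.centralizer (Q₀ : Set G))))
    (hQ₀P : Q₀ ≤ P) (hf₀ : IsPBlock M f₀) (hle₀ : SubpairLE p M Q₀ f₀ P e)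
    (χ₀ : IrrCharacter (bp_stabSub Q₀ f₀))
    (hco₀ : ∀ t : bp_stabSub Q₀ f₀, blockCoeff (blockOf M (χ₀ : bp_stabSub Q₀ f₀ → ℂ)) t
      = subgroupBlockCoeff (Subgroup.centralizer (Q₀ : Set G)) f₀ (t : G))
    (hfn : IsDefectGroup p M (blockOf M (χ₀ : bp_stabSub Q₀ f₀ → ℂ))
      ((P ⊓ Subgroup.normalizer (Q₀ : Set G)).subgroupOf (bp_stabSub Q₀ f₀))) :
    ¬ p ∣ ((Subgroup.centralizer (Q₀ : Set G)).subgroupOf (bp_stabSub Q₀ f₀) ⊔
        (P ⊓ Subgroup.normalizer (Q₀ : Set G)).subgroupOf (bp_stabSub Q₀ f₀)).index := by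
  classical
  have hp := (Fact.out : p.Prime)
  have hQ₀ : IsPGroup p Q₀ := hPe.1.to_le hQ₀P
  have hCT₀ : Subgroup.centralizer (Q₀ : Set G) ≤ bp_stabSub Q₀ f₀ := fun c hc =>
    ⟨Subgroup.centralizer_le_normalizer _ hc, bp_cent_stab Q₀ f₀ c hc⟩
  have hTN : bp_stabSub Q₀ f₀ ≤ Subgroup.normalizer
      ((Subgroup.centralizer (Q₀ : Set G) : Subgroup G) : Set G) :=
    fun t ht => pf_norm_cent Q₀ t ht.1
  have hQ₀T : Q₀ ≤ bp_stabSub Q₀ f₀ := fun q hq =>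
    ⟨Subgroup.le_normalizer hq, bp_self_stab Q₀ f₀ q hq⟩
  have hTNQ : bp_stabSub Q₀ f₀ ≤ Subgroup.normalizer (Q₀ : Set G) := fun t ht => ht.1
  haveI : Fintype (bp_stabSub Q₀ f₀) := Fintype.ofFinite _
  obtain ⟨U⟩ : Nonempty (Sylow p (bp_stabSub Q₀ f₀)) := inferInstance
  obtain ⟨UG, hUG⟩ : ∃ UG : Subgroup G,
      UG = (U : Subgroup (bp_stabSub Q₀ f₀)).map (bp_stabSub Q₀ f₀).subtype ⊔ Q₀ := ⟨_, rfl⟩
  have hU0 : (U : Subgroup (bp_stabSub Q₀ f₀)).map (bp_stabSub Q₀ f₀).subtype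
      ≤ bp_stabSub Q₀ f₀ := Subgroup.map_subtype_le _
  have hUGT : UG ≤ bp_stabSub Q₀ f₀ := by
    rw [hUG]
    exact sup_le hU0 hQ₀T
  have hUGp : IsPGroup p UG := by
    rw [hUG]
    exact IsPGroup.to_sup_of_normal_right' (U.isPGroup'.map _) hQ₀ (le_trans hU0 hTNQ)
  have hQ₀U : Q₀ ≤ UG := by
    rw [hUG]
    exact le_sup_right
  have hUU : ∀ u : bp_stabSub Q₀ f₀, u ∈ U → (u : G) ∈ UG := by
    intro u hu
    rw [hUG]
    exact (le_sup_left : _ ≤ _ ⊔ Q₀) (Subgroup.mem_map.mpr ⟨u, hu, rfl⟩)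
  have hUGN : UG ≤ Subgroup.normalizer
      ((Subgroup.centralizer (Q₀ : Set G) : Subgroup G) : Set G) := le_trans hUGT hTN
  obtain ⟨S, hS⟩ : ∃ S : Subgroup G, S = UG ⊔ Subgroup.centralizer (Q₀ : Set G) := ⟨_, rfl⟩
  have hCS : Subgroup.centralizer (Q₀ : Set G) ≤ S := by
    rw [hS]
    exact le_sup_right
  have hUS : UG ≤ S := by
    rw [hS]
    exact le_sup_left
  have hST : S ≤ bp_stabSub Q₀ f₀ := by
    rw [hS]
    exact sup_le hUGT hCT₀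
  have hSN : S ≤ Subgroup.normalizer
      ((Subgroup.centralizer (Q₀ : Set G) : Subgroup G) : Set G) := le_trans hST hTN
  have hSmem : ∀ s ∈ S, ∃ u ∈ UG, ∃ c ∈ Subgroup.centralizer (Q₀ : Set G), u * c = s := by
    intro s hs
    have h1 : s ∈ ((UG ⊔ Subgroup.centralizer (Q₀ : Set G) : Subgroup G) : Set G) := by
      rw [← hS]
      exact hs
    rw [Subgroup.coe_mul_of_left_le_normalizer_right UG _ hUGN, Set.mem_mul] at h1
    exact h1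
  haveI hnormS : ((Subgroup.centralizer (Q₀ : Set G)).subgroupOf S).Normal :=
    Subgroup.normal_subgroupOf_of_le_normalizer hSN
  have hidx : ∃ j : ℕ, ((Subgroup.centralizer (Q₀ : Set G)).subgroupOf S).index = p ^ j := by
    have hpg : IsPGroup p (S ⧸ (Subgroup.centralizer (Q₀ : Set G)).subgroupOf S) := by
      intro q
      obtain ⟨s, rfl⟩ := QuotientGroup.mk_surjective q
      obtain ⟨u, hu, c, hc, huc⟩ := hSmem s s.2
      obtain ⟨k, hk⟩ := hUGp ⟨u, hu⟩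
      refine ⟨k, ?_⟩
      have hk' : u ^ p ^ k = 1 := by
        have h2 : (((⟨u, hu⟩ : UG) ^ p ^ k : UG) : G) = 1 := by
          rw [hk]
          rfl
        rwa [Subgroup.coe_pow] at h2
      have e1 : (QuotientGroup.mk s : S ⧸ (Subgroup.centralizer (Q₀ : Set G)).subgroupOf S)
          = QuotientGroup.mk (⟨u, hUS hu⟩ : S) := by
        rw [QuotientGroup.eq, Subgroup.mem_subgroupOf]
        have e2 : (((s⁻¹ * (⟨u, hUS hu⟩ : S) : S)) : G) = c⁻¹ := by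
          show (s : G)⁻¹ * u = c⁻¹
          rw [← huc]
          group
        rw [e2]
        exact Subgroup.inv_mem _ hc
      rw [e1, ← QuotientGroup.mk_pow, QuotientGroup.eq_one_iff, Subgroup.mem_subgroupOf]
      have e3 : (((⟨u, hUS hu⟩ : S) ^ p ^ k : S) : G) = 1 := by
        rw [Subgroup.coe_pow]
        exact hk'
      rw [e3]
      exact Subgroup.one_mem _
    obtain ⟨j, hj⟩ := IsPGroup.iff_card.mp hpg
    exact ⟨j, by rw [Subgroup.index_eq_card]; exact hj⟩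
  have hstS : ∀ x ∈ S, StabilizesBlock (Subgroup.centralizer (Q₀ : Set G)) f₀ x :=
    fun x hx => (hST hx).2
  obtain ⟨χS, hcoS⟩ := bp_stable_exists hM (Subgroup.centralizer (Q₀ : Set G)) S hCS hSN f₀ hf₀
    hstS hidx
  haveI : Fintype S := Fintype.ofFinite _
  have hN₀ := bp_refl_normal (p := p) (M := M) Q₀ f₀ ⟨hQ₀, hf₀⟩
  have hQ₀S : Q₀ ≤ S := le_trans hQ₀U hUS
  obtain ⟨a₀', ha₀', ha₀'1, hp₀'⟩ := bp_sub_pair Q₀ f₀ S hCS (blockOf M (χS : S → ℂ)) ⟨χS, rfl⟩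
    hcoS Q₀ f₀ hN₀ hQ₀S
  obtain ⟨b', hchain', hb'max⟩ := bp_exists_max (p := p) (M := M) (blockOf M (χS : S → ℂ)) _ a₀'
    hp₀' le_rfl
  have hD : IsDefectGroup p M (blockOf M (χS : S → ℂ)) b'.1 := bp_max_defect hM _ b'.1 b'.2 hb'max
  have hsup := bp_stable_sup hM (Subgroup.centralizer (Q₀ : Set G)) S hCS hSN f₀ hf₀ hstS hidx χS
    hcoS b'.1 hD
  have hNS : b'.1 ≤ Subgroup.normalizer (a₀'.1 : Set S) := by
    rw [ha₀'1]
    intro s _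
    exact (bh_norm_iff S Q₀ hQ₀S s).mpr (hST s.2).1
  have hN' : NormalSubpairRel p M a₀' b' := bp_collapse hM a₀' b' hchain' hp₀'.1 hNS
  have hC' : Subgroup.centralizer ((b'.1.map S.subtype : Subgroup G) : Set G) ≤ S := by
    refine le_trans (Subgroup.centralizer_le ?_) hCS
    intro q hq
    have h1 : (⟨q, hQ₀S hq⟩ : S) ∈ a₀'.1 := by
      rw [ha₀'1]
      exact Subgroup.mem_subgroupOf.mpr hq
    exact Subgroup.mem_map.mpr ⟨⟨q, hQ₀S hq⟩, hN'.2.2.1 h1, rfl⟩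
  obtain ⟨b, hb⟩ : ∃ b : BrauerPairIdx G, bh_rel S b' b := ⟨_, bh_up S b' hC'⟩
  have hNG : NormalSubpairRel p M (⟨Q₀, f₀⟩ : BrauerPairIdx G) b :=
    bh_normal S a₀' b' ⟨Q₀, f₀⟩ b hN' ha₀' hb
  obtain ⟨R, g⟩ := b
  have hNG' : IsNormalSubpair p M Q₀ f₀ R g := hNG
  obtain ⟨hsR0, -, -⟩ := id hb
  have hsR : bh_sub S b'.1 R := hsR0
  obtain ⟨t, a₄, g₂, hrel₄, hch₄, -, hN₂⟩ := bp_fn_conj hM P e hPe Q₀ f₀ hQ₀P hf₀ hle₀ χ₀ hco₀
    hfn R g hNG'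
  have hNPT : P ⊓ Subgroup.normalizer (Q₀ : Set G) ≤ bp_stabSub Q₀ f₀ := fun x hx =>
    ⟨hx.2, hN₂.2.2.2.2.1 x hx⟩
  have hRt : ∀ r ∈ R, (t : G) * r * (t : G)⁻¹ ∈ P ⊓ Subgroup.normalizer (Q₀ : Set G) := by
    intro r hr
    have h1 : (t : G) * r * (t : G)⁻¹ ∈ a₄.1 := (hrel₄.1 _).mpr ⟨r, hr, rfl⟩
    exact pf_le _ _ hch₄ h1
  obtain ⟨L', hL'⟩ : ∃ L' : Subgroup (bp_stabSub Q₀ f₀),
      L' = (Subgroup.centralizer (Q₀ : Set G)).subgroupOf (bp_stabSub Q₀ f₀) ⊔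
        (P ⊓ Subgroup.normalizer (Q₀ : Set G)).subgroupOf (bp_stabSub Q₀ f₀) := ⟨_, rfl⟩
  have hUL : (U : Subgroup (bp_stabSub Q₀ f₀)).map (MulAut.conj t).toMonoidHom ≤ L' := by
    intro x hx
    obtain ⟨u, hu, rfl⟩ := (pf_conj_mem _ t x).mp hx
    have huS : (u : G) ∈ S := hUS (hUU u hu)
    have hmem : (⟨(u : G), huS⟩ : S) ∈
        ((((Subgroup.centralizer (Q₀ : Set G)).subgroupOf S ⊔ b'.1 : Subgroup S)) : Set S) := by
      rw [hsup]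
      exact Subgroup.mem_top _
    rw [Subgroup.normal_mul] at hmem
    obtain ⟨c', hc', d, hd, hcd⟩ := Set.mem_mul.mp hmem
    have hcd' : (c' : G) * (d : G) = (u : G) := congrArg Subtype.val hcd
    have hdR : (d : G) ∈ R := (hsR _).mpr ⟨d, hd, rfl⟩
    have h1 := hRt _ hdR
    have hcC : (c' : G) ∈ Subgroup.centralizer (Q₀ : Set G) := Subgroup.mem_subgroupOf.mp hc'
    have h2 : (t : G) * (c' : G) * (t : G)⁻¹ ∈ Subgroup.centralizer (Q₀ : Set G) :=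
      (Subgroup.mem_normalizer_iff.mp (hTN t.2) _).mp hcC
    have hy₁ : (⟨(t : G) * (c' : G) * (t : G)⁻¹, hCT₀ h2⟩ : bp_stabSub Q₀ f₀) ∈ L' := by
      rw [hL']
      exact Subgroup.mem_sup_left (Subgroup.mem_subgroupOf.mpr h2)
    have hy₂ : (⟨(t : G) * (d : G) * (t : G)⁻¹, hNPT h1⟩ : bp_stabSub Q₀ f₀) ∈ L' := by
      rw [hL']
      exact Subgroup.mem_sup_right (Subgroup.mem_subgroupOf.mpr h1)
    have e1 : t * u * t⁻¹ = (⟨(t : G) * (c' : G) * (t : G)⁻¹, hCT₀ h2⟩ : bp_stabSub Q₀ f₀)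
        * (⟨(t : G) * (d : G) * (t : G)⁻¹, hNPT h1⟩ : bp_stabSub Q₀ f₀) := by
      apply Subtype.ext
      show (t : G) * (u : G) * (t : G)⁻¹
        = (t : G) * (c' : G) * (t : G)⁻¹ * ((t : G) * (d : G) * (t : G)⁻¹)
      rw [← hcd']
      group
    rw [e1]
    exact L'.mul_mem hy₁ hy₂
  have hidxU : ¬ p ∣ (U : Subgroup (bp_stabSub Q₀ f₀)).index := U.not_dvd_index
  have hcardV : Nat.card ((U : Subgroup (bp_stabSub Q₀ f₀)).map (MulAut.conj t).toMonoidHom)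
      = Nat.card (U : Subgroup (bp_stabSub Q₀ f₀)) :=
    Subgroup.card_map_of_injective (MulAut.conj t).injective
  have hidxV : ((U : Subgroup (bp_stabSub Q₀ f₀)).map (MulAut.conj t).toMonoidHom).index
      = (U : Subgroup (bp_stabSub Q₀ f₀)).index := by
    have h1 := Subgroup.index_mul_card
      ((U : Subgroup (bp_stabSub Q₀ f₀)).map (MulAut.conj t).toMonoidHom)
    have h2 := Subgroup.index_mul_card (U : Subgroup (bp_stabSub Q₀ f₀))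
    rw [hcardV, ← h2] at h1
    exact Nat.eq_of_mul_eq_mul_right Nat.card_pos h1
  rw [← hL']
  intro hdvd
  have h3 : p ∣ ((U : Subgroup (bp_stabSub Q₀ f₀)).map (MulAut.conj t).toMonoidHom).index :=
    dvd_trans hdvd (Subgroup.index_dvd_of_le hUL)
  rw [hidxV] at h3
  exact hidxU h3

end Cfsg.Agent.Helper24
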