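import Mathlib
import Cfsg.Agent.Helper24.BP25

/-!
helper24: the fusion system of a block on a maximal Brauer pair exists.
-/

set_option autoImplicit false

namespace Cfsg.Agent.Helper24

open Cfsg Cfsg.Agent.Helper5 Cfsg.Agent.Helper22

universe u

variable {G : Type u} [Group G] [Fintype G]

set_option maxHeartbeats 1600000 in
/-- the fusion system of the block `B` on the maximal Brauer pair `(P, e)`. -/
theorem bp_fus_exists {p : ℕ} [Fact p.Prime] {M : Ideal AlgInt} (hM : IsPModular p M)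
    [hMp : M.IsPrime] (B : Set (IrrCharacter G)) (P : Subgroup G)
    (e : Set (IrrCharacter (Subgroup.centralizer (P : Set G)))) (hmax : IsMaximalBrauerPair p M B P e) :
    ∃ F : FusionSystem P, IsBlockFusionSystemOn p M B P e F := by
  classical
  have hPe := hmax.1.1
  refine ⟨{ Hom := fun Q => {φ : Q →* G | Q ≤ P ∧ ∃ g : G, (∀ u : Q, φ u = g * (u : G) * g⁻¹) ∧
        Q.map (MulAut.conj g).toMonoidHom ≤ P ∧
        ∃ f : Set (IrrCharacter (Subgroup.centralizer (Q : Set G))),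
          SubpairLE p M Q f P e ∧
            SubpairLE p M (Q.map (MulAut.conj g).toMonoidHom) (conjBlock Q g f) P e}
            le_of_mem := ?_
            injective_of_mem := ?_
            conj_mem := ?_
            comp_mem := ?_
            inv_mem := ?_ }, hmax, fun Q φ => Iff.rfl⟩
  · rintro Q φ ⟨hQP, g, hφ, hgP, -⟩
    exact ⟨hQP, fun x => hgP ((pf_conj_mem Q g _).mpr ⟨x, x.2, (hφ x).symm⟩)⟩
  · rintro Q φ ⟨-, g, hφ, -⟩ a b hab
    have h : g * (a : G) * g⁻¹ = g * (b : G) * g⁻¹ := by rw [← hφ a, ← hφ b, hab]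
    exact Subtype.ext (mul_left_cancel (mul_right_cancel h))
  · intro Q g hQP hg
    obtain ⟨f, hf, hle⟩ := bp_sub_exists hM P e hPe _ Q hQP le_rfl
    have hgg : bc_rel g (⟨P, e⟩ : BrauerPairIdx G) ⟨P, e⟩ :=
      bc_stab_self g P e (Subgroup.le_normalizer hg) (bp_self_stab P e g hg)
        (bp_self_stab P e g⁻¹ (inv_mem hg))
    have hle' := bc_chain g (⟨Q, f⟩ : BrauerPairIdx G) ⟨P, e⟩ hle _ _
      (bc_rel_cj g (⟨Q, f⟩ : BrauerPairIdx G)) hgg
    exact ⟨hQP, g, fun u => rfl, pf_le _ _ hle', f, hle, hle'⟩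
  · rintro Q R φ ψ ⟨hQP, g, hφ, hgP, f, hle, hle'⟩ ⟨hRP, k, hψ, hkP, fR, hleR, hleR'⟩ h
    have hQgR : Q.map (MulAut.conj g).toMonoidHom ≤ R := by
      intro y hy
      obtain ⟨q, hq, rfl⟩ := (pf_conj_mem Q g y).mp hy
      have h1 := h ⟨q, hq⟩
      rwa [hφ] at h1
    have hfg : IsPBlock M (conjBlock Q g f) := (bp_chain_pair _ ⟨P, e⟩ hle' hPe).2
    have hRpair : IsBrauerPair p M R fR :=
      bp_chain_pair (⟨R, fR⟩ : BrauerPairIdx G) ⟨P, e⟩ hleR hPe
    obtain ⟨f'', hf'', hle''⟩ := bp_sub_exists hM R fR hRpair _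
      (Q.map (MulAut.conj g).toMonoidHom) hQgR le_rfl
    have hu : f'' = conjBlock Q g f := bp_sub_unique hM P e hPe _
      (Q.map (MulAut.conj g).toMonoidHom) hgP le_rfl f'' _ hf'' hfg (hle''.trans hleR) hle'
    rw [hu] at hle''
    have hch := bc_chain k (⟨Q.map (MulAut.conj g).toMonoidHom, conjBlock Q g f⟩ : BrauerPairIdx G)
      ⟨R, fR⟩ hle'' _ _
      (bc_rel_cj k (⟨Q.map (MulAut.conj g).toMonoidHom, conjBlock Q g f⟩ : BrauerPairIdx G))
      (bc_rel_cj k (⟨R, fR⟩ : BrauerPairIdx G))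
    have hch2 := hch.trans hleR'
    have hrel : bc_rel (k * g) (⟨Q, f⟩ : BrauerPairIdx G) _ :=
      bc_rel_mul (bc_rel_cj g (⟨Q, f⟩ : BrauerPairIdx G))
        (bc_rel_cj k (⟨Q.map (MulAut.conj g).toMonoidHom, conjBlock Q g f⟩ : BrauerPairIdx G))
    have heq := bc_rel_unique (bc_rel_cj (k * g) (⟨Q, f⟩ : BrauerPairIdx G)) hrel
    have hfin : Relation.ReflTransGen (NormalSubpairRel p M)
        (⟨Q.map (MulAut.conj (k * g)).toMonoidHom, conjBlock Q (k * g) f⟩ : BrauerPairIdx G)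
        ⟨P, e⟩ := by
      rw [heq]
      exact hch2
    refine ⟨hQP, k * g, fun u => ?_, pf_le _ _ hfin, f, hle, hfin⟩
    show ψ (φ.codRestrict R h u) = k * g * (u : G) * (k * g)⁻¹
    rw [hψ]
    show k * φ u * k⁻¹ = _
    rw [hφ, mul_inv_rev]
    simp only [mul_assoc]
  · rintro Q φ ⟨hQP, g, hφ, hgP, f, hle, hle'⟩
    have hrange : φ.range = Q.map (MulAut.conj g).toMonoidHom := by
      ext y
      rw [MonoidHom.mem_range, pf_conj_mem]
      constructor
      · rintro ⟨u, rfl⟩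
        exact ⟨(u : G), u.2, (hφ u).symm⟩
      · rintro ⟨q, hq, rfl⟩
        exact ⟨⟨q, hq⟩, hφ ⟨q, hq⟩⟩
    have hrel := bc_rel_inv (bc_rel_cj g (⟨Q, f⟩ : BrauerPairIdx G))
    have heq := bc_rel_unique (bc_rel_cj g⁻¹
      (⟨Q.map (MulAut.conj g).toMonoidHom, conjBlock Q g f⟩ : BrauerPairIdx G)) hrel
    have hfin : Relation.ReflTransGen (NormalSubpairRel p M)
        (⟨(Q.map (MulAut.conj g).toMonoidHom).map (MulAut.conj g⁻¹).toMonoidHom,
          conjBlock (Q.map (MulAut.conj g).toMonoidHom) g⁻¹ (conjBlock Q g f)⟩ : BrauerPairIdx G)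
        ⟨P, e⟩ := by
      rw [heq]
      exact hle
    have key : ∀ R : Subgroup G, R = Q.map (MulAut.conj g).toMonoidHom →
        R ≤ P ∧ ∃ g' : G, (∀ u : R, conjHom R g⁻¹ u = g' * (u : G) * g'⁻¹) ∧
        R.map (MulAut.conj g').toMonoidHom ≤ P ∧
        ∃ f' : Set (IrrCharacter (Subgroup.centralizer (R : Set G))),
          SubpairLE p M R f' P e ∧
            SubpairLE p M (R.map (MulAut.conj g').toMonoidHom) (conjBlock R g' f') P e := by
      intro R hR
      subst hR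
      exact ⟨hgP, g⁻¹, fun u => rfl, pf_le _ _ hfin, conjBlock Q g f, hle', hfin⟩
    refine ⟨conjHom φ.range g⁻¹, key _ hrange, fun x => ?_⟩
    show g⁻¹ * φ x * g⁻¹⁻¹ = (x : G)
    rw [hφ]
    group

end Cfsg.Agent.Helper24
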