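import Mathlib
import Cfsg.Agent.Helper24.BP26

/-!
helper24: fully normalized subgroups are fully automized in the fusion system of a block.
-/

set_option autoImplicit false

namespace Cfsg.Agent.Helper24

open Cfsg Cfsg.Agent.Helper5 Cfsg.Agent.Helper22

universe u

variable {G : Type u} [Group G] [Fintype G]

/-- conjugation action on `Q` of a subgroup of its normalizer. -/
def bp_kap (Q N : Subgroup G) (hN : N ≤ Subgroup.normalizer (Q : Set G)) : N →* MulAut Q where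
  toFun t :=
    { toFun := fun x => ⟨(t : G) * x * (t : G)⁻¹,
        (Subgroup.mem_normalizer_iff.mp (hN t.2) x).mp x.2⟩
      invFun := fun x => ⟨(t : G)⁻¹ * x * (t : G), bp_norm_inv Q (t : G) (hN t.2) x x.2⟩
      left_inv := fun x => Subtype.ext (by
        show (t : G)⁻¹ * ((t : G) * x * (t : G)⁻¹) * (t : G) = x
        group)
      right_inv := fun x => Subtype.ext (by
        show (t : G) * ((t : G)⁻¹ * x * (t : G)) * (t : G)⁻¹ = x
        group)
      map_mul' := fun x y => Subtype.ext (by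
        show (t : G) * ((x : G) * (y : G)) * (t : G)⁻¹
          = ((t : G) * x * (t : G)⁻¹) * ((t : G) * y * (t : G)⁻¹)
        group) }
  map_one' := by
    apply MulEquiv.ext
    intro x
    apply Subtype.ext
    show (1 : G) * (x : G) * (1 : G)⁻¹ = x
    group
  map_mul' := fun s t => by
    apply MulEquiv.ext
    intro x
    apply Subtype.ext
    show ((s : G) * (t : G)) * (x : G) * ((s : G) * (t : G))⁻¹
      = (s : G) * ((t : G) * x * (t : G)⁻¹) * (s : G)⁻¹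
    group

/-- an element inducing an automorphism of `Q` by conjugation normalizes `Q`. -/
theorem bp_norm_of_aut (Q : Subgroup G) (α : MulAut Q) (g : G)
    (h : ∀ x : Q, ((α x : Q) : G) = g * (x : G) * g⁻¹) :
    g ∈ Subgroup.normalizer (Q : Set G) := by
  rw [Subgroup.mem_normalizer_iff]
  intro y
  constructor
  · intro hy
    have h1 := h ⟨y, hy⟩
    have h1' : ((α ⟨y, hy⟩ : Q) : G) = g * y * g⁻¹ := h1
    rw [← h1']
    exact (α ⟨y, hy⟩).2
  · intro hy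
    have h1 := h (α.symm ⟨g * y * g⁻¹, hy⟩)
    rw [MulEquiv.apply_symm_apply] at h1
    have h1' : g * y * g⁻¹ = g * ((α.symm ⟨g * y * g⁻¹, hy⟩ : Q) : G) * g⁻¹ := h1
    have h2 : y = ((α.symm ⟨g * y * g⁻¹, hy⟩ : Q) : G) :=
      mul_left_cancel (mul_right_cancel h1')
    have h3 := (α.symm ⟨g * y * g⁻¹, hy⟩).2
    rw [← h2] at h3
    exact h3

theorem bp_map_norm (Q : Subgroup G) (g : G) (hg : g ∈ Subgroup.normalizer (Q : Set G)) :
    Q.map (MulAut.conj g).toMonoidHom = Q := by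
  ext y
  rw [pf_conj_mem]
  constructor
  · rintro ⟨q, hq, rfl⟩
    exact (Subgroup.mem_normalizer_iff.mp hg q).mp hq
  · intro hy
    exact ⟨g⁻¹ * y * g, bp_norm_inv Q g hg y hy, by group⟩

theorem bp_sub_eq {p : ℕ} [Fact p.Prime] {M : Ideal AlgInt} (hM : IsPModular p M)
    [hMp : M.IsPrime] (P : Subgroup G)
    (e : Set (IrrCharacter (Subgroup.centralizer (P : Set G)))) (hPe : IsBrauerPair p M P e)
    (Q₀ : Subgroup G) (f₀ : Set (IrrCharacter (Subgroup.centralizer (Q₀ : Set G))))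
    (hQ₀P : Q₀ ≤ P) (hf₀ : IsPBlock M f₀) (hle₀ : SubpairLE p M Q₀ f₀ P e)
    (a : BrauerPairIdx G) (h : Relation.ReflTransGen (NormalSubpairRel p M) a ⟨P, e⟩)
    (ha : a.1 = Q₀) : a = ⟨Q₀, f₀⟩ := by
  obtain ⟨Q', f'⟩ := a
  have ha' : Q' = Q₀ := ha
  subst ha'
  have hblk : IsPBlock M f' :=
    (bp_chain_pair (⟨Q', f'⟩ : BrauerPairIdx G) ⟨P, e⟩ h hPe).2
  have hu : f' = f₀ := bp_sub_unique hM P e hPe _ Q' hQ₀P le_rfl f' f₀ hblk hf₀ h hle₀
  rw [hu]

set_option maxHeartbeats 1600000 in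
/-- a fully normalized subgroup is fully automized. -/
theorem bp_fn_automized {p : ℕ} [Fact p.Prime] {M : Ideal AlgInt} (hM : IsPModular p M)
    [hMp : M.IsPrime] (B : Set (IrrCharacter G)) (P : Subgroup G)
    (e : Set (IrrCharacter (Subgroup.centralizer (P : Set G)))) (hmax : IsMaximalBrauerPair p M B P e)
    (F : FusionSystem P) (hF : IsBlockFusionSystemOn p M B P e F)
    (Q₀ : Subgroup G) (f₀ : Set (IrrCharacter (Subgroup.centralizer (Q₀ : Set G))))
    (hQ₀P : Q₀ ≤ P) (hf₀ : IsPBlock M f₀) (hle₀ : SubpairLE p M Q₀ f₀ P e)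
    (χ₀ : IrrCharacter (bp_stabSub Q₀ f₀))
    (hco₀ : ∀ t : bp_stabSub Q₀ f₀, blockCoeff (blockOf M (χ₀ : bp_stabSub Q₀ f₀ → ℂ)) t
      = subgroupBlockCoeff (Subgroup.centralizer (Q₀ : Set G)) f₀ (t : G))
    (hfn : IsDefectGroup p M (blockOf M (χ₀ : bp_stabSub Q₀ f₀ → ℂ))
      ((P ⊓ Subgroup.normalizer (Q₀ : Set G)).subgroupOf (bp_stabSub Q₀ f₀))) :
    F.IsFullyAutomized p Q₀ := by
  classical
  have hPe := hmax.1.1
  have hTNQ : bp_stabSub Q₀ f₀ ≤ Subgroup.normalizer (Q₀ : Set G) := fun t ht => ht.1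
  haveI : Fintype (bp_stabSub Q₀ f₀) := Fintype.ofFinite _
  obtain ⟨g₂, hN₂, -⟩ := bp_normP_pair hM P Q₀ e f₀ hPe hQ₀P hf₀ hle₀
  have hNPT : P ⊓ Subgroup.normalizer (Q₀ : Set G) ≤ bp_stabSub Q₀ f₀ := fun x hx =>
    ⟨hx.2, hN₂.2.2.2.2.1 x hx⟩
  obtain ⟨κ, hκ⟩ : ∃ κ : bp_stabSub Q₀ f₀ →* MulAut Q₀,
      κ = bp_kap Q₀ (bp_stabSub Q₀ f₀) hTNQ := ⟨_, rfl⟩
  have hκv : ∀ (t : bp_stabSub Q₀ f₀) (x : Q₀),
      ((κ t x : Q₀) : G) = (t : G) * (x : G) * (t : G)⁻¹ := by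
    intro t x
    rw [hκ]
    rfl
  have hAF : F.autGroup Q₀ = κ.range := by
    have hset : {α : MulAut Q₀ | Q₀.subtype.comp α.toMonoidHom ∈ F.Hom Q₀}
        = ((κ.range : Subgroup (MulAut Q₀)) : Set (MulAut Q₀)) := by
      ext α
      constructor
      · intro hα
        obtain ⟨-, g, hg, hgP, f, hle, hle'⟩ := (hF.2 Q₀ _).mp hα
        have hgα : ∀ x : Q₀, ((α x : Q₀) : G) = g * (x : G) * g⁻¹ := fun x => hg x
        have hgN := bp_norm_of_aut Q₀ α g hgα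
        have hf : IsPBlock M f := (bp_chain_pair (⟨Q₀, f⟩ : BrauerPairIdx G) ⟨P, e⟩ hle hPe).2
        have hff : f = f₀ := bp_sub_unique hM P e hPe _ Q₀ hQ₀P le_rfl f f₀ hf hf₀ hle hle₀
        rw [hff] at hle'
        have haeq : (⟨Q₀.map (MulAut.conj g).toMonoidHom, conjBlock Q₀ g f₀⟩ : BrauerPairIdx G)
            = ⟨Q₀, f₀⟩ := bp_sub_eq hM P e hPe Q₀ f₀ hQ₀P hf₀ hle₀ _ hle' (bp_map_norm Q₀ g hgN)
        have hrel : bc_rel g (⟨Q₀, f₀⟩ : BrauerPairIdx G) ⟨Q₀, f₀⟩ := by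
          have h1 := bc_rel_cj g (⟨Q₀, f₀⟩ : BrauerPairIdx G)
          rw [haeq] at h1
          exact h1
        obtain ⟨-, hgS⟩ := bc_self_stab g Q₀ f₀ hrel
        refine MonoidHom.mem_range.mpr ⟨⟨g, hgN, hgS⟩, ?_⟩
        apply MulEquiv.ext
        intro x
        apply Subtype.ext
        rw [hκv, hgα]
      · intro hα
        obtain ⟨t, rfl⟩ := MonoidHom.mem_range.mp hα
        have hrel : bc_rel (t : G) (⟨Q₀, f₀⟩ : BrauerPairIdx G) ⟨Q₀, f₀⟩ :=
          bc_stab_self (t : G) Q₀ f₀ t.2.1 t.2.2 (bp_stab_inv _ f₀ (t : G) t.2.2)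
        have hcj := bc_rel_unique (bc_rel_cj (t : G) (⟨Q₀, f₀⟩ : BrauerPairIdx G)) hrel
        have hle' : SubpairLE p M (Q₀.map (MulAut.conj (t : G)).toMonoidHom)
            (conjBlock Q₀ (t : G) f₀) P e := by
          show Relation.ReflTransGen (NormalSubpairRel p M)
            (⟨Q₀.map (MulAut.conj (t : G)).toMonoidHom, conjBlock Q₀ (t : G) f₀⟩ :
              BrauerPairIdx G) ⟨P, e⟩
          rw [hcj]
          exact hle₀
        exact (hF.2 Q₀ _).mpr ⟨hQ₀P, (t : G), fun u => hκv t u, pf_le _ _ hle', f₀, hle₀, hle'⟩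
    unfold FusionSystem.autGroup
    rw [hset, Subgroup.closure_eq]
  have hAP : autInducedBy P Q₀
      = ((P ⊓ Subgroup.normalizer (Q₀ : Set G)).subgroupOf (bp_stabSub Q₀ f₀)).map κ := by
    have hset : {α : MulAut Q₀ | ∃ g ∈ P, ∀ x : Q₀, ((α x : Q₀) : G) = g * (x : G) * g⁻¹}
        = ((((P ⊓ Subgroup.normalizer (Q₀ : Set G)).subgroupOf (bp_stabSub Q₀ f₀)).map κ :
          Subgroup (MulAut Q₀)) : Set (MulAut Q₀)) := by
      ext α
      constructor
      · rintro ⟨g, hgP, hgα⟩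
        have hgN := bp_norm_of_aut Q₀ α g hgα
        have hgNP : g ∈ P ⊓ Subgroup.normalizer (Q₀ : Set G) := ⟨hgP, hgN⟩
        refine Subgroup.mem_map.mpr ⟨⟨g, hNPT hgNP⟩, Subgroup.mem_subgroupOf.mpr hgNP, ?_⟩
        apply MulEquiv.ext
        intro x
        apply Subtype.ext
        rw [hκv, hgα]
      · intro hα
        obtain ⟨t, ht, rfl⟩ := Subgroup.mem_map.mp hα
        exact ⟨(t : G), (Subgroup.mem_subgroupOf.mp ht).1, fun x => hκv t x⟩
    unfold autInducedBy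
    rw [hset, Subgroup.closure_eq]
  refine ⟨hQ₀P, ?_⟩
  rw [hAF, hAP]
  have hN'p : IsPGroup p ((P ⊓ Subgroup.normalizer (Q₀ : Set G)).subgroupOf (bp_stabSub Q₀ f₀)) :=
    (hPe.1.to_le inf_le_left).comap_subtype
  have h1 : IsPGroup p ((((P ⊓ Subgroup.normalizer (Q₀ : Set G)).subgroupOf
      (bp_stabSub Q₀ f₀)).map κ).subgroupOf κ.range) := (hN'p.map κ).comap_subtype
  have hsyl := bp_fn_sylow hM P e hPe Q₀ f₀ hQ₀P hf₀ hle₀ χ₀ hco₀ hfn
  have h2 : ¬ p ∣ ((((P ⊓ Subgroup.normalizer (Q₀ : Set G)).subgroupOf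
      (bp_stabSub Q₀ f₀)).map κ).subgroupOf κ.range).index := by
    intro hdvd
    apply hsyl
    have e1 : ((((P ⊓ Subgroup.normalizer (Q₀ : Set G)).subgroupOf
        (bp_stabSub Q₀ f₀)).map κ).subgroupOf κ.range).index
        = (((P ⊓ Subgroup.normalizer (Q₀ : Set G)).subgroupOf (bp_stabSub Q₀ f₀)) ⊔ κ.ker).index := by
      show (((P ⊓ Subgroup.normalizer (Q₀ : Set G)).subgroupOf
        (bp_stabSub Q₀ f₀)).map κ).relIndex κ.range = _
      rw [MonoidHom.range_eq_map, ← Subgroup.relIndex_comap, Subgroup.relIndex_top_right,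
        Subgroup.comap_map_eq]
    rw [e1] at hdvd
    refine dvd_trans hdvd (Subgroup.index_dvd_of_le ?_)
    refine sup_le ?_ le_sup_left
    refine le_trans ?_ le_sup_right
    intro c hc
    rw [MonoidHom.mem_ker]
    apply MulEquiv.ext
    intro x
    apply Subtype.ext
    rw [hκv]
    have hcC := Subgroup.mem_subgroupOf.mp hc
    have h3 := Subgroup.mem_centralizer_iff.mp hcC x x.2
    show (c : G) * (x : G) * (c : G)⁻¹ = (x : G)
    rw [← h3]
    group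
  exact ⟨h1.toSylow h2, IsPGroup.toSylow_coe h1 h2⟩

end Cfsg.Agent.Helper24
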