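import Mathlib
import Cfsg.Agent.Helper24.BP27

/-!
helper24: fully normalized subgroups are receptive; the fusion system of a block is saturated.
-/

set_option autoImplicit false

namespace Cfsg.Agent.Helper24

open Cfsg Cfsg.Agent.Helper5 Cfsg.Agent.Helper22

universe u

variable {G : Type u} [Group G]

theorem bc_norm {z : G} {Q Q' : Subgroup G} (h : bc_sub z Q Q') (y : G)
    (hy : y ∈ Subgroup.normalizer (Q : Set G)) :
    z * y * z⁻¹ ∈ Subgroup.normalizer (Q' : Set G) := by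
  have hinv : ∀ q ∈ Q, y⁻¹ * q * y ∈ Q := by
    intro q hq
    have h1 := (Subgroup.mem_normalizer_iff.mp (Subgroup.inv_mem _ hy) q).mp hq
    rwa [inv_inv] at h1
  rw [Subgroup.mem_normalizer_iff]
  intro q'
  constructor
  · intro hq'
    obtain ⟨q, hq, rfl⟩ := (h q').mp hq'
    exact (h _).mpr ⟨y * q * y⁻¹, (Subgroup.mem_normalizer_iff.mp hy q).mp hq, by group⟩
  · intro hq'
    obtain ⟨q, hq, he⟩ := (h _).mp hq'
    refine (h q').mpr ⟨y⁻¹ * q * y, hinv q hq, ?_⟩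
    have e1 : q' = (z * y * z⁻¹)⁻¹ * (z * q * z⁻¹) * (z * y * z⁻¹) := by
      rw [he]
      group
    rw [e1]
    group

variable [Fintype G]

set_option maxHeartbeats 1600000 in
/-- the version of `bp_fn_conj` inside a subgroup `S` with `C_G(Q₀) N_P(Q₀) ≤ S ≤ N_G(Q₀)` in which
`N_P(Q₀)` is a defect group of the block with the idempotent of `f₀`. -/
theorem bp_fn_conj' {p : ℕ} [Fact p.Prime] {M : Ideal AlgInt} (hM : IsPModular p M)
    [hMp : M.IsPrime] (P : Subgroup G)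
    (e : Set (IrrCharacter (Subgroup.centralizer (P : Set G)))) (hPe : IsBrauerPair p M P e)
    (Q₀ : Subgroup G) (f₀ : Set (IrrCharacter (Subgroup.centralizer (Q₀ : Set G))))
    (hQ₀P : Q₀ ≤ P) (hf₀ : IsPBlock M f₀) (hle₀ : SubpairLE p M Q₀ f₀ P e)
    (S : Subgroup G) (hCS : Subgroup.centralizer (Q₀ : Set G) ≤ S)
    (hSN : S ≤ Subgroup.normalizer (Q₀ : Set G))
    (hNPS : P ⊓ Subgroup.normalizer (Q₀ : Set G) ≤ S)
    (χS : IrrCharacter S)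
    (hcoS : ∀ t : S, blockCoeff (blockOf M (χS : S → ℂ)) t
      = subgroupBlockCoeff (Subgroup.centralizer (Q₀ : Set G)) f₀ (t : G))
    (hfnS : IsDefectGroup p M (blockOf M (χS : S → ℂ))
      ((P ⊓ Subgroup.normalizer (Q₀ : Set G)).subgroupOf S))
    (R₃ : Subgroup G) (g₃ : Set (IrrCharacter (Subgroup.centralizer (R₃ : Set G))))
    (hN₃' : IsNormalSubpair p M Q₀ f₀ R₃ g₃) (hR₃S : R₃ ≤ S) :
    ∃ (t : S) (a₄ : BrauerPairIdx G)
      (g₂ : Set (IrrCharacter (Subgroup.centralizer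
        ((P ⊓ Subgroup.normalizer (Q₀ : Set G) : Subgroup G) : Set G)))),
      bc_rel (t : G) (⟨R₃, g₃⟩ : BrauerPairIdx G) a₄ ∧
      Relation.ReflTransGen (NormalSubpairRel p M) a₄
        ⟨P ⊓ Subgroup.normalizer (Q₀ : Set G), g₂⟩ ∧
      Relation.ReflTransGen (NormalSubpairRel p M)
        (⟨P ⊓ Subgroup.normalizer (Q₀ : Set G), g₂⟩ : BrauerPairIdx G) ⟨P, e⟩ ∧
      IsNormalSubpair p M Q₀ f₀ (P ⊓ Subgroup.normalizer (Q₀ : Set G)) g₂ := by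
  classical
  haveI : Fintype S := Fintype.ofFinite _
  obtain ⟨a₃', ha₃', -, hp₃'⟩ := bp_sub_pair Q₀ f₀ S hCS
    (blockOf M (χS : S → ℂ)) ⟨χS, rfl⟩ hcoS R₃ g₃ hN₃' hR₃S
  obtain ⟨g₂, hN₂, hg₂P⟩ := bp_normP_pair hM P Q₀ e f₀ hPe hQ₀P hf₀ hle₀
  obtain ⟨a₂', ha₂', ha₂'1, hp₂'⟩ := bp_sub_pair Q₀ f₀ S hCS
    (blockOf M (χS : S → ℂ)) ⟨χS, rfl⟩ hcoS _ g₂ hN₂ hNPS
  have hfn' : IsDefectGroup p M (blockOf M (χS : S → ℂ)) a₂'.1 := by
    rw [ha₂'1]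
    exact hfnS
  have hm₂' : IsMaximalBrauerPair p M (blockOf M (χS : S → ℂ)) a₂'.1 a₂'.2 :=
    bp_defect_max hM _ a₂'.1 a₂'.2 hp₂' hfn'
  obtain ⟨t, ht⟩ := bp_conj_max hM (blockOf M (χS : S → ℂ)) a₂'.1 a₃'.1 a₂'.2
    a₃'.2 hm₂' hp₃'
  obtain ⟨a₄', ha₄'⟩ : ∃ a₄' : BrauerPairIdx S,
      a₄' = ⟨a₃'.1.map (MulAut.conj t).toMonoidHom, conjBlock a₃'.1 t a₃'.2⟩ := ⟨_, rfl⟩
  have hrel₄ : bc_rel t a₃' a₄' := by
    rw [ha₄']
    exact bc_rel_cj t a₃'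
  have hch₄ : Relation.ReflTransGen (NormalSubpairRel p M) a₄' a₂' := by
    rw [ha₄']
    exact ht
  clear ha₄'
  obtain ⟨hs₃, -, -⟩ := id ha₃'
  have hs₃' : bh_sub S a₃'.1 R₃ := hs₃
  have hC₄ : Subgroup.centralizer
      ((a₄'.1.map S.subtype : Subgroup G) : Set G) ≤ S := by
    refine le_trans (Subgroup.centralizer_le ?_) hCS
    intro q hq
    have hq' : (t : G)⁻¹ * q * (t : G) ∈ Q₀ := bp_norm_inv Q₀ (t : G) (hSN t.2) q hq
    obtain ⟨h, hh, hhe⟩ := (hs₃' _).mp (hN₃'.2.2.1 hq')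
    refine Subgroup.mem_map.mpr ⟨t * h * t⁻¹, (hrel₄.1 _).mpr ⟨h, hh, rfl⟩, ?_⟩
    show (t : G) * (h : G) * (t : G)⁻¹ = q
    rw [hhe]
    group
  obtain ⟨a₄, ha₄⟩ : ∃ a₄ : BrauerPairIdx G, bh_rel S a₄' a₄ :=
    ⟨_, bh_up S a₄' hC₄⟩
  have hG₄ : bc_rel (t : G) (⟨R₃, g₃⟩ : BrauerPairIdx G) a₄ :=
    bh_conj S t a₃' a₄' ⟨R₃, g₃⟩ a₄ hrel₄ ha₃' ha₄
  obtain ⟨b, hb, hab⟩ := bh_chain_up S a₄' a₄ ha₄ a₂' hch₄
  have hb2 := bh_rel_unique hb ha₂'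
  rw [hb2] at hab
  exact ⟨t, a₄, g₂, hG₄, hab, hg₂P, hN₂⟩

set_option maxHeartbeats 1600000 in
/-- fully normalized `(Q₀, f₀)`, `U` a `p`-subgroup of the stabilizer containing `Q₀`, `S = U C_G(Q₀)`:
the block of `S` with the idempotent of `f₀` and a maximal pair of it conjugate into `N_P(Q₀)`. -/
theorem bp_fn_sub {p : ℕ} [Fact p.Prime] {M : Ideal AlgInt} (hM : IsPModular p M)
    [hMp : M.IsPrime] (P : Subgroup G)
    (e : Set (IrrCharacter (Subgroup.centralizer (P : Set G)))) (hPe : IsBrauerPair p M P e)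
    (Q₀ : Subgroup G) (f₀ : Set (IrrCharacter (Subgroup.centralizer (Q₀ : Set G))))
    (hQ₀P : Q₀ ≤ P) (hf₀ : IsPBlock M f₀) (hle₀ : SubpairLE p M Q₀ f₀ P e)
    (χ₀ : IrrCharacter (bp_stabSub Q₀ f₀))
    (hco₀ : ∀ t : bp_stabSub Q₀ f₀, blockCoeff (blockOf M (χ₀ : bp_stabSub Q₀ f₀ → ℂ)) t
      = subgroupBlockCoeff (Subgroup.centralizer (Q₀ : Set G)) f₀ (t : G))
    (hfn : IsDefectGroup p M (blockOf M (χ₀ : bp_stabSub Q₀ f₀ → ℂ))
      ((P ⊓ Subgroup.normalizer (Q₀ : Set G)).subgroupOf (bp_stabSub Q₀ f₀)))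
    (UG : Subgroup G) (hUGT : UG ≤ bp_stabSub Q₀ f₀) (hUGp : IsPGroup p UG) (hQ₀U : Q₀ ≤ UG)
    (S : Subgroup G) (hS : S = UG ⊔ Subgroup.centralizer (Q₀ : Set G)) :
    ∃ χS : IrrCharacter S,
      (∀ s : S, blockCoeff (blockOf M (χS : S → ℂ)) s
        = subgroupBlockCoeff (Subgroup.centralizer (Q₀ : Set G)) f₀ (s : G)) ∧
      ∃ (b' : BrauerPairIdx S) (t : bp_stabSub Q₀ f₀),
        IsMaximalBrauerPair p M (blockOf M (χS : S → ℂ)) b'.1 b'.2 ∧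
        (Subgroup.centralizer (Q₀ : Set G)).subgroupOf S ⊔ b'.1 = ⊤ ∧
        ∀ d : S, d ∈ b'.1 →
          (t : G) * (d : G) * (t : G)⁻¹ ∈ P ⊓ Subgroup.normalizer (Q₀ : Set G) := by
  classical
  have hQ₀ : IsPGroup p Q₀ := hPe.1.to_le hQ₀P
  have hCT₀ : Subgroup.centralizer (Q₀ : Set G) ≤ bp_stabSub Q₀ f₀ := fun c hc =>
    ⟨Subgroup.centralizer_le_normalizer _ hc, bp_cent_stab Q₀ f₀ c hc⟩
  have hTN : bp_stabSub Q₀ f₀ ≤ Subgroup.normalizer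
      ((Subgroup.centralizer (Q₀ : Set G) : Subgroup G) : Set G) :=
    fun t ht => pf_norm_cent Q₀ t ht.1
  haveI : Fintype (bp_stabSub Q₀ f₀) := Fintype.ofFinite _
  have hUGN : UG ≤ Subgroup.normalizer
      ((Subgroup.centralizer (Q₀ : Set G) : Subgroup G) : Set G) := le_trans hUGT hTN
  have hCS : Subgroup.centralizer (Q₀ : Set G) ≤ S := by
    rw [hS]
    exact le_sup_right
  have hUS : UG ≤ S := by
    rw [hS]
    exact le_sup_left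
  have hST : S ≤ bp_stabSub Q₀ f₀ := by
    rw [hS]
    exact sup_le hUGT hCT₀
  have hSN : S ≤ Subgroup.normalizer
      ((Subgroup.centralizer (Q₀ : Set G) : Subgroup G) : Set G) := le_trans hST hTN
  have hSmem : ∀ s ∈ S, ∃ u ∈ UG, ∃ c ∈ Subgroup.centralizer (Q₀ : Set G), u * c = s := by
    intro s hs
    have h1 : s ∈ ((UG ⊔ Subgroup.centralizer (Q₀ : Set G) : Subgroup G) : Set G) := by
      rw [← hS]
      exact hs
    rw [Subgroup.coe_mul_of_left_le_normalizer_right UG _ hUGN, Set.mem_mul] at h1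
    exact h1
  haveI hnormS : ((Subgroup.centralizer (Q₀ : Set G)).subgroupOf S).Normal :=
    Subgroup.normal_subgroupOf_of_le_normalizer hSN
  have hidx : ∃ j : ℕ, ((Subgroup.centralizer (Q₀ : Set G)).subgroupOf S).index = p ^ j := by
    have hpg : IsPGroup p (S ⧸ (Subgroup.centralizer (Q₀ : Set G)).subgroupOf S) := by
      intro q
      obtain ⟨s, rfl⟩ := QuotientGroup.mk_surjective q
      obtain ⟨u, hu, c, hc, huc⟩ := hSmem s s.2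
      obtain ⟨k, hk⟩ := hUGp ⟨u, hu⟩
      refine ⟨k, ?_⟩
      have hk' : u ^ p ^ k = 1 := by
        have h2 : (((⟨u, hu⟩ : UG) ^ p ^ k : UG) : G) = 1 := by
          rw [hk]
          rfl
        rwa [Subgroup.coe_pow] at h2
      have e1 : (QuotientGroup.mk s : S ⧸ (Subgroup.centralizer (Q₀ : Set G)).subgroupOf S)
          = QuotientGroup.mk (⟨u, hUS hu⟩ : S) := by
        rw [QuotientGroup.eq, Subgroup.mem_subgroupOf]
        have e2 : (((s⁻¹ * (⟨u, hUS hu⟩ : S) : S)) : G) = c⁻¹ := by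
          show (s : G)⁻¹ * u = c⁻¹
          rw [← huc]
          group
        rw [e2]
        exact Subgroup.inv_mem _ hc
      rw [e1, ← QuotientGroup.mk_pow, QuotientGroup.eq_one_iff, Subgroup.mem_subgroupOf]
      have e3 : (((⟨u, hUS hu⟩ : S) ^ p ^ k : S) : G) = 1 := by
        rw [Subgroup.coe_pow]
        exact hk'
      rw [e3]
      exact Subgroup.one_mem _
    obtain ⟨j, hj⟩ := IsPGroup.iff_card.mp hpg
    exact ⟨j, by rw [Subgroup.index_eq_card]; exact hj⟩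
  have hstS : ∀ x ∈ S, StabilizesBlock (Subgroup.centralizer (Q₀ : Set G)) f₀ x :=
    fun x hx => (hST hx).2
  obtain ⟨χS, hcoS⟩ := bp_stable_exists hM (Subgroup.centralizer (Q₀ : Set G)) S hCS hSN f₀ hf₀
    hstS hidx
  haveI : Fintype S := Fintype.ofFinite _
  have hN₀ := bp_refl_normal (p := p) (M := M) Q₀ f₀ ⟨hQ₀, hf₀⟩
  have hQ₀S : Q₀ ≤ S := le_trans hQ₀U hUS
  obtain ⟨a₀', ha₀', ha₀'1, hp₀'⟩ := bp_sub_pair Q₀ f₀ S hCS (blockOf M (χS : S → ℂ)) ⟨χS, rfl⟩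
    hcoS Q₀ f₀ hN₀ hQ₀S
  obtain ⟨b', hchain', hb'max⟩ := bp_exists_max (p := p) (M := M) (blockOf M (χS : S → ℂ)) _ a₀'
    hp₀' le_rfl
  have hD : IsDefectGroup p M (blockOf M (χS : S → ℂ)) b'.1 := bp_max_defect hM _ b'.1 b'.2 hb'max
  have hsup := bp_stable_sup hM (Subgroup.centralizer (Q₀ : Set G)) S hCS hSN f₀ hf₀ hstS hidx χS
    hcoS b'.1 hD
  have hNS : b'.1 ≤ Subgroup.normalizer (a₀'.1 : Set S) := by
    rw [ha₀'1]
    intro s _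
    exact (bh_norm_iff S Q₀ hQ₀S s).mpr (hST s.2).1
  have hN' : NormalSubpairRel p M a₀' b' := bp_collapse hM a₀' b' hchain' hp₀'.1 hNS
  have hC' : Subgroup.centralizer ((b'.1.map S.subtype : Subgroup G) : Set G) ≤ S := by
    refine le_trans (Subgroup.centralizer_le ?_) hCS
    intro q hq
    have h1 : (⟨q, hQ₀S hq⟩ : S) ∈ a₀'.1 := by
      rw [ha₀'1]
      exact Subgroup.mem_subgroupOf.mpr hq
    exact Subgroup.mem_map.mpr ⟨⟨q, hQ₀S hq⟩, hN'.2.2.1 h1, rfl⟩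
  obtain ⟨b, hb⟩ : ∃ b : BrauerPairIdx G, bh_rel S b' b := ⟨_, bh_up S b' hC'⟩
  have hNG : NormalSubpairRel p M (⟨Q₀, f₀⟩ : BrauerPairIdx G) b :=
    bh_normal S a₀' b' ⟨Q₀, f₀⟩ b hN' ha₀' hb
  obtain ⟨R, g⟩ := b
  have hNG' : IsNormalSubpair p M Q₀ f₀ R g := hNG
  obtain ⟨hsR0, -, -⟩ := id hb
  have hsR : bh_sub S b'.1 R := hsR0
  obtain ⟨t, a₄, g₂, hrel₄, hch₄, -, hN₂⟩ := bp_fn_conj hM P e hPe Q₀ f₀ hQ₀P hf₀ hle₀ χ₀ hco₀
    hfn R g hNG'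
  have hRt : ∀ r ∈ R, (t : G) * r * (t : G)⁻¹ ∈ P ⊓ Subgroup.normalizer (Q₀ : Set G) := by
    intro r hr
    have h1 : (t : G) * r * (t : G)⁻¹ ∈ a₄.1 := (hrel₄.1 _).mpr ⟨r, hr, rfl⟩
    exact pf_le _ _ hch₄ h1
  exact ⟨χS, hcoS, b', t, hb'max, hsup, fun d hd => hRt _ ((hsR _).mpr ⟨d, hd, rfl⟩)⟩

set_option maxHeartbeats 1600000 in
/-- fully normalized `(Q₀, f₀)`: `N_P(Q₀)` is a defect group of the block of `N_P(Q₀) C_G(Q₀)` with
the idempotent of `f₀`. -/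
theorem bp_fn_L {p : ℕ} [Fact p.Prime] {M : Ideal AlgInt} (hM : IsPModular p M)
    [hMp : M.IsPrime] (P : Subgroup G)
    (e : Set (IrrCharacter (Subgroup.centralizer (P : Set G)))) (hPe : IsBrauerPair p M P e)
    (Q₀ : Subgroup G) (f₀ : Set (IrrCharacter (Subgroup.centralizer (Q₀ : Set G))))
    (hQ₀P : Q₀ ≤ P) (hf₀ : IsPBlock M f₀) (hle₀ : SubpairLE p M Q₀ f₀ P e)
    (χ₀ : IrrCharacter (bp_stabSub Q₀ f₀))
    (hco₀ : ∀ t : bp_stabSub Q₀ f₀, blockCoeff (blockOf M (χ₀ : bp_stabSub Q₀ f₀ → ℂ)) t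
      = subgroupBlockCoeff (Subgroup.centralizer (Q₀ : Set G)) f₀ (t : G))
    (hfn : IsDefectGroup p M (blockOf M (χ₀ : bp_stabSub Q₀ f₀ → ℂ))
      ((P ⊓ Subgroup.normalizer (Q₀ : Set G)).subgroupOf (bp_stabSub Q₀ f₀)))
    (L : Subgroup G)
    (hL : L = (P ⊓ Subgroup.normalizer (Q₀ : Set G)) ⊔ Subgroup.centralizer (Q₀ : Set G)) :
    ∃ χL : IrrCharacter L,
      (∀ s : L, blockCoeff (blockOf M (χL : L → ℂ)) s
        = subgroupBlockCoeff (Subgroup.centralizer (Q₀ : Set G)) f₀ (s : G)) ∧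
      IsDefectGroup p M (blockOf M (χL : L → ℂ))
        ((P ⊓ Subgroup.normalizer (Q₀ : Set G)).subgroupOf L) := by
  classical
  obtain ⟨g₂, hN₂, -⟩ := bp_normP_pair hM P Q₀ e f₀ hPe hQ₀P hf₀ hle₀
  have hNPT : P ⊓ Subgroup.normalizer (Q₀ : Set G) ≤ bp_stabSub Q₀ f₀ := fun x hx =>
    ⟨hx.2, hN₂.2.2.2.2.1 x hx⟩
  have hCL : Subgroup.centralizer (Q₀ : Set G) ≤ L := by
    rw [hL]
    exact le_sup_right
  have hNPL : P ⊓ Subgroup.normalizer (Q₀ : Set G) ≤ L := by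
    rw [hL]
    exact le_sup_left
  obtain ⟨χL, hcoL, b', t, hb'max, -, hconj⟩ := bp_fn_sub hM P e hPe Q₀ f₀ hQ₀P hf₀ hle₀ χ₀ hco₀
    hfn (P ⊓ Subgroup.normalizer (Q₀ : Set G)) hNPT (hPe.1.to_le inf_le_left)
    (le_inf hQ₀P Subgroup.le_normalizer) L hL
  haveI : Fintype L := Fintype.ofFinite _
  refine ⟨χL, hcoL, ?_⟩
  have hD : IsDefectGroup p M (blockOf M (χL : L → ℂ)) b'.1 := bp_max_defect hM _ b'.1 b'.2 hb'max
  have hcard1 : Nat.card b'.1 ≤ Nat.card (P ⊓ Subgroup.normalizer (Q₀ : Set G) : Subgroup G) := by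
    refine Nat.card_le_card_of_injective (fun d : b'.1 =>
      (⟨(t : G) * ((d : L) : G) * (t : G)⁻¹, hconj d d.2⟩ :
        (P ⊓ Subgroup.normalizer (Q₀ : Set G) : Subgroup G))) ?_
    intro d₁ d₂ h
    have h1 : (t : G) * ((d₁ : L) : G) * (t : G)⁻¹ = (t : G) * ((d₂ : L) : G) * (t : G)⁻¹ :=
      congrArg Subtype.val h
    exact Subtype.ext (Subtype.ext (mul_left_cancel (mul_right_cancel h1)))
  obtain ⟨a₂', ha₂', ha₂'1, hp₂'⟩ := bp_sub_pair Q₀ f₀ L hCL (blockOf M (χL : L → ℂ)) ⟨χL, rfl⟩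
    hcoL _ g₂ hN₂ hNPL
  obtain ⟨b'', hch'', hb''max⟩ := bp_exists_max (p := p) (M := M) (blockOf M (χL : L → ℂ)) _ a₂'
    hp₂' le_rfl
  have hD'' : IsDefectGroup p M (blockOf M (χL : L → ℂ)) b''.1 :=
    bp_max_defect hM _ b''.1 b''.2 hb''max
  obtain ⟨z, hz⟩ := defect_groups_conj hM χL _ _ hD hD''
  have hcard2 : Nat.card b''.1 = Nat.card b'.1 := by
    rw [hz, Subgroup.card_map_of_injective (f := (MulAut.conj z).toMonoidHom)
      (MulAut.conj z).injective]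
  have hle2 : a₂'.1 ≤ b''.1 := pf_le _ _ hch''
  have hcard3 : Nat.card a₂'.1
      = Nat.card (P ⊓ Subgroup.normalizer (Q₀ : Set G) : Subgroup G) := by
    rw [ha₂'1]
    exact Nat.card_congr (Subgroup.subgroupOfEquivOfLe hNPL).toEquiv
  have heq : a₂'.1 = b''.1 := Subgroup.eq_of_le_of_card_ge hle2 (by
    rw [hcard2, hcard3]
    exact hcard1)
  rw [← ha₂'1, heq]
  exact hD''

set_option maxHeartbeats 3200000 in
/-- a fully normalized subgroup is receptive. -/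
theorem bp_fn_receptive {p : ℕ} [Fact p.Prime] {M : Ideal AlgInt} (hM : IsPModular p M)
    [hMp : M.IsPrime] (B : Set (IrrCharacter G)) (P : Subgroup G)
    (e : Set (IrrCharacter (Subgroup.centralizer (P : Set G)))) (hmax : IsMaximalBrauerPair p M B P e)
    (F : FusionSystem P) (hF : IsBlockFusionSystemOn p M B P e F)
    (Q₀ : Subgroup G) (f₀ : Set (IrrCharacter (Subgroup.centralizer (Q₀ : Set G))))
    (hQ₀P : Q₀ ≤ P) (hf₀ : IsPBlock M f₀) (hle₀ : SubpairLE p M Q₀ f₀ P e)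
    (χ₀ : IrrCharacter (bp_stabSub Q₀ f₀))
    (hco₀ : ∀ t : bp_stabSub Q₀ f₀, blockCoeff (blockOf M (χ₀ : bp_stabSub Q₀ f₀ → ℂ)) t
      = subgroupBlockCoeff (Subgroup.centralizer (Q₀ : Set G)) f₀ (t : G))
    (hfn : IsDefectGroup p M (blockOf M (χ₀ : bp_stabSub Q₀ f₀ → ℂ))
      ((P ⊓ Subgroup.normalizer (Q₀ : Set G)).subgroupOf (bp_stabSub Q₀ f₀))) :
    F.IsReceptive Q₀ := by
  classical
  have hPe := hmax.1.1
  refine ⟨hQ₀P, fun R φ hφ hrange => ?_⟩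
  obtain ⟨hRP, g, hg, hgP, fR, hleR, hleR'⟩ := (hF.2 R φ).mp hφ
  have hmapeq : R.map (MulAut.conj g).toMonoidHom = Q₀ := by
    rw [← hrange]
    ext y
    rw [MonoidHom.mem_range, pf_conj_mem]
    constructor
    · rintro ⟨q, hq, rfl⟩
      exact ⟨⟨q, hq⟩, hg ⟨q, hq⟩⟩
    · rintro ⟨u, rfl⟩
      exact ⟨(u : G), u.2, (hg u).symm⟩
  have haeq : (⟨R.map (MulAut.conj g).toMonoidHom, conjBlock R g fR⟩ : BrauerPairIdx G)
      = ⟨Q₀, f₀⟩ := bp_sub_eq hM P e hPe Q₀ f₀ hQ₀P hf₀ hle₀ _ hleR' hmapeq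
  have hrel : bc_rel g (⟨R, fR⟩ : BrauerPairIdx G) ⟨Q₀, f₀⟩ := by
    have h1 := bc_rel_cj g (⟨R, fR⟩ : BrauerPairIdx G)
    rw [haeq] at h1
    exact h1
  have hsR : bc_sub g R Q₀ := hrel.1
  obtain ⟨L, hL⟩ : ∃ L : Subgroup G,
      L = (P ⊓ Subgroup.normalizer (Q₀ : Set G)) ⊔ Subgroup.centralizer (Q₀ : Set G) := ⟨_, rfl⟩
  obtain ⟨χL, hcoL, hfnL⟩ := bp_fn_L hM P e hPe Q₀ f₀ hQ₀P hf₀ hle₀ χ₀ hco₀ hfn L hL
  have hCL : Subgroup.centralizer (Q₀ : Set G) ≤ L := by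
    rw [hL]
    exact le_sup_right
  have hNPL : P ⊓ Subgroup.normalizer (Q₀ : Set G) ≤ L := by
    rw [hL]
    exact le_sup_left
  have hLN : L ≤ Subgroup.normalizer (Q₀ : Set G) := by
    rw [hL]
    exact sup_le inf_le_right (Subgroup.centralizer_le_normalizer _)
  have hNPNC : P ⊓ Subgroup.normalizer (Q₀ : Set G) ≤ Subgroup.normalizer
      ((Subgroup.centralizer (Q₀ : Set G) : Subgroup G) : Set G) :=
    fun x hx => pf_norm_cent Q₀ x hx.2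
  obtain ⟨N, hNdef⟩ : ∃ N : Subgroup G, N = FusionSystem.extender P R φ := ⟨_, rfl⟩
  have hN1 : N ≤ P ⊓ Subgroup.normalizer (R : Set G) := by
    rw [hNdef]
    unfold FusionSystem.extender
    rw [Subgroup.closure_le]
    rintro y ⟨hyP, hyN, -⟩
    exact ⟨hyP, hyN⟩
  have hRN : R ≤ N := by
    intro y hy
    rw [hNdef]
    unfold FusionSystem.extender
    apply Subgroup.subset_closure
    refine ⟨hRP hy, Subgroup.le_normalizer hy, φ ⟨y, hy⟩, ?_, ?_⟩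
    · rw [hg]
      exact hgP ((pf_conj_mem R g _).mpr ⟨y, hy, rfl⟩)
    · intro x hx
      rw [hg, hg, hg]
      show g * (y * (x : G) * y⁻¹) * g⁻¹ = g * y * g⁻¹ * (g * (x : G) * g⁻¹) * (g * y * g⁻¹)⁻¹
      group
  have hNgL : ∀ y ∈ N, g * y * g⁻¹ ∈ L := by
    have hle : N ≤ L.comap (MulAut.conj g).toMonoidHom := by
      rw [hNdef]
      unfold FusionSystem.extender
      rw [Subgroup.closure_le]
      rintro y ⟨hyP, hyN, h, hhP, hh⟩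
      show g * y * g⁻¹ ∈ L
      have hc : h⁻¹ * (g * y * g⁻¹) ∈ Subgroup.centralizer (Q₀ : Set G) := by
        rw [Subgroup.mem_centralizer_iff]
        intro q hq
        obtain ⟨x, hx, rfl⟩ := (hsR q).mp hq
        have hx' : y * x * y⁻¹ ∈ R := (Subgroup.mem_normalizer_iff.mp hyN x).mp hx
        have h1 := hh ⟨x, hx⟩ hx'
        rw [hg, hg] at h1
        have h1' : g * (y * x * y⁻¹) * g⁻¹ = h * (g * x * g⁻¹) * h⁻¹ := h1
        calc g * x * g⁻¹ * (h⁻¹ * (g * y * g⁻¹))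
            = h⁻¹ * (h * (g * x * g⁻¹) * h⁻¹) * (g * y * g⁻¹) := by group
          _ = h⁻¹ * (g * (y * x * y⁻¹) * g⁻¹) * (g * y * g⁻¹) := by rw [h1']
          _ = h⁻¹ * (g * y * g⁻¹) * (g * x * g⁻¹) := by group
      have hgyN : g * y * g⁻¹ ∈ Subgroup.normalizer (Q₀ : Set G) := bc_norm hsR y hyN
      have hhN : h ∈ Subgroup.normalizer (Q₀ : Set G) := by
        have e1 : h = (g * y * g⁻¹) * (h⁻¹ * (g * y * g⁻¹))⁻¹ := by group
        rw [e1]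
        exact Subgroup.mul_mem _ hgyN
          (Subgroup.inv_mem _ (Subgroup.centralizer_le_normalizer _ hc))
      have e2 : g * y * g⁻¹ = h * (h⁻¹ * (g * y * g⁻¹)) := by group
      rw [e2, hL]
      exact Subgroup.mul_mem _ (Subgroup.mem_sup_left ⟨hhP, hhN⟩) (Subgroup.mem_sup_right hc)
    intro y hy
    exact hle hy
  have hNP : N ≤ P := le_trans hN1 inf_le_left
  have hNNR : N ≤ Subgroup.normalizer (R : Set G) := le_trans hN1 inf_le_right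
  obtain ⟨eN, heN, hleN⟩ := bp_sub_exists hM P e hPe _ N hNP le_rfl
  have hNpair : IsBrauerPair p M N eN := ⟨hPe.1.to_le hNP, heN⟩
  obtain ⟨f', hf', hle'⟩ := bp_sub_exists hM N eN hNpair _ R hRN le_rfl
  have hfR : IsPBlock M fR := (bp_chain_pair (⟨R, fR⟩ : BrauerPairIdx G) ⟨P, e⟩ hleR hPe).2
  have hu : f' = fR := bp_sub_unique hM P e hPe _ R hRP le_rfl f' fR hf' hfR
    (hle'.trans hleN) hleR
  rw [hu] at hle'
  have hNrm : NormalSubpairRel p M (⟨R, fR⟩ : BrauerPairIdx G) ⟨N, eN⟩ :=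
    bp_collapse hM ⟨R, fR⟩ ⟨N, eN⟩ hle' ⟨hPe.1.to_le hRP, hfR⟩ hNNR
  obtain ⟨aN, haN⟩ : ∃ aN : BrauerPairIdx G,
      aN = ⟨N.map (MulAut.conj g).toMonoidHom, conjBlock N g eN⟩ := ⟨_, rfl⟩
  have hrelN : bc_rel g (⟨N, eN⟩ : BrauerPairIdx G) aN := by
    rw [haN]
    exact bc_rel_cj g ⟨N, eN⟩
  clear haN
  have hNrm' : NormalSubpairRel p M (⟨Q₀, f₀⟩ : BrauerPairIdx G) aN :=
    bc_normal g ⟨R, fR⟩ ⟨N, eN⟩ ⟨Q₀, f₀⟩ aN hNrm hrel hrelN
  obtain ⟨R₃, g₃⟩ := aN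
  have hNrm'' : IsNormalSubpair p M Q₀ f₀ R₃ g₃ := hNrm'
  have hsN : bc_sub g N R₃ := hrelN.1
  have hR₃L : R₃ ≤ L := by
    intro r hr
    obtain ⟨y, hy, rfl⟩ := (hsN r).mp hr
    exact hNgL y hy
  obtain ⟨l, a₄, g₂, hrel₄, hch₄, hg₂P, -⟩ := bp_fn_conj' hM P e hPe Q₀ f₀ hQ₀P hf₀ hle₀ L hCL
    hLN hNPL χL hcoL hfnL R₃ g₃ hNrm'' hR₃L
  have hl : (l : G) ∈ (((P ⊓ Subgroup.normalizer (Q₀ : Set G)) ⊔
      Subgroup.centralizer (Q₀ : Set G) : Subgroup G) : Set G) := by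
    rw [← hL]
    exact l.2
  rw [Subgroup.coe_mul_of_left_le_normalizer_right _ _ hNPNC, Set.mem_mul] at hl
  obtain ⟨u, hu', c, hc, huc⟩ := hl
  obtain ⟨a₅, ha₅⟩ : ∃ a₅ : BrauerPairIdx G, bc_rel c (⟨R₃, g₃⟩ : BrauerPairIdx G) a₅ :=
    ⟨_, bc_rel_cj c _⟩
  have h64 : bc_rel u a₅ a₄ := by
    have h1 := bc_rel_cj u a₅
    have h2 := bc_rel_mul ha₅ h1
    rw [huc] at h2
    have h3 := bc_rel_unique h2 hrel₄
    rw [h3] at h1
    exact h1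
  have huP : u ∈ P := hu'.1
  have hPP : bc_rel u⁻¹ (⟨P, e⟩ : BrauerPairIdx G) ⟨P, e⟩ :=
    bc_stab_self u⁻¹ P e (Subgroup.le_normalizer (P.inv_mem huP))
      (bp_self_stab P e u⁻¹ (P.inv_mem huP)) (by
        rw [inv_inv]
        exact bp_self_stab P e u huP)
  have hch₅ : Relation.ReflTransGen (NormalSubpairRel p M) a₅ ⟨P, e⟩ :=
    bc_chain u⁻¹ a₄ ⟨P, e⟩ (hch₄.trans hg₂P) a₅ ⟨P, e⟩ (bc_rel_inv h64) hPP
  have hrel₅ : bc_rel (c * g) (⟨N, eN⟩ : BrauerPairIdx G) a₅ := bc_rel_mul hrelN ha₅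
  have heq₅ := bc_rel_unique (bc_rel_cj (c * g) (⟨N, eN⟩ : BrauerPairIdx G)) hrel₅
  have hfin : SubpairLE p M (N.map (MulAut.conj (c * g)).toMonoidHom)
      (conjBlock N (c * g) eN) P e := by
    show Relation.ReflTransGen (NormalSubpairRel p M)
      (⟨N.map (MulAut.conj (c * g)).toMonoidHom, conjBlock N (c * g) eN⟩ : BrauerPairIdx G)
      ⟨P, e⟩
    rw [heq₅]
    exact hch₅
  have hψ : conjHom N (c * g) ∈ F.Hom N :=
    (hF.2 N _).mpr ⟨hNP, c * g, fun u => rfl, pf_le _ _ hfin, eN, hleN, hfin⟩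
  subst hNdef
  refine ⟨_, hψ, fun x hxR hxN => ?_⟩
  have hq : g * x * g⁻¹ ∈ Q₀ := (hsR _).mpr ⟨x, hxR, rfl⟩
  have h1 := Subgroup.mem_centralizer_iff.mp hc _ hq
  rw [hg]
  show c * g * x * (c * g)⁻¹ = g * x * g⁻¹
  calc c * g * x * (c * g)⁻¹ = (c * (g * x * g⁻¹)) * c⁻¹ := by group
    _ = (g * x * g⁻¹ * c) * c⁻¹ := by rw [h1]
    _ = g * x * g⁻¹ := by group

set_option maxHeartbeats 800000 in
/-- the fusion system of a block is saturated. -/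
theorem bp_saturated {p : ℕ} [Fact p.Prime] {M : Ideal AlgInt} (hM : IsPModular p M)
    [hMp : M.IsPrime] (B : Set (IrrCharacter G)) (P : Subgroup G)
    (e : Set (IrrCharacter (Subgroup.centralizer (P : Set G)))) (hmax : IsMaximalBrauerPair p M B P e)
    (F : FusionSystem P) (hF : IsBlockFusionSystemOn p M B P e F) : F.IsSaturated p := by
  classical
  have hPe := hmax.1.1
  intro Q hQP
  obtain ⟨f, hf, hle⟩ := bp_sub_exists hM P e hPe _ Q hQP le_rfl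
  obtain ⟨y₀, hchain₀, hall⟩ := bp_norm_defect_conj hM B P Q e f hmax hQP hf hle
    (bp_stabSub Q f) (fun y => Iff.rfl)
  obtain ⟨F₀, hF₀, hco₀, hfn⟩ := hall (bp_stabSub _ (conjBlock Q y₀ f)) (fun y => Iff.rfl)
  obtain ⟨χ₀, rfl⟩ := hF₀
  have hQ₀P : Q.map (MulAut.conj y₀).toMonoidHom ≤ P := pf_le _ _ hchain₀
  have hf₀ : IsPBlock M (conjBlock Q y₀ f) := (bp_chain_pair _ ⟨P, e⟩ hchain₀ hPe).2
  exact ⟨_, bp_fus_conj B P e F hF Q f hQP hle y₀ hchain₀,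
    bp_fn_automized hM B P e hmax F hF _ _ hQ₀P hf₀ hchain₀ χ₀ hco₀ hfn,
    bp_fn_receptive hM B P e hmax F hF _ _ hQ₀P hf₀ hchain₀ χ₀ hco₀ hfn⟩

end Cfsg.Agent.Helper24
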