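import Mathlib
import Cfsg.Agent.Helper24.BP28
import Cfsg.Agent.Helper5.Wt1

/-!
helper24: a Brauer pair is maximal iff it carries a weight-like character (defect zero modulo the
centre of `Q`) and its stabilizer has index prime to `p` over `Q C_G(Q)`.
-/

set_option autoImplicit false

namespace Cfsg.Agent.Helper24

open Cfsg Cfsg.Agent.Helper5 Cfsg.Agent.Helper22

universe u

variable {G : Type u} [Group G] [Fintype G]

set_option maxHeartbeats 1600000 in
theorem bp_max_of_weight {p : ℕ} [Fact p.Prime] {M : Ideal AlgInt} (hM : IsPModular p M)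
    [hMp : M.IsPrime] (Q : Subgroup G) (e : Set (IrrCharacter (Subgroup.centralizer (Q : Set G)))) (he : IsBrauerPair p M Q e)
    (θ : IrrCharacter (Subgroup.centralizer (Q : Set G))) (hθ : θ ∈ e)
    (h1 : ∀ z : (Subgroup.centralizer (Q : Set G)), (z : G) ∈ Q → (θ : (Subgroup.centralizer (Q : Set G)) → ℂ) z = (θ : (Subgroup.centralizer (Q : Set G)) → ℂ) 1)
    (h2 : (charDegree (θ : (Subgroup.centralizer (Q : Set G)) → ℂ)).factorization p + (Nat.card ↥(Q ⊓ (Subgroup.centralizer (Q : Set G)))).factorization p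
      = (Nat.card (Subgroup.centralizer (Q : Set G))).factorization p)
    (h3 : ∀ g : G, g ∈ Subgroup.normalizer (Q : Set G) → StabilizesBlock (Subgroup.centralizer (Q : Set G)) e g → (∃ k : ℕ, orderOf g = p ^ k) → g ∈ Q ⊔ (Subgroup.centralizer (Q : Set G))) :
    ∃ B : Set (IrrCharacter G), IsMaximalBrauerPair p M B Q e := by
  classical
  have hp := (Fact.out : p.Prime)
  haveI : Fintype (Subgroup.centralizer (Q : Set G)) := Fintype.ofFinite _
  obtain ⟨Z', hZ'⟩ : ∃ Z' : Subgroup (Subgroup.centralizer (Q : Set G)), Z' = (Q ⊓ (Subgroup.centralizer (Q : Set G))).subgroupOf (Subgroup.centralizer (Q : Set G)) := ⟨_, rfl⟩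
  have hZmem : ∀ z : (Subgroup.centralizer (Q : Set G)), z ∈ Z' ↔ (z : G) ∈ Q := by
    intro z
    rw [hZ', Subgroup.mem_subgroupOf]
    exact ⟨fun h => h.1, fun h => ⟨h, z.2⟩⟩
  have hZc : Z' ≤ Subgroup.center (Subgroup.centralizer (Q : Set G)) := by
    intro z hz
    rw [Subgroup.mem_center_iff]
    intro c
    apply Subtype.ext
    have hzQ := (hZmem z).mp hz
    have hcz := Subgroup.mem_centralizer_iff.mp c.2 (z : G) hzQ
    show (c : G) * (z : G) = (z : G) * (c : G)
    exact hcz.symm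
  haveI hZn : Z'.Normal := ⟨fun n hn g => by
    have h := Subgroup.mem_center_iff.mp (hZc hn) g
    rw [h, mul_inv_cancel_right]
    exact hn⟩
  have hZp : IsPGroup p Z' := by
    rw [hZ']
    exact (he.1.to_le inf_le_left).comap_subtype
  have hZcard : Nat.card Z' = Nat.card ↥(Q ⊓ (Subgroup.centralizer (Q : Set G))) := by
    rw [hZ']
    exact Nat.card_congr (Subgroup.subgroupOfEquivOfLe inf_le_right).toEquiv
  have hD : IsDefectGroup p M (blockOf M (θ : (Subgroup.centralizer (Q : Set G)) → ℂ)) Z' :=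
    defect_of_central_quot hM Z' hZp hZc θ (fun z hz => h1 z ((hZmem z).mp hz))
      (by rw [hZcard]; exact le_of_eq h2.symm)
  obtain ⟨χ₀, hχ₀⟩ := he.2
  have hθ' : SameBlock M (χ₀ : (Subgroup.centralizer (Q : Set G)) → ℂ) (θ : (Subgroup.centralizer (Q : Set G)) → ℂ) := by
    rw [hχ₀] at hθ
    exact hθ
  have heθ : e = blockOf M (θ : (Subgroup.centralizer (Q : Set G)) → ℂ) := by
    rw [hχ₀]
    exact blockOf_eq_of_sameBlock hθ'
  obtain ⟨B, hB, -⟩ := brauerPair_unique_block hM Q e he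
  obtain ⟨b, hchain, hmax'⟩ := bp_exists_max (p := p) (M := M) B _ ⟨Q, e⟩ hB le_rfl
  refine ⟨B, ?_⟩
  have hQb : Q ≤ b.1 := pf_le _ _ hchain
  obtain ⟨b', hb'max, hb'le⟩ := bp_cent_defect_le hM B b.1 Q b.2 e hmax' hQb he.2 hchain
  have hD' := bp_max_defect hM e b'.1 b'.2 hb'max
  rw [heθ] at hD'
  obtain ⟨z, hz⟩ := defect_groups_conj hM θ _ _ hD hD'
  have hcard : Nat.card b'.1 = Nat.card Z' := by
    rw [hz, Subgroup.card_map_of_injective (f := (MulAut.conj z).toMonoidHom)
      (MulAut.conj z).injective]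
  have hZb : Z' ≤ b'.1 := by
    refine le_trans ?_ hb'le
    intro c hc
    rw [Subgroup.mem_subgroupOf]
    exact ⟨hQb ((hZmem c).mp hc), c.2⟩
  have hZeq : Z' = b'.1 := Subgroup.eq_of_le_of_card_ge hZb (le_of_eq hcard)
  have hPC : ∀ c : G, c ∈ b.1 → c ∈ (Subgroup.centralizer (Q : Set G)) → c ∈ Q := by
    intro c hcP hcC
    have h : (⟨c, hcC⟩ : (Subgroup.centralizer (Q : Set G))) ∈ b'.1 := hb'le (Subgroup.mem_subgroupOf.mpr ⟨hcP, hcC⟩)
    rw [← hZeq] at h
    exact (hZmem _).mp h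
  have hbpair : IsBrauerPair p M b.1 b.2 := hmax'.1.1
  have hQeq : Q = b.1 := by
    by_contra hne
    have hgrow := bp_norm_grow b.1 Q hbpair.1 hQb hne
    obtain ⟨g, hN, -⟩ := bp_normP_pair hM b.1 Q b.2 e hbpair hQb he.2 hchain
    have hQN : Q ≤ Subgroup.normalizer (((Subgroup.centralizer (Q : Set G)) : Subgroup G) : Set G) := fun q hq =>
      pf_norm_cent Q q (Subgroup.le_normalizer hq)
    have hsub : b.1 ⊓ Subgroup.normalizer (Q : Set G) ≤ Q := by
      intro x hx
      have hstab := hN.2.2.2.2.1 x hx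
      have hord : ∃ k : ℕ, orderOf x = p ^ k := by
        obtain ⟨k, hk⟩ := (IsPGroup.iff_orderOf.mp hbpair.1) ⟨x, hx.1⟩
        exact ⟨k, by rw [← hk, Subgroup.orderOf_mk]⟩
      have hx3 := h3 x hx.2 hstab hord
      have hx4 : x ∈ ((Q ⊔ (Subgroup.centralizer (Q : Set G)) : Subgroup G) : Set G) := hx3
      rw [Subgroup.coe_mul_of_left_le_normalizer_right Q (Subgroup.centralizer (Q : Set G)) hQN] at hx4
      obtain ⟨q, hq, c, hc, hqc⟩ := Set.mem_mul.mp hx4
      have hcP : c ∈ b.1 := by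
        have hc' : c = q⁻¹ * x := by rw [← hqc]; group
        rw [hc']
        exact Subgroup.mul_mem _ (Subgroup.inv_mem _ (hQb hq)) hx.1
      rw [← hqc]
      exact Subgroup.mul_mem _ hq (hPC c hcP hc)
    exact absurd (Subgroup.card_le_of_le hsub) (not_le.mpr hgrow)
  have hbeq : (⟨Q, e⟩ : BrauerPairIdx G) = b :=
    bp_top_eq hM b.1 b.2 hbpair ⟨Q, e⟩ hchain hQeq he.2
  rw [← hbeq] at hmax'
  exact hmax'

set_option maxHeartbeats 1600000 in
theorem bp_weight_of_max {p : ℕ} [Fact p.Prime] {M : Ideal AlgInt} (hM : IsPModular p M)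
    [hMp : M.IsPrime] (B : Set (IrrCharacter G)) (Q : Subgroup G) (e : Set (IrrCharacter (Subgroup.centralizer (Q : Set G))))
    (hmax : IsMaximalBrauerPair p M B Q e) :
    ∃ θ ∈ e, (∀ z : (Subgroup.centralizer (Q : Set G)), (z : G) ∈ Q → (θ : (Subgroup.centralizer (Q : Set G)) → ℂ) z = (θ : (Subgroup.centralizer (Q : Set G)) → ℂ) 1) ∧
      (charDegree (θ : (Subgroup.centralizer (Q : Set G)) → ℂ)).factorization p + (Nat.card ↥(Q ⊓ (Subgroup.centralizer (Q : Set G)))).factorization p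
        = (Nat.card (Subgroup.centralizer (Q : Set G))).factorization p ∧
      (∀ g : G, g ∈ Subgroup.normalizer (Q : Set G) → StabilizesBlock (Subgroup.centralizer (Q : Set G)) e g → (∃ k : ℕ, orderOf g = p ^ k) →
        g ∈ Q ⊔ (Subgroup.centralizer (Q : Set G))) := by
  classical
  have hp := (Fact.out : p.Prime)
  haveI : Fintype (Subgroup.centralizer (Q : Set G)) := Fintype.ofFinite _
  have he := hmax.1.1
  obtain ⟨Z', hZ'⟩ : ∃ Z' : Subgroup (Subgroup.centralizer (Q : Set G)), Z' = (Q ⊓ (Subgroup.centralizer (Q : Set G))).subgroupOf (Subgroup.centralizer (Q : Set G)) := ⟨_, rfl⟩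
  have hZmem : ∀ z : (Subgroup.centralizer (Q : Set G)), z ∈ Z' ↔ (z : G) ∈ Q := by
    intro z
    rw [hZ', Subgroup.mem_subgroupOf]
    exact ⟨fun h => h.1, fun h => ⟨h, z.2⟩⟩
  have hZc : Z' ≤ Subgroup.center (Subgroup.centralizer (Q : Set G)) := by
    intro z hz
    rw [Subgroup.mem_center_iff]
    intro c
    apply Subtype.ext
    have hzQ := (hZmem z).mp hz
    have hcz := Subgroup.mem_centralizer_iff.mp c.2 (z : G) hzQ
    show (c : G) * (z : G) = (z : G) * (c : G)
    exact hcz.symm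
  haveI hZn : Z'.Normal := ⟨fun n hn g => by
    have h := Subgroup.mem_center_iff.mp (hZc hn) g
    rw [h, mul_inv_cancel_right]
    exact hn⟩
  have hZp : IsPGroup p Z' := by
    rw [hZ']
    exact (he.1.to_le inf_le_left).comap_subtype
  have hZcard : Nat.card Z' = Nat.card ↥(Q ⊓ (Subgroup.centralizer (Q : Set G))) := by
    rw [hZ']
    exact Nat.card_congr (Subgroup.subgroupOfEquivOfLe inf_le_right).toEquiv
  obtain ⟨F, hF⟩ := bp_fus_exists hM B Q e hmax
  have hfc : F.IsFullyCentralized Q := by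
    refine ⟨le_rfl, fun Q' hQ' => ?_⟩
    obtain ⟨φ, hφ, hr⟩ := hQ'
    have hle : Q' ≤ Q := by
      rw [← hr]
      rintro _ ⟨x, rfl⟩
      exact (F.le_of_mem hφ).2 x
    have hcard : Nat.card Q ≤ Nat.card Q' := by
      rw [← hr]
      exact le_of_eq (Nat.card_congr (MonoidHom.ofInjective (F.injective_of_mem hφ)).toEquiv)
    have hQQ : Q' = Q := Subgroup.eq_of_le_of_card_ge hle hcard
    exact le_of_eq (by rw [hQQ])
  have hD : IsDefectGroup p M e Z' := by
    have h := (bp_fully_centralized hM B Q e hmax F hF Q e le_rfl he.2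
      Relation.ReflTransGen.refl).mp hfc
    rw [hZ']
    exact h
  obtain ⟨χ₀, hχ₀⟩ := he.2
  rw [hχ₀] at hD
  haveI : Fintype ((Subgroup.centralizer (Q : Set G)) ⧸ Z') := Fintype.ofFinite _
  obtain ⟨ξ₁, hξ₁, hξD⟩ := dominated_block_exists hM Z' hZp χ₀
  have hsurj : Function.Surjective (QuotientGroup.mk' Z') := QuotientGroup.mk'_surjective Z'
  have hbot : IsDefectGroup p M (blockOf M (ξ₁ : (Subgroup.centralizer (Q : Set G)) ⧸ Z' → ℂ)) ⊥ := by
    rw [hξD]
    refine ⟨Z', hD, ?_⟩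
    symm
    rw [eq_bot_iff]
    rintro _ ⟨z, hz, rfl⟩
    rw [Subgroup.mem_bot]
    exact (QuotientGroup.eq_one_iff z).mpr hz
  have hdef := card_defect_group hM ξ₁ ⊥ hbot
  have hdef0 : blockDefect p (blockOf M (ξ₁ : (Subgroup.centralizer (Q : Set G)) ⧸ Z' → ℂ)) = 0 := by
    rw [Subgroup.card_bot] at hdef
    by_contra h
    have h1lt : 1 < p ^ blockDefect p (blockOf M (ξ₁ : (Subgroup.centralizer (Q : Set G)) ⧸ Z' → ℂ)) :=
      Nat.one_lt_pow h hp.one_lt
    omega
  have hsInf : sInf ((fun χ : IrrCharacter ((Subgroup.centralizer (Q : Set G)) ⧸ Z') =>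
      (charDegree (χ : (Subgroup.centralizer (Q : Set G)) ⧸ Z' → ℂ)).factorization p) '' blockOf M (ξ₁ : (Subgroup.centralizer (Q : Set G)) ⧸ Z' → ℂ))
      ≤ (charDegree (ξ₁ : (Subgroup.centralizer (Q : Set G)) ⧸ Z' → ℂ)).factorization p :=
    Nat.sInf_le ⟨ξ₁, sameBlock_refl _, rfl⟩
  have hge : (Nat.card ((Subgroup.centralizer (Q : Set G)) ⧸ Z')).factorization p
      ≤ (charDegree (ξ₁ : (Subgroup.centralizer (Q : Set G)) ⧸ Z' → ℂ)).factorization p := by
    unfold blockDefect at hdef0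
    omega
  obtain ⟨hξ1, hc0, hcdvd⟩ := irr_charDegree_spec ξ₁
  have hle' : (charDegree (ξ₁ : (Subgroup.centralizer (Q : Set G)) ⧸ Z' → ℂ)).factorization p
      ≤ (Nat.card ((Subgroup.centralizer (Q : Set G)) ⧸ Z')).factorization p :=
    (Nat.factorization_le_iff_dvd hc0 Nat.card_pos.ne').mpr hcdvd p
  have hcard : Nat.card (Subgroup.centralizer (Q : Set G)) = Nat.card ((Subgroup.centralizer (Q : Set G)) ⧸ Z') * Nat.card Z' :=
    Subgroup.card_eq_card_quotient_mul_card_subgroup Z'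
  have hfac : (Nat.card (Subgroup.centralizer (Q : Set G))).factorization p
      = (Nat.card ((Subgroup.centralizer (Q : Set G)) ⧸ Z')).factorization p + (Nat.card Z').factorization p := by
    rw [hcard, Nat.factorization_mul Nat.card_pos.ne' Nat.card_pos.ne', Finsupp.add_apply]
  refine ⟨inflIrr (QuotientGroup.mk' Z') hsurj ξ₁, ?_, ?_, ?_, ?_⟩
  · rw [hχ₀]
    exact hξ₁ ξ₁ (sameBlock_refl _) _ rfl
  · intro z hz
    have hz1 : (QuotientGroup.mk' Z') z = 1 :=
      (QuotientGroup.eq_one_iff z).mpr ((hZmem z).mpr hz)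
    rw [inflIrr_apply, inflIrr_apply, map_one, hz1]
  · have hdeg : charDegree (inflIrr (QuotientGroup.mk' Z') hsurj ξ₁ : (Subgroup.centralizer (Q : Set G)) → ℂ)
        = charDegree (ξ₁ : (Subgroup.centralizer (Q : Set G)) ⧸ Z' → ℂ) := by
      unfold charDegree
      rw [inflIrr_apply, map_one]
    rw [hdeg, ← hZcard, hfac]
    omega
  · intro g hgN hgst hgord
    obtain ⟨x, hxle, hxT⟩ := bp_norm_defect_conj hM B Q Q e e hmax le_rfl he.2
      Relation.ReflTransGen.refl (bp_stabSub Q e) (fun y => Iff.rfl)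
    have hxQ : Q.map (MulAut.conj x).toMonoidHom = Q := by
      refine Subgroup.eq_of_le_of_card_ge (pf_le _ _ hxle) ?_
      rw [Subgroup.card_map_of_injective (f := (MulAut.conj x).toMonoidHom)
        (MulAut.conj x).injective]
    have hblk : IsPBlock M (conjBlock Q x e) := (bp_chain_pair _ ⟨Q, e⟩ hxle he).2
    have hpeq := bp_top_eq hM Q e he ⟨Q.map (MulAut.conj x).toMonoidHom, conjBlock Q x e⟩
      hxle hxQ hblk
    have key : ∀ a : BrauerPairIdx G, a = ⟨Q, e⟩ →
        (∀ (T' : Subgroup G), (∀ y : G, y ∈ T' ↔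
            y ∈ Subgroup.normalizer ((a.1 : Subgroup G) : Set G) ∧
            StabilizesBlock (Subgroup.centralizer ((a.1 : Subgroup G) : Set G)) a.2 y) →
          ∃ F' : Set (IrrCharacter T'), IsPBlock M F' ∧
            (∀ t : T', blockCoeff F' t = subgroupBlockCoeff
              (Subgroup.centralizer ((a.1 : Subgroup G) : Set G)) a.2 (t : G)) ∧
            IsDefectGroup p M F'
              ((Q ⊓ Subgroup.normalizer ((a.1 : Subgroup G) : Set G)).subgroupOf T')) →
        ∃ F' : Set (IrrCharacter (bp_stabSub Q e)), IsPBlock M F' ∧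
            (∀ t : bp_stabSub Q e, blockCoeff F' t = subgroupBlockCoeff (Subgroup.centralizer (Q : Set G)) e (t : G)) ∧
            IsDefectGroup p M F' ((Q ⊓ Subgroup.normalizer (Q : Set G)).subgroupOf (bp_stabSub Q e)) := by
      intro a ha h
      subst ha
      exact h (bp_stabSub Q e) (fun y => Iff.rfl)
    obtain ⟨F', hF'blk, hco, hfn⟩ := key _ hpeq hxT
    obtain ⟨χ₁, hχ₁⟩ := hF'blk
    subst hχ₁
    have hnd := bp_fn_sylow hM Q e he Q e le_rfl he.2 Relation.ReflTransGen.refl χ₁ hco hfn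
    haveI : Fintype (bp_stabSub Q e) := Fintype.ofFinite _
    have hTNC : bp_stabSub Q e ≤ Subgroup.normalizer (((Subgroup.centralizer (Q : Set G)) : Subgroup G) : Set G) :=
      fun t ht => pf_norm_cent Q t ht.1
    have hTNQ : bp_stabSub Q e ≤ Subgroup.normalizer (Q : Set G) := fun t ht => ht.1
    have hinf : Q ⊓ Subgroup.normalizer (Q : Set G) = Q := inf_eq_left.mpr Subgroup.le_normalizer
    rw [hinf] at hnd
    haveI hn1 : ((Subgroup.centralizer (Q : Set G)).subgroupOf (bp_stabSub Q e)).Normal :=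
      Subgroup.normal_subgroupOf_of_le_normalizer hTNC
    haveI hn2 : (Q.subgroupOf (bp_stabSub Q e)).Normal :=
      Subgroup.normal_subgroupOf_of_le_normalizer hTNQ
    obtain ⟨L, hL⟩ : ∃ L : Subgroup (bp_stabSub Q e),
        L = (Subgroup.centralizer (Q : Set G)).subgroupOf (bp_stabSub Q e) ⊔ Q.subgroupOf (bp_stabSub Q e) := ⟨_, rfl⟩
    haveI hLn : L.Normal := by
      rw [hL]
      infer_instance
    rw [← hL] at hnd
    obtain ⟨k, hk⟩ := hgord
    obtain ⟨t, ht⟩ : ∃ t : bp_stabSub Q e, (t : G) = g := ⟨⟨g, ⟨hgN, hgst⟩⟩, rfl⟩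
    have ht1 : t ^ (p ^ k) = 1 := by
      apply Subtype.ext
      show (t : G) ^ (p ^ k) = 1
      rw [ht, ← hk]
      exact pow_orderOf_eq_one g
    have hq1 : (QuotientGroup.mk' L t) ^ (p ^ k) = 1 := by
      rw [← map_pow, ht1, map_one]
    have hq2 : (QuotientGroup.mk' L t) ^ L.index = 1 :=
      pow_card_eq_one' (G := bp_stabSub Q e ⧸ L) (x := QuotientGroup.mk' L t)
    have hcop : Nat.Coprime (p ^ k) L.index :=
      Nat.Coprime.pow_left k ((Nat.Prime.coprime_iff_not_dvd hp).mpr hnd)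
    have hord1 : orderOf (QuotientGroup.mk' L t) ∣ 1 := by
      have hgcd := Nat.dvd_gcd (orderOf_dvd_of_pow_eq_one hq1) (orderOf_dvd_of_pow_eq_one hq2)
      rwa [Nat.Coprime.gcd_eq_one hcop] at hgcd
    have hq : QuotientGroup.mk' L t = 1 := orderOf_eq_one_iff.mp (Nat.dvd_one.mp hord1)
    have htL : t ∈ L := (QuotientGroup.eq_one_iff t).mp hq
    have hLle : L ≤ (Q ⊔ (Subgroup.centralizer (Q : Set G))).subgroupOf (bp_stabSub Q e) := by
      rw [hL]
      exact sup_le
        (fun y hy => Subgroup.mem_subgroupOf.mpr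
          (Subgroup.mem_sup_right (Subgroup.mem_subgroupOf.mp hy)))
        (fun y hy => Subgroup.mem_subgroupOf.mpr
          (Subgroup.mem_sup_left (Subgroup.mem_subgroupOf.mp hy)))
    have hfin := Subgroup.mem_subgroupOf.mp (hLle htL)
    rw [ht] at hfin
    exact hfin

end Cfsg.Agent.Helper24
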