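import Cfsg.Agent.Helper24.CharCliff
import Cfsg.Agent.Helper16.OddCore

/-!
# Character theory (helper24): characters with constant `χ 1 - χ u` (or zero) at an element
-/

set_option autoImplicit false

namespace Cfsg.Agent.Helper24

open Cfsg Representation Module

universe u

variable {G : Type u} [Group G]

theorem exists_linear_ne_one [Finite G] (h : commutator G ≠ ⊤) :
    ∃ lam : IrrCharacter G, (lam : G → ℂ) 1 = 1 ∧ (lam : G → ℂ) ≠ fun _ => (1 : ℂ) := by
  by_contra hcon
  have hcon' : ∀ lam : IrrCharacter G, (lam : G → ℂ) 1 = 1 → (lam : G → ℂ) = fun _ => (1 : ℂ) := by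
    intro lam h1
    by_contra hne
    exact hcon ⟨lam, h1, hne⟩
  have hsub : Subsingleton {χ : IrrCharacter G // (χ : G → ℂ) 1 = 1} := by
    constructor
    intro a b
    apply Subtype.ext
    apply Subtype.ext
    rw [hcon' a.1 a.2, hcon' b.1 b.2]
  have hcard : Nat.card {χ : IrrCharacter G // (χ : G → ℂ) 1 = 1} ≤ 1 :=
    Finite.card_le_one_iff_subsingleton.mpr hsub
  rw [card_linear_irr] at hcard
  have hpos : (commutator G).index ≠ 0 := Subgroup.index_ne_zero_of_finite
  have h1 : (commutator G).index = 1 := by omega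
  exact h (Subgroup.index_eq_one.mp h1)

theorem linear_eq_one_of_perfect [Finite G] (h : commutator G = ⊤) (χ : IrrCharacter G)
    (h1 : (χ : G → ℂ) 1 = 1) : (χ : G → ℂ) = fun _ => (1 : ℂ) := by
  have hcard : Nat.card {χ : IrrCharacter G // (χ : G → ℂ) 1 = 1} = 1 := by
    rw [card_linear_irr, h, Subgroup.index_top]
  have hsub : Subsingleton {χ : IrrCharacter G // (χ : G → ℂ) 1 = 1} :=
    Finite.card_le_one_iff_subsingleton.mp hcard.le
  have h2 := hsub.elim ⟨χ, h1⟩ ⟨⟨fun _ => (1 : ℂ), isIrrCharacter_one⟩, rfl⟩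
  exact congrArg (fun x => (x.1 : G → ℂ)) h2

/-- If for some `u ≠ 1` every nontrivial irreducible character satisfies `χ 1 - χ u = c` or
`χ u = 0`, then `G` is imperfect iff `c = 2` iff `u` is a self-centralising involution with
`G = ⟨u⟩ O(G)`. -/
theorem const_degree_minus_value [Finite G] (u : G) (hu : u ≠ 1) (c : ℂ)
    (hyp : ∀ χ : IrrCharacter G, (χ : G → ℂ) ≠ (fun _ => (1 : ℂ)) →
      ((χ : G → ℂ) 1 - (χ : G → ℂ) u = c ∨ (χ : G → ℂ) u = 0)) :
    ((orderOf u = 2 ∧ Subgroup.zpowers u ⊔ oddCore G = ⊤ ∧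
        Subgroup.centralizer ({u} : Set G) = Subgroup.zpowers u) ↔ commutator G ≠ ⊤) ∧
      (commutator G ≠ ⊤ ↔ c = 2) := by
  classical
  have := Fintype.ofFinite G
  have horth : ∑ χ : IrrCharacter G, (χ : G → ℂ) 1 * (χ : G → ℂ) u = 0 := by
    rw [sum_irr_one_mul, if_neg hu]
  obtain ⟨triv, htriv⟩ : ∃ t : IrrCharacter G, (t : G → ℂ) = fun _ => (1 : ℂ) :=
    ⟨⟨fun _ => (1 : ℂ), isIrrCharacter_one⟩, rfl⟩
  have htriv1 : (triv : G → ℂ) 1 = 1 := by rw [htriv]
  have htrivu : (triv : G → ℂ) u = 1 := by rw [htriv]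
  have hpos : (∀ χ : IrrCharacter G, 0 ≤ ((χ : G → ℂ) 1 * (χ : G → ℂ) u).re) → False := by
    intro hterm
    have hsum : ∑ χ : IrrCharacter G, ((χ : G → ℂ) 1 * (χ : G → ℂ) u).re = 0 := by
      rw [← Complex.re_sum, horth]; simp
    have h1 : ((triv : G → ℂ) 1 * (triv : G → ℂ) u).re ≤
        ∑ χ : IrrCharacter G, ((χ : G → ℂ) 1 * (χ : G → ℂ) u).re :=
      Finset.single_le_sum (f := fun χ : IrrCharacter G => ((χ : G → ℂ) 1 * (χ : G → ℂ) u).re)
        (fun χ _ => hterm χ) (Finset.mem_univ triv)
    rw [hsum, htriv1, htrivu] at h1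
    norm_num at h1
  have hcast : ∀ n : ℕ, ((n : ℂ) * ((n : ℂ) - 2)).re = (n : ℝ) * ((n : ℝ) - 2) := by
    intro n
    have : (n : ℂ) * ((n : ℂ) - 2) = (((n : ℝ) * ((n : ℝ) - 2) : ℝ) : ℂ) := by push_cast; ring
    rw [this, Complex.ofReal_re]
  -- Step A: `c = 2` forces `G` imperfect
  have hA : c = 2 → commutator G ≠ ⊤ := by
    intro hc hperf
    apply hpos
    intro χ
    by_cases hχ : (χ : G → ℂ) = fun _ => (1 : ℂ)
    · rw [hχ]; simp
    · obtain ⟨n, hn0, hn⟩ := irr_one_pos_nat χ
      have hn2 : 2 ≤ n := by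
        by_contra hlt
        have hn1 : n = 1 := by omega
        apply hχ
        apply linear_eq_one_of_perfect hperf χ
        rw [hn, hn1]; simp
      rcases hyp χ hχ with h | h
      · have hval : (χ : G → ℂ) u = (n : ℂ) - 2 := by
          rw [hn, hc] at h
          linear_combination -h
        rw [hn, hval, hcast]
        have hn2' : (2 : ℝ) ≤ n := by exact_mod_cast hn2
        nlinarith
      · rw [h, mul_zero]; simp
  -- Step B: imperfect gives `c = 2` and the structure
  have hB : commutator G ≠ ⊤ → c = 2 ∧ (orderOf u = 2 ∧ Subgroup.zpowers u ⊔ oddCore G = ⊤ ∧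
        Subgroup.centralizer ({u} : Set G) = Subgroup.zpowers u) := by
    intro hne
    obtain ⟨lam, hlam1, hlamne⟩ := exists_linear_ne_one hne
    have hmul : ∀ (μ : IrrCharacter G), (μ : G → ℂ) 1 = 1 → ∀ g k : G,
        (μ : G → ℂ) (g * k) = (μ : G → ℂ) g * (μ : G → ℂ) k :=
      fun μ h1 g k => irr_linear_mul μ h1 g k
    have hnz : ∀ (μ : IrrCharacter G), (μ : G → ℂ) 1 = 1 → ∀ g : G, (μ : G → ℂ) g ≠ 0 := by
      intro μ h1 g h0
      have h2 := hmul μ h1 g g⁻¹
      rw [mul_inv_cancel, h1, h0, zero_mul] at h2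
      exact one_ne_zero h2
    have hprod : ∀ (μ ν : IrrCharacter G), (μ : G → ℂ) 1 = 1 → (ν : G → ℂ) 1 = 1 →
        ∃ π : IrrCharacter G, (π : G → ℂ) 1 = 1 ∧
          ∀ g, (π : G → ℂ) g = (μ : G → ℂ) g * (ν : G → ℂ) g := by
      intro μ ν hμ hν
      refine ⟨⟨(μ : G → ℂ) * (ν : G → ℂ), linear_mul_irr _ _ μ.2 hμ ν.2⟩, ?_, fun g => rfl⟩
      show (μ : G → ℂ) 1 * (ν : G → ℂ) 1 = 1
      rw [hμ, hν, mul_one]
    have hval : ∀ (μ : IrrCharacter G), (μ : G → ℂ) 1 = 1 →
        (μ : G → ℂ) ≠ (fun _ => (1 : ℂ)) → (μ : G → ℂ) u = 1 - c := by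
      intro μ h1 hne'
      rcases hyp μ hne' with h | h
      · rw [h1] at h; linear_combination -h
      · exact absurd h (hnz μ h1 u)
    have hc0 : c ≠ 0 := by
      intro hc
      apply hpos
      intro χ
      by_cases hχ : (χ : G → ℂ) = fun _ => (1 : ℂ)
      · rw [hχ]; simp
      · obtain ⟨n, hn0, hn⟩ := irr_one_pos_nat χ
        rcases hyp χ hχ with h | h
        · have hv : (χ : G → ℂ) u = (n : ℂ) := by
            rw [hn, hc] at h; linear_combination -h
          rw [hn, hv]
          have h3 : (n : ℂ) * (n : ℂ) = (((n : ℝ) * (n : ℝ) : ℝ) : ℂ) := by push_cast; ring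
          rw [h3, Complex.ofReal_re]
          positivity
        · rw [h, mul_zero]; simp
    have hlamu := hval lam hlam1 hlamne
    obtain ⟨lam2, hlam21, hlam2⟩ := hprod lam lam hlam1 hlam1
    have hlam2triv : (lam2 : G → ℂ) = fun _ => (1 : ℂ) := by
      by_contra hne2
      have h2 := hval lam2 hlam21 hne2
      rw [hlam2 u, hlamu] at h2
      have h3 : (1 - c) * c = 0 := by linear_combination -h2
      rcases mul_eq_zero.mp h3 with h4 | h4
      · apply hnz lam hlam1 u; rw [hlamu]; exact h4
      · exact hc0 h4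
    have hsq : ∀ g : G, (lam : G → ℂ) g * (lam : G → ℂ) g = 1 := by
      intro g
      rw [← hlam2 g, hlam2triv]
    have hc2 : c = 2 := by
      have h := hsq u
      rw [hlamu] at h
      have h3 : c * (c - 2) = 0 := by linear_combination h
      rcases mul_eq_zero.mp h3 with h4 | h4
      · exact absurd h4 hc0
      · linear_combination h4
    have hlamu' : (lam : G → ℂ) u = -1 := by rw [hlamu, hc2]; norm_num
    have huniq : ∀ μ : IrrCharacter G, (μ : G → ℂ) 1 = 1 →
        (μ : G → ℂ) ≠ (fun _ => (1 : ℂ)) → μ = lam := by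
      intro μ hμ1 hμne
      obtain ⟨π, hπ1, hπ⟩ := hprod lam μ hlam1 hμ1
      have hπtriv : (π : G → ℂ) = fun _ => (1 : ℂ) := by
        by_contra hne2
        have h2 := hval π hπ1 hne2
        rw [hπ u, hlamu', hval μ hμ1 hμne, hc2] at h2
        norm_num at h2
      apply Subtype.ext
      funext g
      have h1 : (lam : G → ℂ) g * (μ : G → ℂ) g = 1 := by rw [← hπ g, hπtriv]
      have h2 := hsq g
      have h3 : (lam : G → ℂ) g ≠ 0 := hnz lam hlam1 g
      have h4 : (lam : G → ℂ) g * (μ : G → ℂ) g = (lam : G → ℂ) g * (lam : G → ℂ) g := by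
        rw [h1, h2]
      exact mul_left_cancel₀ h3 h4
    have hnonlin : ∀ χ : IrrCharacter G, χ ≠ triv → χ ≠ lam → ∃ n : ℕ, 2 ≤ n ∧
        (χ : G → ℂ) 1 = n ∧ ((χ : G → ℂ) u = (n : ℂ) - 2 ∨ (χ : G → ℂ) u = 0) := by
      intro χ h1 h2
      obtain ⟨n, hn0, hn⟩ := irr_one_pos_nat χ
      have hχne : (χ : G → ℂ) ≠ fun _ => (1 : ℂ) := fun h => h1 (Subtype.ext (h.trans htriv.symm))
      refine ⟨n, ?_, hn, ?_⟩
      · by_contra hlt
        have hn1 : n = 1 := by omega
        exact h2 (huniq χ (by rw [hn, hn1]; simp) hχne)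
      · rcases hyp χ hχne with h | h
        · left; rw [hn, hc2] at h; linear_combination -h
        · right; exact h
    have htl : triv ≠ lam := by
      intro h
      apply hlamne
      rw [← h, htriv]
    have hvanish : ∀ χ : IrrCharacter G, χ ≠ triv → χ ≠ lam → (χ : G → ℂ) u = 0 := by
      have hsum : ∑ χ : IrrCharacter G, ((χ : G → ℂ) 1 * (χ : G → ℂ) u).re = 0 := by
        rw [← Complex.re_sum, horth]; simp
      rw [← Finset.add_sum_erase Finset.univ _ (Finset.mem_univ triv)] at hsum
      rw [← Finset.add_sum_erase (Finset.univ.erase triv) _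
        (Finset.mem_erase.mpr ⟨htl.symm, Finset.mem_univ lam⟩)] at hsum
      have ht : ((triv : G → ℂ) 1 * (triv : G → ℂ) u).re = 1 := by
        rw [htriv1, htrivu]; simp
      have hl : ((lam : G → ℂ) 1 * (lam : G → ℂ) u).re = -1 := by
        rw [hlam1, hlamu']; simp
      rw [ht, hl] at hsum
      have hrest : ∑ χ ∈ (Finset.univ.erase triv).erase lam,
          ((χ : G → ℂ) 1 * (χ : G → ℂ) u).re = 0 := by linarith
      have hnonneg : ∀ χ ∈ (Finset.univ.erase triv).erase lam,
          0 ≤ ((χ : G → ℂ) 1 * (χ : G → ℂ) u).re := by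
        intro χ hχ
        have h2 : χ ≠ lam := (Finset.mem_erase.mp hχ).1
        have h1 : χ ≠ triv := (Finset.mem_erase.mp (Finset.mem_erase.mp hχ).2).1
        obtain ⟨n, hn2, hn, hv⟩ := hnonlin χ h1 h2
        rcases hv with hv | hv
        · rw [hn, hv, hcast]
          have hn2' : (2 : ℝ) ≤ n := by exact_mod_cast hn2
          nlinarith
        · rw [hv, mul_zero]; simp
      have hzero := (Finset.sum_eq_zero_iff_of_nonneg hnonneg).mp hrest
      intro χ h1 h2
      have hmem : χ ∈ (Finset.univ.erase triv).erase lam :=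
        Finset.mem_erase.mpr ⟨h2, Finset.mem_erase.mpr ⟨h1, Finset.mem_univ χ⟩⟩
      have hz := hzero χ hmem
      obtain ⟨n, hn2, hn, hv⟩ := hnonlin χ h1 h2
      rcases hv with hv | hv
      · rw [hn, hv, hcast] at hz
        have hn2' : (2 : ℝ) ≤ n := by exact_mod_cast hn2
        have hnn : (n : ℝ) = 2 := by
          rcases mul_eq_zero.mp hz with h | h
          · linarith
          · linarith
        have hnc : (n : ℂ) = 2 := by exact_mod_cast hnn
        rw [hv, hnc, sub_self]
      · exact hv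
    have hcent : Nat.card (Subgroup.centralizer ({u} : Set G)) = 2 := by
      have h := (sum_irr_mul_conj u u).1 (IsConj.refl u)
      rw [← Finset.add_sum_erase Finset.univ _ (Finset.mem_univ triv)] at h
      rw [← Finset.add_sum_erase (Finset.univ.erase triv) _
        (Finset.mem_erase.mpr ⟨htl.symm, Finset.mem_univ lam⟩)] at h
      have hrest : ∑ χ ∈ (Finset.univ.erase triv).erase lam,
          (χ : G → ℂ) u * starRingEnd ℂ ((χ : G → ℂ) u) = 0 := by
        apply Finset.sum_eq_zero
        intro χ hχ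
        have h2 : χ ≠ lam := (Finset.mem_erase.mp hχ).1
        have h1 : χ ≠ triv := (Finset.mem_erase.mp (Finset.mem_erase.mp hχ).2).1
        rw [hvanish χ h1 h2, zero_mul]
      rw [hrest, hlamu', htrivu] at h
      have h' : ((Nat.card (Subgroup.centralizer ({u} : Set G)) : ℕ) : ℂ) = ((2 : ℕ) : ℂ) := by
        rw [← h]; norm_num
      exact_mod_cast h'
    have hle : Subgroup.zpowers u ≤ Subgroup.centralizer ({u} : Set G) := by
      rw [Subgroup.zpowers_le]
      exact Subgroup.mem_centralizer_singleton_iff.mpr rfl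
    have hord : orderOf u = 2 := by
      have h1 : orderOf u ∣ 2 := by
        rw [← hcent]
        exact Subgroup.orderOf_dvd_natCard _ (hle (Subgroup.mem_zpowers u))
      have h2 : orderOf u ≠ 1 := fun h => hu (orderOf_eq_one_iff.mp h)
      rcases (Nat.dvd_prime Nat.prime_two).mp h1 with h | h
      · exact absurd h h2
      · exact h
    have hzc : Subgroup.centralizer ({u} : Set G) = Subgroup.zpowers u := by
      symm
      apply Subgroup.eq_of_le_of_card_ge hle
      rw [hcent, Nat.card_zpowers, hord]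
    have hu2 : u * u = 1 := by
      have h := pow_orderOf_eq_one u
      rw [hord, pow_two] at h
      exact h
    have hui : u⁻¹ = u := inv_eq_of_mul_eq_one_left hu2
    -- the kernel of `lam`
    let K : Subgroup G :=
      { carrier := {g | (lam : G → ℂ) g = 1}
        mul_mem' := by
          intro a b ha hb
          have ha' : (lam : G → ℂ) a = 1 := ha
          have hb' : (lam : G → ℂ) b = 1 := hb
          show (lam : G → ℂ) (a * b) = 1
          rw [hmul lam hlam1, ha', hb', mul_one]
        one_mem' := hlam1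
        inv_mem' := by
          intro a ha
          have ha' : (lam : G → ℂ) a = 1 := ha
          show (lam : G → ℂ) a⁻¹ = 1
          have h := hmul lam hlam1 a a⁻¹
          rw [mul_inv_cancel, hlam1, ha', one_mul] at h
          exact h.symm }
    have hKmem : ∀ g : G, g ∈ K ↔ (lam : G → ℂ) g = 1 := fun g => Iff.rfl
    have hKn : K.Normal := by
      constructor
      intro n hn g
      rw [hKmem] at hn ⊢
      rw [irr_conj lam n g]; exact hn
    have huK : u ∉ K := by
      rw [hKmem, hlamu']; norm_num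
    have hK1 : ∀ k ∈ K, k * u = u * k → k = 1 := by
      intro k hk hcomm
      have hkc : k ∈ Subgroup.centralizer ({u} : Set G) :=
        Subgroup.mem_centralizer_singleton_iff.mpr hcomm
      rw [hzc] at hkc
      obtain ⟨n, hn⟩ := Subgroup.mem_zpowers_iff.mp hkc
      have h1 : u ^ (n % 2) = u ^ n := by
        have h := zpow_mod_orderOf u n
        rw [hord] at h
        exact_mod_cast h
      rcases Int.emod_two_eq_zero_or_one n with h2 | h2
      · rw [h2, zpow_zero] at h1; rw [← hn, ← h1]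
      · rw [h2, zpow_one] at h1
        exfalso; apply huK; rw [h1, hn]; exact hk
    have hinv : ∀ k ∈ K, u * k * u⁻¹ = k⁻¹ := by
      let f : K → K := fun k =>
        ⟨(k : G)⁻¹ * (u * k * u⁻¹), K.mul_mem (K.inv_mem k.2) (hKn.conj_mem k k.2 u)⟩
      have hf : Function.Injective f := by
        intro k l hkl
        have h1 : (k : G)⁻¹ * (u * k * u⁻¹) = (l : G)⁻¹ * (u * l * u⁻¹) :=
          congrArg Subtype.val hkl
        have h3 : (l : G) * (k : G)⁻¹ = u * ((l : G) * (k : G)⁻¹) * u⁻¹ := by
          calc (l : G) * (k : G)⁻¹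
              = (l : G) * ((k : G)⁻¹ * (u * k * u⁻¹)) * (u * k * u⁻¹)⁻¹ := by group
            _ = (l : G) * ((l : G)⁻¹ * (u * l * u⁻¹)) * (u * k * u⁻¹)⁻¹ := by rw [h1]
            _ = u * ((l : G) * (k : G)⁻¹) * u⁻¹ := by group
        have h2 : ((l : G) * (k : G)⁻¹) * u = u * ((l : G) * (k : G)⁻¹) := by
          calc ((l : G) * (k : G)⁻¹) * u = (u * ((l : G) * (k : G)⁻¹) * u⁻¹) * u := by rw [← h3]
            _ = u * ((l : G) * (k : G)⁻¹) := by group
        have h4 := hK1 _ (K.mul_mem l.2 (K.inv_mem k.2)) h2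
        apply Subtype.ext
        have h5 : (l : G) = k := by
          calc (l : G) = ((l : G) * (k : G)⁻¹) * k := by group
            _ = k := by rw [h4, one_mul]
        exact h5.symm
      have hsurj : Function.Surjective f := Finite.injective_iff_surjective.mp hf
      intro k hk
      obtain ⟨m, hm⟩ := hsurj ⟨k, hk⟩
      have hk' : k = (m : G)⁻¹ * (u * m * u⁻¹) := (congrArg Subtype.val hm).symm
      rw [hk']
      have e1 : u * ((m : G)⁻¹ * (u * m * u⁻¹)) * u⁻¹
          = (u * (m : G)⁻¹ * u * m) * (u⁻¹ * u⁻¹) := by group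
      have e2 : ((m : G)⁻¹ * (u * m * u⁻¹))⁻¹ = u * (m : G)⁻¹ * u⁻¹ * m := by group
      rw [e1, e2, hui, hu2, mul_one]
    have hKodd : (Nat.card K).Coprime 2 := by
      rw [Nat.coprime_two_right]
      by_contra hodd
      have h2 : 2 ∣ Nat.card K := even_iff_two_dvd.mp (Nat.not_odd_iff_even.mp hodd)
      haveI : Fact (Nat.Prime 2) := ⟨Nat.prime_two⟩
      obtain ⟨t, ht⟩ := exists_prime_orderOf_dvd_card' 2 h2
      have ht1 : (t : G) ≠ 1 := by
        intro h
        have ht' : t = 1 := Subtype.ext h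
        rw [ht', orderOf_one] at ht
        norm_num at ht
      have ht2 : (t : G) * (t : G) = 1 := by
        have h := pow_orderOf_eq_one t
        rw [ht, pow_two] at h
        exact congrArg Subtype.val h
      have hti : (t : G)⁻¹ = t := inv_eq_of_mul_eq_one_left ht2
      have h3 := hinv t t.2
      rw [hti] at h3
      have hcomm : (t : G) * u = u * t := by
        calc (t : G) * u = (u * t * u⁻¹) * u := by rw [h3]
          _ = u * t := by group
      exact ht1 (hK1 t t.2 hcomm)
    have htop : Subgroup.zpowers u ⊔ oddCore G = ⊤ := by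
      rw [eq_top_iff]
      intro g _
      have hg := hsq g
      have hg' : (lam : G → ℂ) g = 1 ∨ (lam : G → ℂ) g = -1 := by
        have h0 : ((lam : G → ℂ) g - 1) * ((lam : G → ℂ) g + 1) = 0 := by linear_combination hg
        rcases mul_eq_zero.mp h0 with h | h
        · left; linear_combination h
        · right; linear_combination h
      rcases hg' with h | h
      · exact (le_sup_right : oddCore G ≤ _)
          (Helper16.le_oddCore hKn hKodd ((hKmem g).mpr h))
      · have h1 : u⁻¹ * g ∈ K := by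
          rw [hKmem, hmul lam hlam1, hui, hlamu', h]; norm_num
        have h2 : g = u * (u⁻¹ * g) := by group
        rw [h2]
        exact Subgroup.mul_mem _
          ((le_sup_left : Subgroup.zpowers u ≤ _) (Subgroup.mem_zpowers u))
          ((le_sup_right : oddCore G ≤ _) (Helper16.le_oddCore hKn hKodd h1))
    exact ⟨hc2, hord, htop, hzc⟩
  -- Step C: the structure forces `G` imperfect
  have hC : (orderOf u = 2 ∧ Subgroup.zpowers u ⊔ oddCore G = ⊤ ∧
        Subgroup.centralizer ({u} : Set G) = Subgroup.zpowers u) → commutator G ≠ ⊤ := by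
    rintro ⟨hord, htop, -⟩ hperf
    have hcomm : commutator G ≤ oddCore G :=
      Subgroup.Normal.commutator_le_of_self_sup_commutative_eq_top (N := oddCore G)
        (H := Subgroup.zpowers u) (by rw [sup_comm]; exact htop)
        (Subgroup.zpowers_isMulCommutative u)
    rw [hperf, top_le_iff] at hcomm
    have hodd : (Nat.card (oddCore G)).Coprime 2 := Helper16.oddCore_coprime
    rw [hcomm, Subgroup.card_top] at hodd
    have h2 : 2 ∣ Nat.card G := by rw [← hord]; exact orderOf_dvd_natCard u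
    exact absurd (Nat.Coprime.eq_one_of_dvd hodd.symm h2) (by norm_num)
  exact ⟨⟨hC, fun h => (hB h).2⟩, ⟨fun h => (hB h).1, hA⟩⟩

end Cfsg.Agent.Helper24
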