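import Cfsg.Agent.Helper24.CharPerm
import Cfsg.Agent.Helper22.InvCount
import Cfsg.Agent.S4056
import Cfsg.Agent.S0187
import Cfsg.Prelude.Def_Transfer

/-!
# Groups with a unique irreducible character of degree divisible by `p` (helper24)
-/

set_option autoImplicit false

namespace Cfsg.Agent.Helper24

open Cfsg
open scoped commutatorElement

universe u

variable {G : Type u} [Group G]

/-- If `|G'| = 2`, every non-central element has a centralizer of index `2`. -/
theorem index_centralizer_of_commutator_two [Finite G] (h2 : Nat.card (commutator G) = 2) (g : G)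
    (hg : g ∉ Subgroup.center G) : (Subgroup.centralizer ({g} : Set G)).index = 2 := by
  classical
  haveI := Fintype.ofFinite G
  have h1 := card_filter_isConj g
  have hle : (Finset.univ.filter (fun h : G => IsConj g h)).card ≤ 2 := by
    have e : (Finset.univ.filter (fun h : G => IsConj g h)).card = Nat.card {h : G // IsConj g h} := by
      rw [Nat.card_eq_fintype_card, Fintype.card_subtype]
    rw [e, ← h2]
    have hmem : ∀ h : {h : G // IsConj g h}, (h : G) * g⁻¹ ∈ commutator G := by
      rintro ⟨h, hh⟩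
      obtain ⟨c, hc⟩ := isConj_iff.mp hh
      have h3 : ⁅c, g⁆ ∈ commutator G := by
        rw [commutator_def]
        exact Subgroup.commutator_mem_commutator (Subgroup.mem_top c) (Subgroup.mem_top g)
      rw [commutatorElement_def, hc] at h3
      exact h3
    apply Nat.card_le_card_of_injective (fun h : {h : G // IsConj g h} =>
      (⟨(h : G) * g⁻¹, hmem h⟩ : commutator G))
    intro a b hab
    have h4 : (a : G) * g⁻¹ = (b : G) * g⁻¹ := congrArg (fun z : commutator G => (z : G)) hab
    exact Subtype.ext (mul_right_cancel h4)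
  have hne1 : (Subgroup.centralizer ({g} : Set G)).index ≠ 1 := by
    intro h3
    apply hg
    rw [Subgroup.index_eq_one] at h3
    rw [Subgroup.mem_center_iff]
    intro x
    have : x ∈ Subgroup.centralizer ({g} : Set G) := by rw [h3]; exact Subgroup.mem_top x
    exact Subgroup.mem_centralizer_singleton_iff.mp this
  have hne0 : (Subgroup.centralizer ({g} : Set G)).index ≠ 0 := Subgroup.index_ne_zero_of_finite
  omega

/-- If `|G'| = 2` then `2 k(G) = |G| + |Z(G)|`. -/
theorem card_irr_of_commutator_two [Fintype G] (h2 : Nat.card (commutator G) = 2) :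
    Fintype.card (IrrCharacter G) * 2 = Nat.card G + Nat.card (Subgroup.center G) := by
  classical
  have h := Helper22.sum_card_centralizer (G := G)
  have hG : 0 < Nat.card G := Nat.card_pos
  have hterm : ∀ x : G, Nat.card (Subgroup.centralizer ({x} : Set G)) * 2 =
      Nat.card G + if x ∈ Subgroup.center G then Nat.card G else 0 := by
    intro x
    by_cases hx : x ∈ Subgroup.center G
    · rw [if_pos hx]
      have : Subgroup.centralizer ({x} : Set G) = ⊤ := by
        rw [Subgroup.centralizer_eq_top_iff_subset]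
        intro y hy
        rw [Set.mem_singleton_iff] at hy
        rw [hy]
        exact hx
      rw [this, Subgroup.card_top]
      ring
    · rw [if_neg hx, add_zero, ← index_centralizer_of_commutator_two h2 x hx,
        Subgroup.card_mul_index]
  have h3 : Fintype.card (IrrCharacter G) * Nat.card G * 2 =
      (Nat.card G + Nat.card (Subgroup.center G)) * Nat.card G := by
    rw [← h, Finset.sum_mul, Finset.sum_congr rfl fun x _ => hterm x, Finset.sum_add_distrib,
      Finset.sum_const, Finset.card_univ, smul_eq_mul, ← Finset.sum_filter, Finset.sum_const,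
      smul_eq_mul]
    have e : (Finset.univ.filter (fun x : G => x ∈ Subgroup.center G)).card =
        Nat.card (Subgroup.center G) := by
      rw [Nat.card_eq_fintype_card, Fintype.card_subtype]
    rw [e, ← Nat.card_eq_fintype_card]
    ring
  have h4 : Fintype.card (IrrCharacter G) * 2 * Nat.card G =
      (Nat.card G + Nat.card (Subgroup.center G)) * Nat.card G := by
    rw [← h3]; ring
  exact Nat.eq_of_mul_eq_mul_right hG h4

/-- In a `p`-group the degree of an irreducible character is divisible by `p` iff it is not `1`. -/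
theorem pgroup_dvd_degree_iff [Finite G] {p : ℕ} [hp : Fact p.Prime] (hG : IsPGroup p G)
    (χ : IrrCharacter G) : p ∣ charDegree (χ : G → ℂ) ↔ (χ : G → ℂ) 1 ≠ 1 := by
  obtain ⟨d, hd, hdvd⟩ := irr_degree_dvd_card χ
  obtain ⟨n, hn⟩ := IsPGroup.iff_card.mp hG
  rw [hn] at hdvd
  obtain ⟨j, -, hj⟩ := (Nat.dvd_prime_pow hp.out).mp hdvd
  rw [charDegree_of_eq hd, hd, hj]
  constructor
  · intro h hcon
    have h1 : p ^ j = 1 := by exact_mod_cast hcon
    rw [h1] at h
    exact hp.out.one_lt.ne' (Nat.dvd_one.mp h)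
  · intro h
    have hj0 : j ≠ 0 := by
      rintro rfl
      apply h
      simp
    exact dvd_pow_self p hj0

/-- In a `p`-group: the characters of degree divisible by `p` and the linear ones exhaust `Irr`. -/
theorem card_pdvd_add_linear [Finite G] {p : ℕ} [hp : Fact p.Prime] (hG : IsPGroup p G) :
    Nat.card {χ : IrrCharacter G // p ∣ charDegree (χ : G → ℂ)} + (commutator G).index =
      Nat.card (IrrCharacter G) := by
  classical
  have e : {χ : IrrCharacter G // p ∣ charDegree (χ : G → ℂ)} ⊕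
      {χ : IrrCharacter G // (χ : G → ℂ) 1 = 1} ≃ IrrCharacter G :=
    (Equiv.sumCongr (Equiv.refl _) (Equiv.subtypeEquivRight (fun χ => by
      rw [pgroup_dvd_degree_iff hG χ, not_not]))).trans
      (Equiv.sumCompl (fun χ : IrrCharacter G => p ∣ charDegree (χ : G → ℂ)))
  rw [← Nat.card_congr e, Nat.card_sum, card_linear_irr]

/-- An extraspecial `2`-group has exactly one irreducible character of even degree. -/
theorem extraspecial_unique_even [Finite G] (h : IsExtraspecial 2 G) :
    Nat.card {χ : IrrCharacter G // 2 ∣ charDegree (χ : G → ℂ)} = 1 := by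
  classical
  haveI := Fintype.ofFinite G
  haveI : Fact (Nat.Prime 2) := ⟨Nat.prime_two⟩
  obtain ⟨⟨hG2, -, hcomm⟩, hZ⟩ := h
  have h2 : Nat.card (commutator G) = 2 := by rw [hcomm]; exact hZ
  have hk := card_irr_of_commutator_two h2
  have h4 := card_pdvd_add_linear hG2
  have h5 := Subgroup.card_mul_index (commutator G)
  rw [Nat.card_eq_fintype_card (α := IrrCharacter G)] at h4
  rw [h2] at h5
  rw [hZ] at hk
  omega

/-- A nilpotent group with a unique irreducible character of degree divisible by `p` is a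
`p`-group. -/
theorem isPGroup_of_unique_psingular [Finite G] [hnil : Group.IsNilpotent G] (p : ℕ)
    [hp : Fact p.Prime]
    (h : Nat.card {χ : IrrCharacter G // p ∣ charDegree (χ : G → ℂ)} = 1) : IsPGroup p G := by
  classical
  rw [Nat.card_eq_one_iff_unique] at h
  obtain ⟨hsub, ⟨⟨χ₀, hχ₀⟩⟩⟩ := h
  have huniq : ∀ χ : IrrCharacter G, p ∣ charDegree (χ : G → ℂ) → χ = χ₀ := by
    intro χ hχ
    have h1 := @Subsingleton.elim _ hsub ⟨χ, hχ⟩ ⟨χ₀, hχ₀⟩
    exact congrArg Subtype.val h1
  have hn : ∀ (q : ℕ) (_ : Fact q.Prime) (Q : Sylow q G), (Q : Subgroup G).Normal :=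
    ((Group.isNilpotent_of_finite_tfae (G := G)).out 0 3).mp hnil
  obtain ⟨P⟩ : Nonempty (Sylow p G) := inferInstance
  haveI hPn : (P : Subgroup G).Normal := hn p hp P
  obtain ⟨d₀, hd₀, hd₀dvd⟩ := irr_degree_dvd_card χ₀
  have hcd₀ : charDegree (χ₀ : G → ℂ) = d₀ := charDegree_of_eq hd₀
  have hpG : p ∣ Nat.card G := dvd_trans (hcd₀ ▸ hχ₀) hd₀dvd
  obtain ⟨e⟩ : Nonempty ((∀ q : (Nat.card G).primeFactors, ∀ Q : Sylow q G,
      (↑Q : Subgroup G)) ≃* G) :=
    ((Group.isNilpotent_of_finite_tfae (G := G)).out 0 4).mp hnil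
  have hpmem : p ∈ (Nat.card G).primeFactors :=
    Nat.mem_primeFactors.mpr ⟨hp.out, hpG, Nat.card_pos.ne'⟩
  obtain ⟨ψ, hψsurj⟩ : ∃ ψ : G →* (P : Subgroup G), Function.Surjective ψ := by
    refine ⟨(Pi.evalMonoidHom (fun Q : Sylow p G => (↑Q : Subgroup G)) P).comp
      ((Pi.evalMonoidHom (fun q : (Nat.card G).primeFactors =>
        ∀ Q : Sylow q G, (↑Q : Subgroup G)) ⟨p, hpmem⟩).comp e.symm.toMonoidHom), ?_⟩
    intro x
    refine ⟨e (Pi.mulSingle (M := fun q : (Nat.card G).primeFactors =>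
        ∀ Q : Sylow q G, (↑Q : Subgroup G)) ⟨p, hpmem⟩
      (Pi.mulSingle (M := fun Q : Sylow p G => (↑Q : Subgroup G)) P x)), ?_⟩
    show (e.symm (e (Pi.mulSingle (M := fun q : (Nat.card G).primeFactors =>
        ∀ Q : Sylow q G, (↑Q : Subgroup G)) ⟨p, hpmem⟩
      (Pi.mulSingle (M := fun Q : Sylow p G => (↑Q : Subgroup G)) P x)))) ⟨p, hpmem⟩ P = x
    rw [MulEquiv.symm_apply_apply, Pi.mulSingle_eq_same, Pi.mulSingle_eq_same]
  -- `P` is not abelian
  have hPna : ¬ ∀ a b : (P : Subgroup G), a * b = b * a := by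
    intro hab
    obtain ⟨d, hd, hdvd⟩ := Helper22.ito χ₀.2 (P : Subgroup G)
      (fun a ha b hb => congrArg Subtype.val (hab ⟨a, ha⟩ ⟨b, hb⟩))
    have h1 : charDegree (χ₀ : G → ℂ) = d := charDegree_of_eq hd
    rw [h1] at hχ₀
    exact P.not_dvd_index (dvd_trans hχ₀ hdvd)
  obtain ⟨μ₀, hμ₀⟩ : ∃ μ : IrrCharacter (P : Subgroup G),
      (μ : ↥(P : Subgroup G) → ℂ) 1 ≠ 1 := by
    by_contra hcon
    push Not at hcon
    exact hPna ((Cfsg.Agent.S0187.result).mpr hcon)
  have hdvdμ : p ∣ charDegree (μ₀ : ↥(P : Subgroup G) → ℂ) :=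
    (pgroup_dvd_degree_iff P.isPGroup' μ₀).mpr hμ₀
  obtain ⟨m₀, hm₀, -⟩ := irr_degree_dvd_card μ₀
  have hcm₀ : charDegree (μ₀ : ↥(P : Subgroup G) → ℂ) = m₀ := charDegree_of_eq hm₀
  rw [hcm₀] at hdvdμ
  -- the kernel of `ψ` meets `P` trivially
  have hker : ∀ g : G, g ∈ (P : Subgroup G) → ψ g = 1 → g = 1 := by
    intro g hgP hg1
    have h1 : Nat.card ψ.ker * Nat.card (P : Subgroup G) = Nat.card G := by
      have := Subgroup.card_mul_index ψ.ker
      rw [Subgroup.index_ker, MonoidHom.range_eq_top.mpr hψsurj, Subgroup.card_top] at this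
      exact this
    have h2 : Nat.card (P : Subgroup G) * (P : Subgroup G).index = Nat.card G :=
      Subgroup.card_mul_index _
    have h3 : Nat.card ψ.ker = (P : Subgroup G).index := by
      have hPpos : 0 < Nat.card (P : Subgroup G) := Nat.card_pos
      have : Nat.card ψ.ker * Nat.card (P : Subgroup G) =
          (P : Subgroup G).index * Nat.card (P : Subgroup G) := by
        rw [h1, ← h2]; ring
      exact Nat.eq_of_mul_eq_mul_right hPpos this
    have h4 : orderOf g ∣ Nat.card ψ.ker := by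
      have := orderOf_dvd_natCard (⟨g, MonoidHom.mem_ker.mpr hg1⟩ : ψ.ker)
      rwa [← Subgroup.orderOf_coe] at this
    obtain ⟨j, hj⟩ := (IsPGroup.iff_orderOf.mp P.isPGroup') ⟨g, hgP⟩
    rw [← Subgroup.orderOf_coe] at hj
    have hj' : orderOf g = p ^ j := hj
    have hj0 : j = 0 := by
      by_contra hj0
      apply P.not_dvd_index
      rw [← h3]
      exact dvd_trans (hj' ▸ dvd_pow_self p hj0) h4
    rw [hj0, pow_zero, orderOf_eq_one_iff] at hj'
    exact hj'
  -- the product decomposition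
  have hΘbij : Function.Bijective
      (ψ.prod (QuotientGroup.mk' (P : Subgroup G))) := by
    have hinj : Function.Injective (ψ.prod (QuotientGroup.mk' (P : Subgroup G))) := by
      rw [injective_iff_map_eq_one]
      intro g hg
      have h1 : ψ g = 1 := congrArg Prod.fst hg
      have h2 : (QuotientGroup.mk g : G ⧸ (P : Subgroup G)) = 1 := congrArg Prod.snd hg
      exact hker g ((QuotientGroup.eq_one_iff g).mp h2) h1
    apply Function.Injective.bijective_of_nat_card_le hinj
    rw [Nat.card_prod]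
    have h5 : Nat.card (G ⧸ (P : Subgroup G)) = (P : Subgroup G).index := rfl
    rw [h5, Subgroup.card_mul_index]
  -- every irreducible character of the quotient is trivial
  have hβ : ∀ β : IrrCharacter (G ⧸ (P : Subgroup G)),
      (β : G ⧸ (P : Subgroup G) → ℂ) = fun _ => 1 := by
    intro β
    have hirr1 := isIrrCharacter_comp_surj (ψ.prod (QuotientGroup.mk' (P : Subgroup G)))
      hΘbij.2 _ (isIrrCharacter_prod (μ₀ : ↥(P : Subgroup G) → ℂ)
        (β : G ⧸ (P : Subgroup G) → ℂ) μ₀.2 β.2)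
    have hirr2 := isIrrCharacter_comp_surj ψ hψsurj (μ₀ : ↥(P : Subgroup G) → ℂ) μ₀.2
    obtain ⟨b, hb, -⟩ := irr_degree_dvd_card β
    have hdeg1 : p ∣ charDegree (fun g : G => (μ₀ : ↥(P : Subgroup G) → ℂ)
        ((ψ.prod (QuotientGroup.mk' (P : Subgroup G)) g).1) *
        (β : G ⧸ (P : Subgroup G) → ℂ) ((ψ.prod (QuotientGroup.mk' (P : Subgroup G)) g).2)) := by
      have h1 : (fun g : G => (μ₀ : ↥(P : Subgroup G) → ℂ)
          ((ψ.prod (QuotientGroup.mk' (P : Subgroup G)) g).1) *
          (β : G ⧸ (P : Subgroup G) → ℂ) ((ψ.prod (QuotientGroup.mk' (P : Subgroup G)) g).2)) 1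
          = ((m₀ * b : ℕ) : ℂ) := by
        show (μ₀ : ↥(P : Subgroup G) → ℂ) (ψ 1) *
          (β : G ⧸ (P : Subgroup G) → ℂ) (QuotientGroup.mk' (P : Subgroup G) 1) = _
        rw [map_one, map_one, hm₀, hb]
        push_cast
        ring
      rw [charDegree_of_eq h1]
      exact dvd_mul_of_dvd_left hdvdμ b
    have hdeg2 : p ∣ charDegree (fun g : G => (μ₀ : ↥(P : Subgroup G) → ℂ) (ψ g)) := by
      have h1 : (fun g : G => (μ₀ : ↥(P : Subgroup G) → ℂ) (ψ g)) 1 = ((m₀ : ℕ) : ℂ) := by
        show (μ₀ : ↥(P : Subgroup G) → ℂ) (ψ 1) = _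
        rw [map_one, hm₀]
      rw [charDegree_of_eq h1]
      exact hdvdμ
    have e1 := huniq ⟨_, hirr1⟩ hdeg1
    have e2 := huniq ⟨_, hirr2⟩ hdeg2
    have e3 := congrArg Subtype.val (e1.trans e2.symm)
    funext q
    obtain ⟨g, hg⟩ := hΘbij.2 ((1 : (P : Subgroup G)), q)
    have hg1 : ψ g = 1 := congrArg Prod.fst hg
    have hg2 : (QuotientGroup.mk' (P : Subgroup G)) g = q := congrArg Prod.snd hg
    have e4 := congrFun e3 g
    have e5 : (μ₀ : ↥(P : Subgroup G) → ℂ) (ψ g) *
        (β : G ⧸ (P : Subgroup G) → ℂ) (QuotientGroup.mk' (P : Subgroup G) g) =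
        (μ₀ : ↥(P : Subgroup G) → ℂ) (ψ g) := e4
    rw [hg1, hg2] at e5
    have hne := irr_one_ne_zero μ₀
    have e6 : (μ₀ : ↥(P : Subgroup G) → ℂ) 1 * ((β : G ⧸ (P : Subgroup G) → ℂ) q - 1) = 0 := by
      rw [mul_sub, e5, mul_one, sub_self]
    rcases mul_eq_zero.mp e6 with h | h
    · exact absurd h hne
    · exact sub_eq_zero.mp h
  -- hence the quotient is trivial
  have hidx : (P : Subgroup G).index = 1 := by
    have hs := sum_irr_one_sq (G := G ⧸ (P : Subgroup G))
    have h1 : ∀ β : IrrCharacter (G ⧸ (P : Subgroup G)),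
        (β : G ⧸ (P : Subgroup G) → ℂ) 1 ^ 2 = 1 := by
      intro β
      rw [hβ β]
      simp
    rw [Finset.sum_congr rfl fun β _ => h1 β, Finset.sum_const, Finset.card_univ] at hs
    have hsub2 : Subsingleton (IrrCharacter (G ⧸ (P : Subgroup G))) :=
      ⟨fun a b => Subtype.ext ((hβ a).trans (hβ b).symm)⟩
    have hle : Fintype.card (IrrCharacter (G ⧸ (P : Subgroup G))) ≤ 1 :=
      Fintype.card_le_one_iff_subsingleton.mpr hsub2
    have h2 : (Nat.card (G ⧸ (P : Subgroup G)) : ℂ) =
        ((Fintype.card (IrrCharacter (G ⧸ (P : Subgroup G))) : ℕ) : ℂ) := by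
      rw [← hs]; simp
    have h3 : Nat.card (G ⧸ (P : Subgroup G)) =
        Fintype.card (IrrCharacter (G ⧸ (P : Subgroup G))) := by exact_mod_cast h2
    have h4 : 0 < Nat.card (G ⧸ (P : Subgroup G)) := Nat.card_pos
    have h5 : Nat.card (G ⧸ (P : Subgroup G)) = (P : Subgroup G).index := rfl
    omega
  have htop : (P : Subgroup G) = ⊤ := Subgroup.index_eq_one.mp hidx
  intro g
  have hgP : g ∈ (P : Subgroup G) := by rw [htop]; exact Subgroup.mem_top g
  obtain ⟨k, hk⟩ := P.isPGroup' ⟨g, hgP⟩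
  exact ⟨k, congrArg Subtype.val hk⟩

/-- A `p`-group with a unique nonlinear irreducible character has `p = 2` and `|G'| = 2`. -/
theorem commutator_two_of_unique [Finite G] (p : ℕ) [hp : Fact p.Prime] (hG : IsPGroup p G)
    (h : Nat.card {χ : IrrCharacter G // p ∣ charDegree (χ : G → ℂ)} = 1) :
    p = 2 ∧ Nat.card (commutator G) = 2 := by
  classical
  haveI := Fintype.ofFinite G
  have h4 := card_pdvd_add_linear hG
  rw [h, Nat.card_eq_fintype_card] at h4
  rw [Nat.card_eq_one_iff_unique] at h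
  obtain ⟨hsub, ⟨⟨χ₀, hχ₀⟩⟩⟩ := h
  have huniq : ∀ χ : IrrCharacter G, p ∣ charDegree (χ : G → ℂ) → χ = χ₀ := by
    intro χ hχ
    have h1 := @Subsingleton.elim _ hsub ⟨χ, hχ⟩ ⟨χ₀, hχ₀⟩
    exact congrArg Subtype.val h1
  have hsq := Helper22.sum_deg_sq (G := G)
  obtain ⟨d, hd, hddvd⟩ := irr_degree_dvd_card χ₀
  have hcd : charDegree (χ₀ : G → ℂ) = d := charDegree_of_eq hd
  rw [hcd] at hχ₀
  have hsplit : ∑ χ : IrrCharacter G, charDegree (χ : G → ℂ) ^ 2 =
      d ^ 2 + (commutator G).index := by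
    rw [← Finset.add_sum_erase Finset.univ _ (Finset.mem_univ χ₀), hcd]
    have h1 : ∀ χ ∈ Finset.univ.erase χ₀, charDegree (χ : G → ℂ) ^ 2 = 1 := by
      intro χ hχ
      have hne : χ ≠ χ₀ := Finset.ne_of_mem_erase hχ
      have h2 : (χ : G → ℂ) 1 = 1 := by
        by_contra h3
        exact hne (huniq χ ((pgroup_dvd_degree_iff hG χ).mpr h3))
      rw [charDegree_of_eq (d := 1) (by rw [h2]; simp), one_pow]
    rw [Finset.sum_congr rfl h1, Finset.sum_const, smul_eq_mul, mul_one,
      Finset.card_erase_of_mem (Finset.mem_univ _), Finset.card_univ]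
    omega
  rw [hsplit] at hsq
  have hmul := Subgroup.card_mul_index (commutator G)
  obtain ⟨n, hn⟩ := IsPGroup.iff_card.mp hG
  obtain ⟨j, hj⟩ := IsPGroup.iff_card.mp (hG.to_subgroup (commutator G))
  have hd0 : d ≠ 0 := by
    rintro rfl
    rw [zero_dvd_iff] at hddvd
    exact Nat.card_pos.ne' hddvd
  obtain ⟨c, hc⟩ : ∃ c, c = Nat.card (commutator G) := ⟨_, rfl⟩
  obtain ⟨i, hi⟩ : ∃ i, i = (commutator G).index := ⟨_, rfl⟩
  rw [← hc, ← hi] at hmul
  rw [← hi] at hsq
  rw [← hc] at hj
  have hc1 : c ≠ 1 := by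
    rintro rfl
    have : d ^ 2 = 0 := by omega
    exact hd0 (pow_eq_zero_iff (two_ne_zero) |>.mp this)
  have hc0 : c ≠ 0 := by
    rw [hc]; exact Nat.card_pos.ne'
  have hj0 : j ≠ 0 := by
    rintro rfl
    exact hc1 (by rw [hj, pow_zero])
  have hpc : p ∣ c := by rw [hj]; exact dvd_pow_self p hj0
  have hkey : (c - 1) * i = d ^ 2 := by
    have : c * i = i + d ^ 2 := by rw [hmul, ← hsq]; ring
    have h5 : c = (c - 1) + 1 := by omega
    rw [h5] at this
    rw [h5]
    simp only [Nat.add_sub_cancel]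
    linarith
  have hc2 : c = 2 := by
    by_contra hc2
    have h6 : c - 1 ≠ 1 := by omega
    obtain ⟨r, hr, hrdvd⟩ := Nat.exists_prime_and_dvd h6
    have h7 : r ∣ d ^ 2 := by rw [← hkey]; exact dvd_mul_of_dvd_left hrdvd i
    have h8 : r ∣ d := hr.dvd_of_dvd_pow h7
    have h9 : r ∣ p ^ n := by rw [← hn]; exact dvd_trans h8 hddvd
    have h10 : r = p := (Nat.prime_dvd_prime_iff_eq hr hp.out).mp (hr.dvd_of_dvd_pow h9)
    rw [h10] at hrdvd
    have h11 : p ∣ c - (c - 1) := Nat.dvd_sub hpc hrdvd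
    have h12 : c - (c - 1) = 1 := by omega
    rw [h12] at h11
    exact hp.out.one_lt.ne' (Nat.dvd_one.mp h11)
  refine ⟨?_, by rw [← hc]; exact hc2⟩
  rw [hc2] at hpc
  exact (Nat.prime_dvd_prime_iff_eq hp.out Nat.prime_two).mp hpc

/-- A `2`-group with `|G'| = 2` and `k(G) = |G : G'| + 1` is extraspecial. -/
theorem extraspecial_of_commutator_two [Finite G] (hG : IsPGroup 2 G)
    (h2 : Nat.card (commutator G) = 2)
    (hk : Nat.card (IrrCharacter G) = (commutator G).index + 1) : IsExtraspecial 2 G := by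
  classical
  haveI := Fintype.ofFinite G
  have hk2 := card_irr_of_commutator_two h2
  have hmul := Subgroup.card_mul_index (commutator G)
  rw [h2] at hmul
  rw [Nat.card_eq_fintype_card] at hk
  have hZ : Nat.card (Subgroup.center G) = 2 := by omega
  -- the nonidentity element of `G'` is unique
  have huniq : ∀ a b : commutator G, a ≠ 1 → b ≠ 1 → a = b := by
    intro a b ha hb
    obtain ⟨y, -, hy⟩ := (Nat.card_eq_two_iff' (1 : commutator G)).mp h2
    rw [hy a ha, hy b hb]
  have hle : commutator G ≤ Subgroup.center G := by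
    intro c hc
    rw [Subgroup.mem_center_iff]
    intro g
    by_cases hc1 : c = 1
    · rw [hc1, mul_one, one_mul]
    · have hn : (commutator G).Normal := inferInstance
      have h3 : g * c * g⁻¹ ∈ commutator G := hn.conj_mem c hc g
      have h4 : g * c * g⁻¹ ≠ 1 := by
        intro h5
        apply hc1
        have : c = g⁻¹ * (g * c * g⁻¹) * g := by group
        rw [this, h5]; group
      have h5 := huniq ⟨g * c * g⁻¹, h3⟩ ⟨c, hc⟩
        (fun h => h4 (congrArg Subtype.val h)) (fun h => hc1 (congrArg Subtype.val h))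
      have h6 : g * c * g⁻¹ = c := congrArg Subtype.val h5
      calc g * c = g * c * g⁻¹ * g := by group
        _ = c * g := by rw [h6]
  have hcomm : commutator G = Subgroup.center G :=
    Subgroup.eq_of_le_of_card_ge hle (by rw [hZ, h2])
  have hsq : ∀ x : G, x ^ 2 ∈ Subgroup.center G := by
    intro x
    rw [Subgroup.mem_center_iff]
    intro y
    have hcm : ⁅x, y⁆ ∈ commutator G := by
      rw [commutator_def]
      exact Subgroup.commutator_mem_commutator (Subgroup.mem_top x) (Subgroup.mem_top y)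
    have hcz : ⁅x, y⁆ ∈ Subgroup.center G := hle hcm
    have hc2 : ⁅x, y⁆ * ⁅x, y⁆ = 1 := by
      have h3 := pow_card_eq_one' (G := commutator G) (x := ⟨⁅x, y⁆, hcm⟩)
      rw [h2] at h3
      have h4 : ⁅x, y⁆ ^ 2 = 1 := congrArg Subtype.val h3
      rwa [sq] at h4
    rw [Subgroup.mem_center_iff] at hcz
    have e1 : x * y = ⁅x, y⁆ * y * x := by
      rw [commutatorElement_def]; group
    calc y * x ^ 2 = ⁅x, y⁆ * ⁅x, y⁆ * y * x * x := by rw [hc2, sq]; group
      _ = ⁅x, y⁆ * (⁅x, y⁆ * y * x) * x := by group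
      _ = ⁅x, y⁆ * (x * y) * x := by rw [← e1]
      _ = (⁅x, y⁆ * x) * y * x := by group
      _ = (x * ⁅x, y⁆) * y * x := by rw [hcz x]
      _ = x * (⁅x, y⁆ * y * x) := by group
      _ = x * (x * y) := by rw [← e1]
      _ = x ^ 2 * y := by rw [sq]; group
  have hfr1 : frattini G ≤ Subgroup.center G :=
    Cfsg.Agent.S4056.frattini_le_of_sq_mem (Subgroup.center G) hsq
  have hfr2 : Subgroup.center G ≤ frattini G := by
    rw [← hcomm, commutator_def, Subgroup.commutator_le]
    intro a _ b _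
    have e : ⁅a, b⁆ = a ^ 2 * (a⁻¹ * b) ^ 2 * (b⁻¹) ^ 2 := by
      rw [commutatorElement_def]
      simp only [sq]
      group
    rw [e]
    exact (frattini G).mul_mem ((frattini G).mul_mem (Helper22.sq_mem_frattini hG a)
      (Helper22.sq_mem_frattini hG _)) (Helper22.sq_mem_frattini hG _)
  exact ⟨⟨hG, le_antisymm hfr1 hfr2, hcomm⟩, hZ⟩

/-- A nilpotent group has exactly one irreducible character of degree divisible by `p` iff
`p = 2` and the group is an extraspecial `2`-group. -/
theorem nilpotent_unique_psingular_iff [Finite G] [Group.IsNilpotent G] (p : ℕ)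
    [Fact p.Prime] :
    Nat.card {χ : IrrCharacter G // p ∣ charDegree (χ : G → ℂ)} = 1 ↔
      (p = 2 ∧ IsExtraspecial 2 G) := by
  constructor
  · intro h
    have hG := isPGroup_of_unique_psingular p h
    obtain ⟨hp2, hc2⟩ := commutator_two_of_unique p hG h
    subst hp2
    refine ⟨rfl, extraspecial_of_commutator_two hG hc2 ?_⟩
    have h4 := card_pdvd_add_linear hG
    omega
  · rintro ⟨rfl, h⟩
    exact extraspecial_unique_even h

end Cfsg.Agent.Helper24
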