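import Cfsg.Agent.Helper24.GalOdd1
import Cfsg.Agent.Helper5.ProjExt
import Cfsg.Agent.Helper24.BS1
import Cfsg.Agent.Helper24.CharCliff

/-!
# Galois automorphisms of 2-power order: extensions

* `gal_ext_fixed` : if `θ` (fixed by `g ↦ g ^ k`) extends to `G`, it has a `k`-fixed extension.
* `gal_ext_ppow` : if `G / N` is a `p`-group of odd order and `θ` is invariant and `k`-fixed then
  `θ` has a `k`-fixed extension.
* `gal_ext` : for `N` of odd index, an invariant `k`-fixed `θ` extends to `G`.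
* `gal_main` : the main theorem.
-/

set_option autoImplicit false

namespace Cfsg.Agent.Helper24

open Cfsg
open scoped Classical

universe u

theorem gal_ext_fixed {G : Type u} [Group G] [Fintype G] {k e : ℕ} (h : GalHyp G k e)
    (N : Subgroup G) [hN : N.Normal] [Fintype N] (hodd : Odd N.index) (θ : IrrCharacter N)
    (hθ : ∀ n : N, (θ : N → ℂ) (n ^ k) = (θ : N → ℂ) n) (χ₀ : IrrCharacter G)
    (hχ₀ : ∀ n : N, (χ₀ : G → ℂ) n = (θ : N → ℂ) n) :
    ∃ χ₂ : IrrCharacter G, (∀ n : N, (χ₂ : G → ℂ) n = (θ : N → ℂ) n) ∧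
      ∀ g, (χ₂ : G → ℂ) (g ^ k) = (χ₂ : G → ℂ) g := by
  have hN0 : (Nat.card N : ℂ) ≠ 0 := Nat.cast_ne_zero.mpr Nat.card_pos.ne'
  have hG0 : (Nat.card G : ℂ) ≠ 0 := Nat.cast_ne_zero.mpr Nat.card_pos.ne'
  -- χ₁ = χ₀ ∘ pow k
  have hχ₁N : ∀ n : N, (χ₀ : G → ℂ) ((n : G) ^ k) = (θ : N → ℂ) n := by
    intro n
    have : ((n : G) ^ k) = ((n ^ k : N) : G) := by rw [Subgroup.coe_pow]
    rw [this, hχ₀, hθ]
  obtain ⟨ψ, hψ⟩ : ∃ ψ : G → ℂ, ψ = (fun g => (χ₀ : G → ℂ) (g ^ k)) *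
      (fun g => starRingEnd ℂ ((χ₀ : G → ℂ) g)) := ⟨_, rfl⟩
  have hχ₁irr : IsIrrCharacter G (fun g => (χ₀ : G → ℂ) (g ^ k)) :=
    Cfsg.Agent.Helper22.isIrrCharacter_pow_coprime χ₀ k h.cop
  have hψc : IsCharacter G ψ := by
    rw [hψ]
    exact Cfsg.Agent.Helper5.isCharacter_mul (isCharacter_of_isIrrCharacter hχ₁irr)
      (isCharacter_star (isCharacter_of_isIrrCharacter χ₀.2))
  obtain ⟨Pc, hPc⟩ : ∃ Pc : G → ℂ, Pc = indFun N (fun _ : N => (1 : ℂ)) := ⟨_, rfl⟩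
  have hPcc : IsCharacter G Pc := by
    rw [hPc]
    exact isCharacter_induced N _
      (isCharacter_of_isIrrCharacter (Cfsg.Agent.Helper22.isIrrCharacter_one (G := N)))
  have hPccf := isCharacter_isClassFunction hPcc
  have e1 : classInner Pc ψ = 1 := by
    have hθ1 := irr_inner_self θ
    rw [classInner_def'] at hθ1
    rw [hPc, classInner_indFun N _ ψ (isCharacter_isClassFunction hψc), classInner_def', hψ]
    refine Eq.trans ?_ hθ1
    congr 1
    refine Finset.sum_congr rfl fun n _ => ?_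
    simp only [Pi.mul_apply, map_mul, Complex.conj_conj, one_mul]
    rw [hχ₁N, hχ₀, mul_comm]
  have hdec := classFunction_eq_sum_irr Pc hPccf
  choose a ha using fun β : IrrCharacter G => isCharacter_inner_irr hPcc β
  choose b hb using fun β : IrrCharacter G =>
    classInner_isCharacter_natCast (isCharacter_of_isIrrCharacter β.2) hψc
  have e2 : classInner Pc ψ = ((∑ β : IrrCharacter G, a β * b β : ℕ) : ℂ) := by
    have e : classInner Pc ψ =
        classInner (∑ β : IrrCharacter G, classInner Pc (β : G → ℂ) • (β : G → ℂ)) ψ :=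
      congrArg (fun F => classInner F ψ) hdec
    rw [e, classInner_sum_left]
    push_cast
    refine Finset.sum_congr rfl fun β _ => ?_
    rw [classInner_smul_left, ha, hb]
  have e3 : ∑ β : IrrCharacter G, a β * b β = 1 := by
    rw [e1] at e2; exact_mod_cast e2.symm
  obtain ⟨β, -, hβ⟩ := Finset.exists_ne_zero_of_sum_ne_zero (by rw [e3]; exact one_ne_zero)
  have hle : a β * b β ≤ 1 := by
    rw [← e3]
    exact Finset.single_le_sum (f := fun β => a β * b β) (fun _ _ => Nat.zero_le _)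
      (Finset.mem_univ β)
  have hab : a β * b β = 1 := by omega
  have ha1 : a β = 1 := Nat.eq_one_of_mul_eq_one_right hab
  have hb1 : b β = 1 := Nat.eq_one_of_mul_eq_one_left hab
  -- N ≤ ker β
  have h1 : classInner Pc (β : G → ℂ) = 1 := by rw [ha, ha1]; simp
  rw [hPc, classInner_indFun N _ _ (irr_isClassFunction β), classInner_def'] at h1
  have hsum : ∑ n : N, (1 : ℂ) * starRingEnd ℂ ((β : G → ℂ) n) =
      starRingEnd ℂ (∑ n : N, (β : G → ℂ) n) := by
    rw [map_sum]; exact Finset.sum_congr rfl fun n _ => one_mul _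
  rw [hsum] at h1
  have h2 : ∑ n : N, (β : G → ℂ) n ≠ 0 := by
    intro h0
    rw [h0, map_zero, mul_zero] at h1
    exact zero_ne_one h1
  have hker := irr_ker_of_sum_ne_zero N β h2
  have hβ1 : (β : G → ℂ) 1 = 1 := by
    have h3 : ∑ n : N, (β : G → ℂ) n = (Nat.card N : ℂ) * (β : G → ℂ) 1 := by
      rw [Finset.sum_congr rfl (fun (n : N) _ => hker (n : G) n.2), Finset.sum_const,
        Finset.card_univ,
        nsmul_eq_mul, Nat.card_eq_fintype_card]
    rw [h3, map_mul, Complex.conj_natCast, ← mul_assoc, inv_mul_cancel₀ hN0, one_mul] at h1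
    have := congrArg (starRingEnd ℂ) h1
    rwa [Complex.conj_conj, map_one] at this
  have hβN : ∀ x ∈ N, (β : G → ℂ) x = 1 := fun x hx => (hker x hx).trans hβ1
  -- χ₁ = β χ₀
  have hβχ : IsIrrCharacter G ((β : G → ℂ) * (χ₀ : G → ℂ)) :=
    linear_mul_irr (β : G → ℂ) (χ₀ : G → ℂ) β.2 hβ1 χ₀.2
  have h3 : classInner ((β : G → ℂ) * (χ₀ : G → ℂ)) (fun g => (χ₀ : G → ℂ) (g ^ k)) = 1 := by
    have h4 := hb β
    rw [hb1, classInner_def', hψ] at h4
    rw [classInner_def']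
    simp only [Nat.cast_one] at h4
    rw [← h4]
    congr 1
    refine Finset.sum_congr rfl fun g _ => ?_
    simp only [Pi.mul_apply, map_mul, Complex.conj_conj]
    ring
  have heq : (⟨(β : G → ℂ) * (χ₀ : G → ℂ), hβχ⟩ : IrrCharacter G) =
      ⟨fun g => (χ₀ : G → ℂ) (g ^ k), hχ₁irr⟩ := by
    by_contra hne
    have := irr_inner_ne hne
    rw [h3] at this
    exact one_ne_zero this
  have hχ₁ : ∀ g, (χ₀ : G → ℂ) (g ^ k) = (β : G → ℂ) g * (χ₀ : G → ℂ) g := by
    intro g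
    exact (congrFun (congrArg Subtype.val heq) g).symm
  -- the square root
  obtain ⟨φ, hφ⟩ := Cfsg.Agent.Helper5.linChar_exists_hom (isCharacter_of_isIrrCharacter β.2) hβ1
  have hφN : ∀ x ∈ N, φ x = 1 := by
    intro x hx
    apply Units.ext
    rw [hφ, hβN x hx]; rfl
  obtain ⟨j, hj⟩ := id hodd
  have hφm : ∀ g, φ g ^ N.index = 1 := by
    intro g
    rw [← map_pow]
    exact hφN _ (Subgroup.pow_index_mem N g)
  obtain ⟨μ, hμ⟩ : ∃ μ : G →* ℂˣ, μ = φ ^ (j + 1) := ⟨_, rfl⟩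
  have hμsq : ∀ g, μ g ^ 2 = φ g := by
    intro g
    rw [hμ, MonoidHom.pow_apply, ← pow_mul]
    have : (j + 1) * 2 = N.index + 1 := by omega
    rw [this, pow_succ, hφm, one_mul]
  have hμN : ∀ x ∈ N, μ x = 1 := by
    intro x hx
    rw [hμ, MonoidHom.pow_apply, hφN x hx, one_pow]
  have hμk : ∀ g, μ (g ^ k) * μ g = 1 := by
    intro g
    rw [← map_mul, ← pow_succ]
    exact hμN _ (h.pow_succ_mem N hodd g)
  have hχ₂irr : IsIrrCharacter G ((fun g => ((μ g : ℂˣ) : ℂ)) * (χ₀ : G → ℂ)) :=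
    linear_mul_irr _ (χ₀ : G → ℂ) (isIrrCharacter_unitsHom μ) (by simp) χ₀.2
  refine ⟨⟨_, hχ₂irr⟩, ?_, ?_⟩
  · intro n
    show ((μ (n : G) : ℂˣ) : ℂ) * (χ₀ : G → ℂ) n = _
    rw [hμN _ n.2, hχ₀]; simp
  · intro g
    show ((μ (g ^ k) : ℂˣ) : ℂ) * (χ₀ : G → ℂ) (g ^ k) = ((μ g : ℂˣ) : ℂ) * (χ₀ : G → ℂ) g
    rw [hχ₁, ← hφ, ← hμsq]
    have h5 : ((μ (g ^ k) : ℂˣ) : ℂ) * ((μ g : ℂˣ) : ℂ) = 1 := by
      rw [← Units.val_mul, hμk]; rfl
    rw [Units.val_pow_eq_pow_val]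
    linear_combination ((μ g : ℂˣ) : ℂ) * (χ₀ : G → ℂ) g * h5

theorem gal_ext_ppow (p : ℕ) (hp : p.Prime) (k e : ℕ) :
    ∀ (a : ℕ) (G : Type u) [Group G] [Finite G] (N : Subgroup G) [hN : N.Normal],
      GalHyp G k e → N.index = p ^ a → Odd N.index → ∀ θ : IrrCharacter N,
      (∀ (g : G) (n : N), (θ : N → ℂ) ⟨g * n * g⁻¹, hN.conj_mem n n.2 g⟩ = (θ : N → ℂ) n) →
      (∀ n : N, (θ : N → ℂ) (n ^ k) = (θ : N → ℂ) n) →
      ∃ χ : IrrCharacter G, (∀ n : N, (χ : G → ℂ) n = (θ : N → ℂ) n) ∧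
        ∀ g, (χ : G → ℂ) (g ^ k) = (χ : G → ℂ) g := by
  haveI : Fact p.Prime := ⟨hp⟩
  intro a
  induction a with
  | zero =>
    intro G _ _ N hN h hidx hodd θ hinv hθ
    rw [pow_zero, Subgroup.index_eq_one] at hidx
    have hmem : ∀ g : G, g ∈ N := fun g => by rw [hidx]; trivial
    let f : G →* N := MonoidHom.codRestrict (MonoidHom.id G) N hmem
    have hf : Function.Surjective f := fun n => ⟨n, Subtype.ext rfl⟩
    refine ⟨⟨fun g => (θ : N → ℂ) (f g), isIrrCharacter_comp_surj f hf _ θ.2⟩, ?_, ?_⟩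
    · intro n
      show (θ : N → ℂ) (f n) = _
      congr 1
    · intro g
      show (θ : N → ℂ) (f (g ^ k)) = (θ : N → ℂ) (f g)
      rw [map_pow, hθ]
  | succ a ih =>
    intro G _ _ N hN h hidx hodd θ hinv hθ
    haveI := Fintype.ofFinite G
    -- a normal subgroup M of index p containing N
    have hcardQ : Nat.card (G ⧸ N) = p ^ (a + 1) := by rw [← Subgroup.index_eq_card]; exact hidx
    obtain ⟨K, hK⟩ := Sylow.exists_subgroup_card_pow_prime p
      (show p ^ a ∣ Nat.card (G ⧸ N) by rw [hcardQ]; exact pow_dvd_pow p (Nat.le_succ a))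
    have hKidx : K.index = p := by
      have h1 := Subgroup.card_mul_index K
      rw [hK, hcardQ, pow_succ] at h1
      exact Nat.eq_of_mul_eq_mul_left (pow_pos hp.pos a) h1
    haveI hKn : K.Normal := Subgroup.normal_of_index_eq_minFac_card (by
      rw [hKidx, hcardQ, hp.pow_minFac (Nat.succ_ne_zero a)])
    obtain ⟨M, hMdef⟩ : ∃ M : Subgroup G, M = K.comap (QuotientGroup.mk' N) := ⟨_, rfl⟩
    haveI hMn : M.Normal := by rw [hMdef]; exact hKn.comap _
    have hMidx : M.index = p := by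
      rw [hMdef, Subgroup.index_comap_of_surjective K (QuotientGroup.mk'_surjective N)]
      exact hKidx
    have hNM : N ≤ M := by
      intro n hn
      rw [hMdef, Subgroup.mem_comap]
      have : (QuotientGroup.mk' N) n = 1 := (QuotientGroup.eq_one_iff n).mpr hn
      rw [this]; exact K.one_mem
    have hpodd : Odd p := by
      rw [hidx] at hodd
      exact Nat.Odd.of_mul_right (by rw [← pow_succ]; exact hodd)
    have hrel : (N.subgroupOf M).index = p ^ a := by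
      have h1 := Subgroup.relIndex_mul_index hNM
      rw [hMidx, hidx, pow_succ] at h1
      exact Nat.eq_of_mul_eq_mul_right hp.pos h1
    have hrelodd : Odd (N.subgroupOf M).index := by rw [hrel]; exact hpodd.pow
    -- θ' on N.subgroupOf M
    let θ' : IrrCharacter (N.subgroupOf M) :=
      ⟨Cfsg.Agent.Helper5.resSub N M (θ : N → ℂ),
        Cfsg.Agent.Helper5.isIrrCharacter_resSub hNM (θ : N → ℂ) θ.2⟩
    have hθ'val : ∀ x : N.subgroupOf M, (θ' : N.subgroupOf M → ℂ) x =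
        (θ : N → ℂ) ⟨((x : M) : G), Subgroup.mem_subgroupOf.mp x.2⟩ := fun x => rfl
    have hinv' : ∀ (g : M) (n : N.subgroupOf M), (θ' : N.subgroupOf M → ℂ)
        ⟨g * n * g⁻¹, (inferInstance : (N.subgroupOf M).Normal).conj_mem n n.2 g⟩ =
        (θ' : N.subgroupOf M → ℂ) n := by
      intro g n
      rw [hθ'val, hθ'val]
      exact hinv (g : G) ⟨((n : M) : G), Subgroup.mem_subgroupOf.mp n.2⟩
    have hθ' : ∀ n : N.subgroupOf M, (θ' : N.subgroupOf M → ℂ) (n ^ k) =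
        (θ' : N.subgroupOf M → ℂ) n := by
      intro n
      rw [hθ'val, hθ'val]
      exact hθ ⟨((n : M) : G), Subgroup.mem_subgroupOf.mp n.2⟩
    obtain ⟨η, hηN, hησ⟩ := ih M (N.subgroupOf M) (h.subgroup M) hrel hrelodd θ' hinv' hθ'
    haveI : Fintype M := Fintype.ofFinite M
    haveI : Fintype (N.subgroupOf M) := Fintype.ofFinite _
    have hθ'1 := irr_inner_self θ'
    -- η is G-invariant
    have hηinv : ∀ (g : G) (m : M), (η : M → ℂ) ⟨g * m * g⁻¹, hMn.conj_mem m m.2 g⟩ =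
        (η : M → ℂ) m := by
      intro g
      have hirr : IsIrrCharacter M (twist M (η : M → ℂ) g) := isIrrCharacter_twist M _ η.2 g
      have hover1 : classInner (fun n : N.subgroupOf M => (η : M → ℂ) n)
          (θ' : N.subgroupOf M → ℂ) ≠ 0 := by
        rw [show (fun n : N.subgroupOf M => (η : M → ℂ) n) = (θ' : N.subgroupOf M → ℂ) from
          funext hηN, hθ'1]
        exact one_ne_zero
      have hover2 : classInner (fun n : N.subgroupOf M => twist M (η : M → ℂ) g n)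
          (θ' : N.subgroupOf M → ℂ) ≠ 0 := by
        have : (fun n : N.subgroupOf M => twist M (η : M → ℂ) g n) =
            (θ' : N.subgroupOf M → ℂ) := by
          funext n
          have hmem : g * ((n : M) : G) * g⁻¹ ∈ N :=
            hN.conj_mem _ (Subgroup.mem_subgroupOf.mp n.2) g
          have h1 : twist M (η : M → ℂ) g n =
              (η : M → ℂ) ((⟨⟨g * ((n : M) : G) * g⁻¹, hMn.conj_mem _ (n : M).2 g⟩,
                Subgroup.mem_subgroupOf.mpr hmem⟩ : N.subgroupOf M) : M) := rfl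
          rw [h1, hηN, hθ'val, hθ'val]
          exact hinv g ⟨((n : M) : G), Subgroup.mem_subgroupOf.mp n.2⟩
        rw [this, hθ'1]
        exact one_ne_zero
      have hσ2 : ∀ m : M, twist M (η : M → ℂ) g (m ^ k) = twist M (η : M → ℂ) g m := by
        intro m
        show (η : M → ℂ) ⟨g * ((m ^ k : M) : G) * g⁻¹, _⟩ = (η : M → ℂ) ⟨g * (m : G) * g⁻¹, _⟩
        have : (⟨g * ((m ^ k : M) : G) * g⁻¹, hMn.conj_mem _ (m ^ k).2 g⟩ : M) =
            (⟨g * (m : G) * g⁻¹, hMn.conj_mem _ m.2 g⟩ : M) ^ k := by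
          apply Subtype.ext
          have e1 : ((m ^ k : M) : G) = (m : G) ^ k := Subgroup.coe_pow M m k
          have e2 : (((⟨g * (m : G) * g⁻¹, hMn.conj_mem _ m.2 g⟩ : M) ^ k : M) : G) =
              (g * (m : G) * g⁻¹) ^ k := Subgroup.coe_pow M _ k
          show g * ((m ^ k : M) : G) * g⁻¹ = _
          rw [e2, e1]
          exact (conj_pow (a := g) (b := (m : G)) (i := k)).symm
        rw [this, hησ]
      have := gal_over_unique (h.subgroup M) (N.subgroupOf M) hrelodd θ'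
        (⟨twist M (η : M → ℂ) g, hirr⟩ : IrrCharacter M) η hσ2 hησ hover2 hover1
      intro m
      exact congrFun (congrArg Subtype.val this) m
    -- extend η to G
    have hcyc : IsCyclic (G ⧸ M) := isCyclic_of_prime_card (p := p) (by
      rw [← Subgroup.index_eq_card]; exact hMidx)
    obtain ⟨d, ρ, hρ, hρη⟩ := η.2
    have hinvρ : ∀ (g : G) (m : M),
        ρ.character ⟨g * m * g⁻¹, hMn.conj_mem m m.2 g⟩ = ρ.character m := by
      intro g m; rw [hρη]; exact hηinv g m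
    obtain ⟨ρ', hρ'⟩ := Cfsg.Agent.Helper5.exists_extension_of_cyclic M hcyc ρ hρ hinvρ
    obtain ⟨hirr', hval'⟩ := Cfsg.Agent.Helper5.irr_ext_of_rep_ext M ρ hρ ρ' hρ'
    have hModd : Odd M.index := by rw [hMidx]; exact hpodd
    obtain ⟨χ₂, h2M, h2σ⟩ := gal_ext_fixed h M hModd η hησ ⟨ρ'.character, hirr'⟩
      (fun m => by rw [← hρη]; exact hval' m)
    refine ⟨χ₂, ?_, h2σ⟩
    intro n
    have h1 := h2M ⟨(n : G), hNM n.2⟩
    have h2 := hηN ⟨⟨(n : G), hNM n.2⟩, Subgroup.mem_subgroupOf.mpr n.2⟩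
    rw [hθ'val] at h2
    exact h1.trans h2

theorem gal_ext {G : Type u} [Group G] [Finite G] {k e : ℕ} (h : GalHyp G k e)
    (N : Subgroup G) [hN : N.Normal] (hodd : Odd N.index) (θ : IrrCharacter N)
    (hinv : ∀ (g : G) (n : N),
      (θ : N → ℂ) ⟨g * n * g⁻¹, hN.conj_mem n n.2 g⟩ = (θ : N → ℂ) n)
    (hθ : ∀ n : N, (θ : N → ℂ) (n ^ k) = (θ : N → ℂ) n) :
    ∃ χ : G → ℂ, IsIrrCharacter G χ ∧ ∀ n : N, χ n = (θ : N → ℂ) n := by
  apply Cfsg.Agent.Helper5.exists_irr_ext_of_sylow N (θ : N → ℂ) θ.2 hinv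
  intro p hp
  haveI : Fact p.Prime := ⟨hp⟩
  obtain ⟨Q⟩ : Nonempty (Sylow p (G ⧸ N)) := inferInstance
  obtain ⟨P, hPdef⟩ : ∃ P : Subgroup G, P = (Q : Subgroup (G ⧸ N)).comap (QuotientGroup.mk' N) :=
    ⟨_, rfl⟩
  have hNP : N ≤ P := by
    intro n hn
    rw [hPdef, Subgroup.mem_comap]
    have : (QuotientGroup.mk' N) n = 1 := (QuotientGroup.eq_one_iff n).mpr hn
    rw [this]; exact Subgroup.one_mem _
  have hPidx : P.index = (Q : Subgroup (G ⧸ N)).index := by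
    rw [hPdef, Subgroup.index_comap_of_surjective _ (QuotientGroup.mk'_surjective N)]
  have hcop : Nat.Coprime P.index p := by
    rw [hPidx, Nat.coprime_comm]
    exact (Nat.Prime.coprime_iff_not_dvd hp).mpr Q.not_dvd_index
  have hrel : (N.subgroupOf P).index = p ^ (Nat.card (G ⧸ N)).factorization p := by
    have h1 := Subgroup.relIndex_mul_index hNP
    have h2 := Subgroup.card_mul_index (Q : Subgroup (G ⧸ N))
    rw [← Subgroup.index_eq_card, ← hPidx] at h2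
    have h3 : Nat.card (Q : Subgroup (G ⧸ N)) = p ^ (Nat.card (G ⧸ N)).factorization p :=
      Q.card_eq_multiplicity
    have hP0 : 0 < P.index := Nat.pos_of_ne_zero Subgroup.index_ne_zero_of_finite
    have h4 : N.relIndex P * P.index = Nat.card (Q : Subgroup (G ⧸ N)) * P.index := by
      rw [h1, h2]
    rw [← h3]
    exact Nat.eq_of_mul_eq_mul_right hP0 h4
  have hrelodd : Odd (N.subgroupOf P).index := by
    have h1 := Subgroup.relIndex_mul_index hNP
    rw [← h1] at hodd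
    exact (Nat.odd_mul.mp hodd).1
  let θ' : IrrCharacter (N.subgroupOf P) :=
    ⟨Cfsg.Agent.Helper5.resSub N P (θ : N → ℂ),
      Cfsg.Agent.Helper5.isIrrCharacter_resSub hNP (θ : N → ℂ) θ.2⟩
  have hθ'val : ∀ x : N.subgroupOf P, (θ' : N.subgroupOf P → ℂ) x =
      (θ : N → ℂ) ⟨((x : P) : G), Subgroup.mem_subgroupOf.mp x.2⟩ := fun x => rfl
  have hinv' : ∀ (g : P) (n : N.subgroupOf P), (θ' : N.subgroupOf P → ℂ)
      ⟨g * n * g⁻¹, (inferInstance : (N.subgroupOf P).Normal).conj_mem n n.2 g⟩ =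
      (θ' : N.subgroupOf P → ℂ) n := by
    intro g n
    rw [hθ'val, hθ'val]
    exact hinv (g : G) ⟨((n : P) : G), Subgroup.mem_subgroupOf.mp n.2⟩
  have hθ' : ∀ n : N.subgroupOf P, (θ' : N.subgroupOf P → ℂ) (n ^ k) =
      (θ' : N.subgroupOf P → ℂ) n := by
    intro n
    rw [hθ'val, hθ'val]
    exact hθ ⟨((n : P) : G), Subgroup.mem_subgroupOf.mp n.2⟩
  obtain ⟨η, hηN, -⟩ := gal_ext_ppow p hp k e _ P (N.subgroupOf P) (h.subgroup P) hrel hrelodd
    θ' hinv' hθ'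
  refine ⟨P, hNP, (η : P → ℂ), hcop, isCharacter_of_isIrrCharacter η.2, ?_⟩
  intro n
  have h2 := hηN ⟨⟨(n : G), hNP n.2⟩, Subgroup.mem_subgroupOf.mpr n.2⟩
  rw [hθ'val] at h2
  exact h2

theorem gal_main {G : Type u} [Group G] [Fintype G] (N : Subgroup G) [hN : N.Normal]
    [Fintype N] (hidx : Odd N.index) (k e : ℕ) (hk : Nat.Coprime k (Nat.card G))
    (hke : k ^ (2 ^ e) ≡ 1 [MOD Nat.card G]) (hk₂ : ∀ g : G, Odd (orderOf g) → g ^ k = g⁻¹)
    (θ : IrrCharacter N) (hθ : ∀ n : N, (θ : N → ℂ) (n ^ k) = (θ : N → ℂ) n) :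
    ∃ χ : IrrCharacter G, (classInner (fun n : N => (χ : G → ℂ) n) (θ : N → ℂ) ≠ 0 ∧
        (∀ g : G, (χ : G → ℂ) (g ^ k) = (χ : G → ℂ) g) ∧
        ((∀ g : G, ∀ n : N, (θ : N → ℂ) ⟨g * n * g⁻¹, hN.conj_mem n n.2 g⟩ = (θ : N → ℂ) n) →
          ∀ n : N, (χ : G → ℂ) n = (θ : N → ℂ) n)) ∧
      ∀ χ' : IrrCharacter G, classInner (fun n : N => (χ' : G → ℂ) n) (θ : N → ℂ) ≠ 0 →
        (∀ g : G, (χ' : G → ℂ) (g ^ k) = (χ' : G → ℂ) g) → χ' = χ := by
  have h : GalHyp G k e := ⟨hk, hke, hk₂⟩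
  obtain ⟨χ, hσ, hc⟩ := gal_exists h N hidx θ hθ
  refine ⟨χ, ⟨hc, hσ, ?_⟩, fun χ' hc' hσ' => gal_over_unique h N hidx θ χ' χ hσ' hσ hc' hc⟩
  intro hinv
  obtain ⟨χ₀f, hχ₀irr, hχ₀⟩ := gal_ext h N hidx θ hinv hθ
  obtain ⟨χ₂, h2N, h2σ⟩ := gal_ext_fixed h N hidx θ hθ ⟨χ₀f, hχ₀irr⟩ hχ₀
  have hc2 : classInner (fun n : N => (χ₂ : G → ℂ) n) (θ : N → ℂ) ≠ 0 := by
    rw [show (fun n : N => (χ₂ : G → ℂ) n) = (θ : N → ℂ) from funext h2N, irr_inner_self]
    exact one_ne_zero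
  have : χ = χ₂ := gal_over_unique h N hidx θ χ χ₂ hσ h2σ hc hc2
  rw [this]; exact h2N

end Cfsg.Agent.Helper24
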