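import Cfsg.Agent.Helper24.DefZero2
import Cfsg.Agent.Helper24.CharIto
import Cfsg.Agent.Helper24.CharConst
import Cfsg.Agent.Helper22.Brauer1
import Cfsg.Agent.Helper22.Brauer3
import Cfsg.Agent.Helper5.LinChar

/-!
# `p`-solvable groups in which centralizers of `p`-elements are `q'`-groups

`defzero_of_pSolvable` : `p ≠ q` primes, `p ∣ |G|`, centralizers of nontrivial `p`-elements are
`q'`-groups and `G` is `p`-solvable: then `G` has an irreducible character of `p`-defect zero or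
of `q`-defect zero.
-/

set_option autoImplicit false

namespace Cfsg.Agent.Helper24

open Cfsg Cfsg.Agent.Helper22
open scoped Classical

universe u

variable {G : Type u} [Group G]

/-- A nontrivial linear character of `M` trivial on `K` when `|M : K|` is a nontrivial power of
`p`. -/
theorem exists_hom_of_relIndex_pow [Finite G] (p : ℕ) [hp : Fact p.Prime] (K M : Subgroup G)
    [hK : K.Normal] (m : ℕ) (hm : m ≠ 0) (hidx : K.relIndex M = p ^ m) :
    ∃ ψ : M →* ℂˣ, (∀ k : M, (k : G) ∈ K → ψ k = 1) ∧ ∃ m₀ : M, ψ m₀ ≠ 1 := by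
  haveI : (K.subgroupOf M).Normal := inferInstance
  have hcard : Nat.card (M ⧸ K.subgroupOf M) = p ^ m := by
    rw [← Subgroup.index_eq_card]; exact hidx
  have hpg : IsPGroup p (M ⧸ K.subgroupOf M) := IsPGroup.of_card hcard
  haveI : Nontrivial (M ⧸ K.subgroupOf M) := by
    rw [← Finite.one_lt_card_iff_nontrivial, hcard]
    exact Nat.one_lt_pow hm hp.out.one_lt
  haveI : Group.IsNilpotent (M ⧸ K.subgroupOf M) := hpg.isNilpotent
  have hcomm : commutator (M ⧸ K.subgroupOf M) ≠ ⊤ :=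
    (Group.IsSolvable.commutator_lt_top_of_nontrivial (G := M ⧸ K.subgroupOf M)).ne
  obtain ⟨lam, hlam1, hlamne⟩ := exists_linear_ne_one hcomm
  obtain ⟨φ, hφ⟩ := Helper5.linChar_exists_hom (isCharacter_of_isIrrCharacter lam.2) hlam1
  refine ⟨φ.comp (QuotientGroup.mk' (K.subgroupOf M)), ?_, ?_⟩
  · intro k hk
    have h1 : (QuotientGroup.mk' (K.subgroupOf M)) k = 1 := by
      rw [QuotientGroup.mk'_apply, QuotientGroup.eq_one_iff]
      exact Subgroup.mem_subgroupOf.mpr hk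
    rw [MonoidHom.comp_apply, h1, map_one]
  · by_contra hcon
    push Not at hcon
    apply hlamne
    funext x
    obtain ⟨y, rfl⟩ := QuotientGroup.mk'_surjective (K.subgroupOf M) x
    rw [← hφ]
    have h2 := hcon y
    rw [MonoidHom.comp_apply] at h2
    rw [h2]; rfl

/-- The inertia group of a linear character of a normal subgroup. -/
def linInertia (M : Subgroup G) [hM : M.Normal] (ψ : M →* ℂˣ) : Subgroup G where
  carrier := {g | ∀ n : M, ψ ⟨g * n * g⁻¹, hM.conj_mem n n.2 g⟩ = ψ n}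
  one_mem' := by
    intro n
    congr 1
    ext
    simp
  mul_mem' := by
    intro a b ha hb n
    have h1 := hb n
    have h2 := ha ⟨b * n * b⁻¹, hM.conj_mem n n.2 b⟩
    rw [← h1, ← h2]
    congr 1
    ext
    simp [mul_assoc]
  inv_mem' := by
    intro a ha n
    have h2 := ha ⟨a⁻¹ * n * a⁻¹⁻¹, hM.conj_mem n n.2 a⁻¹⟩
    rw [← h2]
    congr 1
    ext
    simp [mul_assoc]

theorem mem_linInertia (M : Subgroup G) [hM : M.Normal] (ψ : M →* ℂˣ) (g : G) :
    g ∈ linInertia M ψ ↔ ∀ n : M, ψ ⟨g * n * g⁻¹, hM.conj_mem n n.2 g⟩ = ψ n := Iff.rfl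


/-- The inertia group of a nontrivial linear character of `M` trivial on `K` has no elements of
order `q`. -/
theorem linInertia_no_q [Finite G] (p q : ℕ) [hp : Fact p.Prime] [hq : Fact q.Prime]
    (hC : ∀ g : G, g ≠ 1 → (∃ k : ℕ, orderOf g = p ^ k) →
      ¬ q ∣ Nat.card ↥(Subgroup.centralizer ({g} : Set G)))
    (K M : Subgroup G) [hK : K.Normal] [hM : M.Normal] (hKp : ¬ p ∣ Nat.card K)
    (m : ℕ) (hidx : K.relIndex M = p ^ m) (hqM : ¬ q ∣ Nat.card M)
    (ψ : M →* ℂˣ) (hψK : ∀ k : M, (k : G) ∈ K → ψ k = 1) (m₀ : M) (hm₀ : ψ m₀ ≠ 1) :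
    ¬ q ∣ Nat.card (linInertia M ψ) := by
  intro hdvd
  obtain ⟨z, hz⟩ := exists_prime_orderOf_dvd_card' q hdvd
  have hzG : orderOf (z : G) = q := by rw [Subgroup.orderOf_coe]; exact hz
  have hzT : ∀ n : M, ψ ⟨(z : G) * n * (z : G)⁻¹, hM.conj_mem n n.2 z⟩ = ψ n := z.2
  have hzT' : ∀ n : M, ψ ⟨(z : G)⁻¹ * n * (z : G), by
      have := hM.conj_mem n n.2 (z : G)⁻¹; rwa [inv_inv] at this⟩ = ψ n := by
    intro n
    have h1 := hzT ⟨(z : G)⁻¹ * n * (z : G), by
      have := hM.conj_mem n n.2 (z : G)⁻¹; rwa [inv_inv] at this⟩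
    rw [← h1]
    congr 1
    ext
    simp [mul_assoc]
  -- the coset
  have hcardS : Nat.card {y : M // ψ y = ψ m₀} = Nat.card ψ.ker := by
    refine Nat.card_congr ⟨fun y => ⟨m₀⁻¹ * y.1, by
        rw [MonoidHom.mem_ker, map_mul, map_inv, y.2, inv_mul_cancel]⟩,
      fun l => ⟨m₀ * l.1, by rw [map_mul, MonoidHom.mem_ker.mp l.2, mul_one]⟩, ?_, ?_⟩
    · intro y; apply Subtype.ext; simp
    · intro l; apply Subtype.ext; simp
  have hqS : ¬ q ∣ Nat.card {y : M // ψ y = ψ m₀} := by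
    rw [hcardS]
    intro h
    exact hqM (h.trans (Subgroup.card_subgroup_dvd_card ψ.ker))
  obtain ⟨σ, hσ⟩ : ∃ σ : Equiv.Perm {y : M // ψ y = ψ m₀},
      ∀ y, (((σ y).1 : M) : G) = (z : G) * (y.1 : G) * (z : G)⁻¹ := by
    refine ⟨⟨fun y => ⟨⟨(z : G) * y.1 * (z : G)⁻¹, hM.conj_mem _ y.1.2 z⟩, by
        rw [hzT]; exact y.2⟩,
      fun y => ⟨⟨(z : G)⁻¹ * y.1 * (z : G), by
        have := hM.conj_mem _ y.1.2 (z : G)⁻¹; rwa [inv_inv] at this⟩, by
        rw [hzT']; exact y.2⟩, ?_, ?_⟩, fun y => rfl⟩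
    · intro y; apply Subtype.ext; apply Subtype.ext; simp [mul_assoc]
    · intro y; apply Subtype.ext; apply Subtype.ext; simp [mul_assoc]
  have hpow : ∀ (k : ℕ) (y : {y : M // ψ y = ψ m₀}),
      ((((σ ^ k) y).1 : M) : G) = (z : G) ^ k * (y.1 : G) * ((z : G) ^ k)⁻¹ := by
    intro k
    induction k with
    | zero => intro y; simp
    | succ k ih =>
      intro y
      rw [pow_succ', Equiv.Perm.mul_apply, hσ, ih y, pow_succ']
      group
  have hσq : σ ^ q ^ 1 = 1 := by
    rw [pow_one]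
    apply Equiv.ext
    intro y
    apply Subtype.ext
    apply Subtype.ext
    rw [hpow q y]
    have h1 : (z : G) ^ q = 1 := by rw [← hzG]; exact pow_orderOf_eq_one _
    rw [h1]
    simp
  haveI : Fintype {y : M // ψ y = ψ m₀} := Fintype.ofFinite _
  obtain ⟨y, hy⟩ := Equiv.Perm.exists_fixed_point_of_prime (p := q) (n := 1)
    (by rwa [← Nat.card_eq_fintype_card]) hσq
  have hyz : (z : G) * (y.1 : G) * (z : G)⁻¹ = (y.1 : G) := by
    rw [← hσ y, hy]
  have hψy : ψ y.1 ≠ 1 := by rw [y.2]; exact hm₀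
  haveI : (K.subgroupOf M).Normal := inferInstance
  have hmem : ((y.1 : M) : G) ^ p ^ m ∈ K := by
    have h1 : y.1 ^ (K.subgroupOf M).index ∈ K.subgroupOf M := Subgroup.pow_index_mem _ _
    rw [show (K.subgroupOf M).index = p ^ m from hidx] at h1
    exact Subgroup.mem_subgroupOf.mp h1
  have hyK : ψ (y.1 ^ p ^ m) = 1 := hψK _ hmem
  have hu1 : ((y.1 : M) : G) ^ Nat.card K ≠ 1 := by
    intro h1
    apply hψy
    have h2 : ψ y.1 ^ Nat.card K = 1 := by
      rw [← map_pow]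
      have h3 : y.1 ^ Nat.card K = 1 := Subtype.ext h1
      rw [h3, map_one]
    have h3 : ψ y.1 ^ p ^ m = 1 := by rw [← map_pow]; exact hyK
    have h4 : orderOf (ψ y.1) ∣ Nat.gcd (Nat.card K) (p ^ m) :=
      Nat.dvd_gcd (orderOf_dvd_of_pow_eq_one h2) (orderOf_dvd_of_pow_eq_one h3)
    have h5 : Nat.gcd (Nat.card K) (p ^ m) = 1 :=
      Nat.Coprime.pow_right m ((Nat.Prime.coprime_iff_not_dvd hp.out).mpr hKp).symm
    rw [h5, Nat.dvd_one, orderOf_eq_one_iff] at h4
    exact h4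
  have hupow : (((y.1 : M) : G) ^ Nat.card K) ^ p ^ m = 1 := by
    rw [← pow_mul, mul_comm, pow_mul]
    have h1 : (⟨_, hmem⟩ : K) ^ Nat.card K = 1 := pow_card_eq_one'
    exact congrArg Subtype.val h1
  obtain ⟨k, hk⟩ : ∃ k, orderOf (((y.1 : M) : G) ^ Nat.card K) = p ^ k := by
    obtain ⟨k, -, hk⟩ := (Nat.dvd_prime_pow hp.out).mp (orderOf_dvd_of_pow_eq_one hupow)
    exact ⟨k, hk⟩
  apply hC _ hu1 ⟨k, hk⟩
  have hcomm : (z : G) * (y.1 : G) = (y.1 : G) * (z : G) := by
    have h1 := congrArg (fun t => t * (z : G)) hyz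
    simpa [mul_assoc] using h1
  have hzc : (z : G) ∈ Subgroup.centralizer ({((y.1 : M) : G) ^ Nat.card K} : Set G) := by
    rw [Subgroup.mem_centralizer_singleton_iff]
    exact ((Commute.pow_right (show Commute (z : G) (y.1 : G) from hcomm) _)).eq
  have h1 := orderOf_dvd_natCard
    (⟨(z : G), hzc⟩ : Subgroup.centralizer ({((y.1 : M) : G) ^ Nat.card K} : Set G))
  rw [← Subgroup.orderOf_coe] at h1
  rw [← hzG]
  exact h1

/-- `p ≠ q` primes, `p ∣ |G|`, centralizers of nontrivial `p`-elements are `q'`-groups, `G` is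
`p`-solvable: then `G` has an irreducible character of `p`-defect zero or of `q`-defect zero. -/
theorem defzero_of_pSolvable [Finite G] (p q : ℕ) [hp : Fact p.Prime] [hq : Fact q.Prime]
    (hpq : p ≠ q) (hpG : p ∣ Nat.card G)
    (hC : ∀ g : G, g ≠ 1 → (∃ k : ℕ, orderOf g = p ^ k) →
      ¬ q ∣ Nat.card ↥(Subgroup.centralizer ({g} : Set G)))
    (hsolv : IsPSolvable p G) :
    (∃ χ : IrrCharacter G,
      (charDegree (χ : G → ℂ)).factorization p = (Nat.card G).factorization p) ∨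
    (∃ χ : IrrCharacter G,
      (charDegree (χ : G → ℂ)).factorization q = (Nat.card G).factorization q) := by
  haveI := Fintype.ofFinite G
  obtain ⟨K, ⟨hKn, hKp⟩, hKmax⟩ := Set.exists_max_image
    {K : Subgroup G | K.Normal ∧ ¬ p ∣ Nat.card K} (fun K => Nat.card K) (Set.toFinite _)
    ⟨⊥, Subgroup.normal_bot, by rw [Subgroup.card_bot]; exact hp.out.not_dvd_one⟩
  haveI := hKn
  have hKtop : K ≠ ⊤ := by
    rintro rfl
    apply hKp
    rw [Subgroup.card_top]; exact hpG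
  obtain ⟨M, hMn, hKM, hidx⟩ := hasPSeries_of_isPSolvable hp.out hsolv K hKn hKtop
  haveI := hMn
  have hcardM : Nat.card M = Nat.card K * K.relIndex M := by
    rw [← Subgroup.relIndex_bot_left, ← Subgroup.relIndex_bot_left (H := K),
      Subgroup.relIndex_mul_relIndex _ _ _ bot_le hKM.le]
  have hlt : Nat.card K < Nat.card M := by
    by_contra hcon
    push Not at hcon
    exact hKM.ne (Subgroup.eq_of_le_of_card_ge hKM.le hcon)
  obtain ⟨m, hm⟩ : ∃ m : ℕ, K.relIndex M = p ^ m := by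
    rcases hidx with h | h
    · exact h
    · exfalso
      have hMp : ¬ p ∣ Nat.card M := by
        rw [hcardM]
        intro hdvd
        rcases (Nat.Prime.dvd_mul hp.out).mp hdvd with h1 | h1
        · exact hKp h1
        · exact (Nat.Prime.coprime_iff_not_dvd hp.out).mp h.symm h1
      have := hKmax M ⟨hMn, hMp⟩
      omega
  have hm0 : m ≠ 0 := by
    rintro rfl
    rw [pow_zero] at hm
    rw [hm, mul_one] at hcardM
    omega
  by_cases hqK : q ∣ Nat.card K
  · left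
    rcases defzero_or_conj_prod p q hC with h | h
    · exact h
    · exfalso
      obtain ⟨z, hz⟩ := exists_prime_orderOf_dvd_card' q hqK
      have hzG : orderOf (z : G) = q := by rw [Subgroup.orderOf_coe]; exact hz
      have hz1 : (z : G) ≠ 1 := by
        intro h1; rw [h1, orderOf_one] at hzG; exact hq.out.one_lt.ne hzG
      obtain ⟨g, h', hzg, hzh, hne, k, hk⟩ := h (z : G) hz1 ⟨1, by rw [hzG, pow_one]⟩
      have hgK : g ∈ K := by
        obtain ⟨c, hc⟩ := isConj_iff.mp hzg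
        rw [← hc]; exact hKn.conj_mem _ z.2 c
      have hhK : h' ∈ K := by
        obtain ⟨c, hc⟩ := isConj_iff.mp hzh
        rw [← hc]; exact hKn.conj_mem _ z.2 c
      have hghK : g * h'⁻¹ ∈ K := K.mul_mem hgK (K.inv_mem hhK)
      have hdvd : orderOf (g * h'⁻¹) ∣ Nat.card K := by
        have h1 := orderOf_dvd_natCard (⟨g * h'⁻¹, hghK⟩ : K)
        rwa [← Subgroup.orderOf_coe] at h1
      rw [hk] at hdvd
      have hk0 : k = 0 := by
        by_contra hk0
        exact hKp ((dvd_pow_self p hk0).trans hdvd)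
      apply hne
      rw [← orderOf_eq_one_iff, hk, hk0, pow_zero]
  · right
    have hqM : ¬ q ∣ Nat.card M := by
      rw [hcardM, hm]
      intro hdvd
      rcases (Nat.Prime.dvd_mul hq.out).mp hdvd with h1 | h1
      · exact hqK h1
      · exact hpq ((Nat.prime_dvd_prime_iff_eq hq.out hp.out).mp
          (hq.out.dvd_of_dvd_pow h1)).symm
    obtain ⟨ψ, hψK, m₀, hm₀⟩ := exists_hom_of_relIndex_pow p K M m hm0 hm
    have hqT : ¬ q ∣ Nat.card (linInertia M ψ) :=
      linInertia_no_q p q hC K M hKp m hm hqM ψ hψK m₀ hm₀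
    obtain ⟨T, hTdef⟩ : ∃ T : Subgroup G, T = linInertia M ψ := ⟨_, rfl⟩
    rw [← hTdef] at hqT
    haveI : Fintype M := Fintype.ofFinite M
    haveI : Fintype T := Fintype.ofFinite T
    have hθ : IsIrrCharacter M (fun n => ((ψ n : ℂˣ) : ℂ)) := Helper22.isIrrCharacter_of_hom ψ
    have hT : ∀ g : G, g ∈ T ↔ ∀ n : M,
        (fun n : M => ((ψ n : ℂˣ) : ℂ)) ⟨g * n * g⁻¹, hMn.conj_mem (n : G) n.2 g⟩ =
          (fun n : M => ((ψ n : ℂˣ) : ℂ)) n := by
      intro g
      rw [hTdef, mem_linInertia]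
      constructor
      · intro hg n; exact congrArg Units.val (hg n)
      · intro hg n; exact Units.ext (hg n)
    have hMT : M ≤ T := by
      intro x hx
      rw [hTdef, mem_linInertia]
      intro n
      have h1 : (⟨x * n * x⁻¹, hMn.conj_mem (n : G) n.2 x⟩ : M) = ⟨x, hx⟩ * n * ⟨x, hx⟩⁻¹ := rfl
      rw [h1, map_mul, map_mul, map_inv, mul_comm, inv_mul_cancel_left]
    obtain ⟨-, -, h3⟩ := Helper5.clifford_corr M _ hθ T hT hMT
    obtain ⟨χ, hχ⟩ := exists_irr_over M _ hθ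
    obtain ⟨ψ₀, hψ₀, hind⟩ := h3 (χ : G → ℂ) χ.2 hχ
    refine ⟨χ, ?_⟩
    have hdeg : (χ : G → ℂ) 1 = (T.index : ℂ) * (ψ₀ : T → ℂ) 1 := by
      rw [← hind, Helper5.indFun_one]
    obtain ⟨hχ1, hχ0, hχdvd⟩ := Helper22.irr_charDegree_spec χ
    obtain ⟨hψ1, hψ0', hψdvd⟩ := Helper22.irr_charDegree_spec ψ₀
    have hdegN : charDegree (χ : G → ℂ) = T.index * charDegree (ψ₀ : T → ℂ) := by
      have h4 : ((charDegree (χ : G → ℂ) : ℕ) : ℂ) =
          ((T.index * charDegree (ψ₀ : T → ℂ) : ℕ) : ℂ) := by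
        rw [← hχ1, hdeg, hψ1]; push_cast; rfl
      exact_mod_cast h4
    have hcard : Nat.card G = Nat.card T * T.index := (Subgroup.card_mul_index T).symm
    apply le_antisymm
    · exact (Nat.factorization_le_iff_dvd hχ0 Nat.card_pos.ne').mpr hχdvd q
    · have h1 : (Nat.card G).factorization q = T.index.factorization q := by
        rw [hcard, Nat.factorization_mul Nat.card_pos.ne' Subgroup.index_ne_zero_of_finite,
          Finsupp.add_apply, Nat.factorization_eq_zero_of_not_dvd hqT, zero_add]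
      rw [h1]
      exact (Nat.factorization_le_iff_dvd Subgroup.index_ne_zero_of_finite hχ0).mpr
        (hdegN ▸ dvd_mul_right _ _) q

/-- The hypothesis "centralizers of nontrivial `p`-elements are `q'`-groups" is symmetric. -/
theorem cent_coprime_symm [Finite G] (p q : ℕ) [hp : Fact p.Prime] [Fact q.Prime]
    (hC : ∀ g : G, g ≠ 1 → (∃ k : ℕ, orderOf g = p ^ k) →
      ¬ q ∣ Nat.card ↥(Subgroup.centralizer ({g} : Set G))) :
    ∀ g : G, g ≠ 1 → (∃ k : ℕ, orderOf g = q ^ k) →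
      ¬ p ∣ Nat.card ↥(Subgroup.centralizer ({g} : Set G)) := by
  intro g hg1 ⟨k, hk⟩ hdvd
  obtain ⟨u, hu⟩ := exists_prime_orderOf_dvd_card' p hdvd
  have huG : orderOf (u : G) = p := by rw [Subgroup.orderOf_coe]; exact hu
  have hu1 : (u : G) ≠ 1 := by
    intro h1; rw [h1, orderOf_one] at huG; exact hp.out.one_lt.ne huG
  apply hC (u : G) hu1 ⟨1, by rw [huG, pow_one]⟩
  have hk0 : k ≠ 0 := by
    rintro rfl
    rw [pow_zero, orderOf_eq_one_iff] at hk
    exact hg1 hk
  have hgc : g ∈ Subgroup.centralizer ({(u : G)} : Set G) := by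
    rw [Subgroup.mem_centralizer_singleton_iff]
    have h1 := Subgroup.mem_centralizer_singleton_iff.mp u.2
    exact h1.symm
  have h1 := orderOf_dvd_natCard (⟨g, hgc⟩ : Subgroup.centralizer ({(u : G)} : Set G))
  rw [← Subgroup.orderOf_coe] at h1
  exact (dvd_pow_self q hk0).trans (hk ▸ h1)

/-- S4743. -/
theorem defzero_of_p_or_q_solvable [Finite G] (p q : ℕ) [hp : Fact p.Prime] [hq : Fact q.Prime]
    (hpq : p ≠ q) (hpG : p ∣ Nat.card G) (hqG : q ∣ Nat.card G)
    (hC : ∀ g : G, g ≠ 1 → (∃ k : ℕ, orderOf g = p ^ k) →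
      ¬ q ∣ Nat.card ↥(Subgroup.centralizer ({g} : Set G)))
    (hsolv : IsPSolvable p G ∨ IsPSolvable q G) :
    (∃ χ : IrrCharacter G,
      (charDegree (χ : G → ℂ)).factorization p = (Nat.card G).factorization p) ∨
    (∃ χ : IrrCharacter G,
      (charDegree (χ : G → ℂ)).factorization q = (Nat.card G).factorization q) := by
  rcases hsolv with h | h
  · exact defzero_of_pSolvable p q hpq hpG hC h
  · exact (defzero_of_pSolvable q p hpq.symm hqG (cent_coprime_symm p q hC) h).symm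

end Cfsg.Agent.Helper24
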